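import Mathlib.Tactic
import Mathlib.NumberTheory.Padics.PadicVal.Basic

/-!
# Arithmetic of Brauer's order formula

`Q` is the signed field order, `B` and `C` are the signed degrees of two of the five nontrivial
characters (the others have signed degrees `1 - B`, `-1 - C` and `B - 1 - C`), and `κ` is
`|C(z)| ^ 3 / (|G| |C(U)| ^ 2)`. The hypotheses are the three class multiplication equations.

* `wreathed_normal`, `wreathed_alt`: the wreathed case, for the two possible columns at the involution.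
* `qd_key`, `qd_arith`: the semidihedral case.
-/

set_option autoImplicit false
set_option linter.style.haveILetI false
set_option linter.unnecessarySeqFocus false

namespace CfsgLib.BrauerOrder.Arith

section wreathed

variable {Q B C κ : ℚ}

/-- The normal column: `Q + 2` at the second character. -/
theorem wreathed_normal (hQ : Q ≠ 0) (hQ1 : Q + 1 ≠ 0) (hQm : Q - 1 ≠ 0) (hA : 1 - B ≠ 0) (hB : B ≠ 0)
    (hC : C ≠ 0) (hY : -1 - C ≠ 0) (hF : B - 1 - C ≠ 0) (hker : B ≠ Q + 2)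
    (h1 : -1 + (Q + 1) ^ 2 / (1 - B) + (Q + 2) ^ 2 / B = κ * (4 / (Q + 1) - 1 - 1 / Q))
    (h2 : 1 + (Q - 1) ^ 2 / (-1 - C) + Q ^ 2 / C = κ * (1 - 1 / Q))
    (h3 : (Q + 1) ^ 2 / (1 - B) + Q ^ 2 / C + (2 * Q + 1) ^ 2 / (B - 1 - C) =
      κ * (4 / (Q + 1) - 1 - 1 / Q)) :
    B = Q ^ 2 + Q + 1 ∧ κ * B = (Q + 1) ^ 2 := by
  set e : ℚ := B - (Q + 2) with he
  have he0 : e ≠ 0 := sub_ne_zero.2 hker
  have hK : C ^ 2 * ((Q + 2) ^ 2 - B) + C * (e ^ 2 + 2 * B * Q * (Q + 1)) - B * Q ^ 2 * (1 - B) = 0 := by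
    have h := h1.trans h3.symm
    field_simp at h
    refine (mul_eq_zero.1 (show (1 - B) * _ = 0 from ?_)).resolve_left hA
    rw [he]
    linear_combination -h
  have h4 : C ^ 2 * (-(e ^ 2) * (Q + 1) - (1 - B) * B * (Q - 1)) +
      C * (-(e ^ 2) * (Q + 1) - 2 * Q * (1 - B) * B * (Q - 1)) - Q ^ 2 * (1 - B) * B * (Q - 1) = 0 := by
    field_simp at h1 h2
    refine (mul_eq_zero.1 (show Q * (C ^ 2 * (-(e ^ 2) * (Q + 1) - (1 - B) * B * (Q - 1)) +
      C * (-(e ^ 2) * (Q + 1) - 2 * Q * (1 - B) * B * (Q - 1)) - Q ^ 2 * (1 - B) * B * (Q - 1)) = 0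
      from ?_)).resolve_left hQ
    rw [he]
    linear_combination (C * (-1 - C)) * h1 + ((Q - 1) * (1 - B) * B) * h2
  have hlin : C * ((Q - 1) * (Q + 2) - e) = Q * (e * (2 - Q) - (Q - 1) * (Q + 2)) := by
    have hB' : B = e + Q + 2 := by rw [he]; ring
    have h : e * (C * ((Q - 1) * (Q + 2) - e) - Q * (e * (2 - Q) - (Q - 1) * (Q + 2))) * C = 0 := by
      rw [hB'] at hK h4
      linear_combination (h4 - (Q - 1) * hK) / 2
    exact sub_eq_zero.1 ((mul_eq_zero.1 ((mul_eq_zero.1 h).resolve_right hC)).resolve_left he0)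
  have hG : 2 * Q * (Q - 1) * e ^ 2 * ((e + Q + 2) * (e - (Q ^ 2 - 1))) = 0 := by
    have hB' : B = e + Q + 2 := by rw [he]; ring
    rw [hB'] at hK
    linear_combination ((Q - 1) * (Q + 2) - e) ^ 2 * hK -
      ((C * ((Q - 1) * (Q + 2) - e) + Q * (e * (2 - Q) - (Q - 1) * (Q + 2))) * ((Q + 2) ^ 2 - (e + Q + 2)) +
        ((Q - 1) * (Q + 2) - e) * (e ^ 2 + 2 * (e + Q + 2) * Q * (Q + 1))) * hlin
  have hB2 : B = Q ^ 2 + Q + 1 := by
    have h : (e + Q + 2) * (e - (Q ^ 2 - 1)) = 0 :=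
      (mul_eq_zero.1 hG).resolve_left (mul_ne_zero (mul_ne_zero (mul_ne_zero two_ne_zero hQ) hQm)
        (pow_ne_zero 2 he0))
    rcases mul_eq_zero.1 h with h | h
    · exact absurd (by linear_combination h + he) hB
    · linear_combination h - he
  refine ⟨hB2, ?_⟩
  field_simp at h1
  apply mul_left_cancel₀ (mul_ne_zero (mul_ne_zero hA hB) (pow_ne_zero 2 hQm))
  rw [hB2] at h1 ⊢
  linear_combination (Q ^ 2 + Q + 1) * h1

/-- The other column is impossible. -/
theorem wreathed_alt (hQ : Q ≠ 0) (hQ1 : Q + 1 ≠ 0) (hQm : Q - 1 ≠ 0) (hA : 1 - B ≠ 0) (hB : B ≠ 0)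
    (hC : C ≠ 0) (hY : -1 - C ≠ 0) (hF : B - 1 - C ≠ 0) (hker : B ≠ -Q)
    (h1 : -1 + (Q + 1) ^ 2 / (1 - B) + Q ^ 2 / B = κ * (4 / (Q + 1) - 1 - 1 / Q))
    (h2 : 1 + (Q - 1) ^ 2 / (-1 - C) + Q ^ 2 / C = κ * (1 - 1 / Q))
    (h3 : (Q + 1) ^ 2 / (1 - B) + Q ^ 2 / C + 1 / (B - 1 - C) =
      κ * (4 / (Q + 1) - 1 - 1 / Q)) : False := by
  set e : ℚ := B + Q with he
  have he0 : e ≠ 0 := fun h => hker (by linear_combination h - he)
  have hK : C ^ 2 * (Q ^ 2 - B) + C * (e ^ 2 - 2 * B * Q * (Q + 1)) - B * Q ^ 2 * (1 - B) = 0 := by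
    have h := h1.trans h3.symm
    field_simp at h
    refine (mul_eq_zero.1 (show (1 - B) * _ = 0 from ?_)).resolve_left hA
    rw [he]
    linear_combination -h
  have h4 : C ^ 2 * (-(e ^ 2) * (Q + 1) - (1 - B) * B * (Q - 1)) +
      C * (-(e ^ 2) * (Q + 1) - 2 * Q * (1 - B) * B * (Q - 1)) - Q ^ 2 * (1 - B) * B * (Q - 1) = 0 := by
    field_simp at h1 h2
    refine (mul_eq_zero.1 (show Q * (C ^ 2 * (-(e ^ 2) * (Q + 1) - (1 - B) * B * (Q - 1)) +
      C * (-(e ^ 2) * (Q + 1) - 2 * Q * (1 - B) * B * (Q - 1)) - Q ^ 2 * (1 - B) * B * (Q - 1)) = 0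
      from ?_)).resolve_left hQ
    rw [he]
    linear_combination (C * (-1 - C)) * h1 + ((Q - 1) * (1 - B) * B) * h2
  have hB' : B = e - Q := by rw [he]; ring
  have hlin : C * (e + Q * (Q - 1)) = -(Q * (e * (2 - Q) + Q * (Q - 1))) := by
    have h : e * (C * (e + Q * (Q - 1)) + Q * (e * (2 - Q) + Q * (Q - 1))) * C = 0 := by
      rw [hB'] at hK h4
      linear_combination -(h4 - (Q - 1) * hK) / 2
    linear_combination (mul_eq_zero.1 ((mul_eq_zero.1 h).resolve_right hC)).resolve_left he0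
  have hG : 2 * Q * (Q - 1) * e ^ 3 * (e - Q) = 0 := by
    rw [hB'] at hK
    linear_combination (e + Q * (Q - 1)) ^ 2 * hK -
      ((C * (e + Q * (Q - 1)) - Q * (e * (2 - Q) + Q * (Q - 1))) * (Q ^ 2 - (e - Q)) +
        (e + Q * (Q - 1)) * (e ^ 2 - 2 * (e - Q) * Q * (Q + 1))) * hlin
  have := (mul_eq_zero.1 hG).resolve_left (mul_ne_zero (mul_ne_zero (mul_ne_zero two_ne_zero hQ) hQm)
    (pow_ne_zero 3 he0))
  exact hB (by linear_combination this + hB')

end wreathed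

section semidihedral

/-- Divisors `D` of `q² - 1` congruent to `1` modulo `q`. -/
theorem divisor_cases {q D : ℤ} (hq : 3 ≤ |q|) (hd : D ∣ q ^ 2 - 1) (h1 : q ∣ D - 1) :
    D = 1 ∨ D = 1 - q ^ 2 ∨ D = 1 + q ∨ D = 1 - q := by
  obtain ⟨e, he⟩ := hd
  obtain ⟨k, hk⟩ := h1
  obtain ⟨l, hl⟩ : q ∣ e + 1 := ⟨q - k * e, by linear_combination -he - e * hk⟩
  have hD : D = 1 + q * k := by linear_combination hk
  have hq0 : q ≠ 0 := fun h => by rw [h, abs_zero] at hq; omega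
  have hkl : k * l * q + l - k = q := by
    apply mul_left_cancel₀ hq0
    linear_combination -he - e * hk - (1 + q * k) * hl
  have hdiff : l - k = q * (1 - k * l) := by linear_combination hkl
  by_cases hk0 : k = 0
  · left; rw [hD, hk0]; ring
  by_cases hl0 : l = 0
  · right; left
    rw [hl0] at hdiff
    rw [hD, show k = -q by linear_combination -hdiff]; ring
  have hone : k * l = 1 := by
    by_contra hne
    have h3 : 3 * |1 - k * l| ≤ |k| + |l| := by
      calc 3 * |1 - k * l| ≤ |q| * |1 - k * l| := mul_le_mul_of_nonneg_right hq (abs_nonneg _)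
        _ = |l - k| := by rw [hdiff, abs_mul]
        _ ≤ |l| + |k| := abs_sub _ _
        _ = _ := add_comm _ _
    have hA : 1 ≤ |k| := abs_pos.2 hk0
    have hL : 1 ≤ |l| := abs_pos.2 hl0
    have h4 : 1 ≤ |1 - k * l| := abs_pos.2 (sub_ne_zero.2 (Ne.symm hne))
    have h5 : |k| * |l| - 1 ≤ |1 - k * l| := by
      have := abs_sub_abs_le_abs_sub (k * l) 1
      rw [abs_mul, abs_one, abs_sub_comm] at this
      exact this
    have h6 : |k| * |l| ≥ |k| + |l| - 1 := by nlinarith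
    have h7 : |k| * |l| ≤ 2 := by nlinarith
    have hk2 : |k| ≤ 2 := by nlinarith
    have hl2 : |l| ≤ 2 := by nlinarith
    obtain ⟨hk2', hk2''⟩ := abs_le.1 hk2
    obtain ⟨hl2', hl2''⟩ := abs_le.1 hl2
    rcases le_abs.1 hq with hq' | hq' <;> interval_cases k <;> interval_cases l <;> omega
  rcases Int.eq_one_or_neg_one_of_mul_eq_one hone with rfl | rfl
  · right; right; left; rw [hD]; ring
  · right; right; right; rw [hD]; ring

theorem padic_mul_sq {r : ℕ} [Fact r.Prime] {a b : ℤ} (ha : a ≠ 0) (hb : b ≠ 0) :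
    padicValInt r (a * b ^ 2) = padicValInt r a + 2 * padicValInt r b := by
  rw [pow_two, padicValInt.mul ha (mul_ne_zero hb hb), padicValInt.mul hb hb]
  omega

/-- The formula for the ratio and the constraint between the two degrees. -/
theorem qd_key {Q B C κ : ℚ} (hQ : Q ≠ 0) (hA : 1 - B ≠ 0) (hB : B ≠ 0)
    (hC : C ≠ 0) (hF : B - 1 - C ≠ 0) (hne : C ≠ B)
    (h1 : -1 + (Q + 1) ^ 2 / (1 - B) + Q ^ 2 / B = κ * (-1 - 1 / Q))
    (h3 : (Q + 1) ^ 2 / (1 - B) + Q ^ 2 / C + 1 / (B - 1 - C) = κ * (-1 - 1 / Q)) :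
    C * (Q ^ 2 - B) = Q ^ 2 * (B - 1) ∧ κ * ((Q + 1) * B * (B - 1)) = Q * (B + Q) ^ 2 := by
  constructor
  · have h := h1.trans h3.symm
    field_simp at h
    have h' : (1 - B) * ((C - B) * (B * C + Q ^ 2 * (B - 1 - C))) = 0 := by linear_combination h
    linear_combination -((mul_eq_zero.1 ((mul_eq_zero.1 h').resolve_left hA)).resolve_left
      (sub_ne_zero.2 hne))
  · field_simp at h1
    linear_combination -h1

set_option maxHeartbeats 1000000 in
/-- The semidihedral case: regularity and the 2-parts leave the two formulas. -/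
theorem qd_arith {p n : ℕ} [hp : Fact p.Prime] (hp2 : p ≠ 2) (hn : 1 ≤ n) {g c u : ℕ} (hg : 0 < g)
    (hc : 0 < c) (hu : 0 < u)
    (hreg : 3 * padicValNat p c ≤ padicValNat p g + 2 * padicValNat p u)
    (htwo : padicValNat 2 g + 2 * padicValNat 2 u < 3 * padicValNat 2 c)
    {Q B C : ℤ} (hQ : Q = (p : ℤ) ^ n ∨ Q = -(p : ℤ) ^ n) (hA : B ≠ 1) (hB : B ≠ 0)
    (hC : C * (Q ^ 2 - B) = Q ^ 2 * (B - 1))
    (hκ : (c : ℤ) ^ 3 * ((Q + 1) * B * (B - 1)) = (g : ℤ) * (u : ℤ) ^ 2 * (Q * (B + Q) ^ 2)) :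
    ∃ ε : ℤ, (ε = 1 ∨ ε = -1) ∧ (g : ℤ) * (u : ℤ) ^ 2 * ((p : ℤ) ^ n - ε) ^ 2 =
      (c : ℤ) ^ 3 * (((p : ℤ) ^ n) ^ 2 - ε * (p : ℤ) ^ n + 1) := by
  haveI : Fact (Nat.Prime 2) := ⟨Nat.prime_two⟩
  set q : ℤ := (p : ℤ) ^ n with hqdef
  have hp3 : 3 ≤ p := by have := hp.out.two_le; omega
  have hq3 : 3 ≤ q := by
    have h1 : p ^ 1 ≤ p ^ n := Nat.pow_le_pow_right (by omega) hn
    rw [pow_one] at h1
    rw [hqdef]
    exact_mod_cast le_trans hp3 h1
  have hQabs : 3 ≤ |Q| := by rcases hQ with h | h <;> rw [h] <;> simp [abs_of_pos (show 0 < q by omega)] <;> omega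
  have hQ0 : Q ≠ 0 := fun h => by rw [h, abs_zero] at hQabs; omega
  have hQ1 : Q + 1 ≠ 0 := fun h => by
    rw [show Q = -1 by omega] at hQabs; norm_num at hQabs
  have hB1 : B - 1 ≠ 0 := sub_ne_zero.2 hA
  have hgz : (g : ℤ) ≠ 0 := by omega
  have huz : (u : ℤ) ≠ 0 := by omega
  have hcz : (c : ℤ) ^ 3 ≠ 0 := pow_ne_zero _ (by omega)
  have hBQ : B + Q ≠ 0 := fun h => by
    rw [h] at hκ; simp at hκ
    rcases hκ with h' | h' <;> omega
  have hval : ∀ r : ℕ, Fact r.Prime → 3 * padicValNat r c + (padicValInt r (Q + 1) + padicValInt r B +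
      padicValInt r (B - 1)) = padicValNat r g + 2 * padicValNat r u +
      (padicValInt r Q + 2 * padicValInt r (B + Q)) := by
    intro r hr
    have h := congrArg (padicValInt r) hκ
    rw [padicValInt.mul hcz (mul_ne_zero (mul_ne_zero hQ1 hB) hB1),
      padicValInt.mul (mul_ne_zero hQ1 hB) hB1, padicValInt.mul hQ1 hB,
      padicValInt.mul (mul_ne_zero hgz (pow_ne_zero _ huz)) (mul_ne_zero hQ0 (pow_ne_zero _ hBQ)),
      padic_mul_sq hgz huz, padic_mul_sq hQ0 hBQ] at h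
    have hc3 : padicValInt r ((c : ℤ) ^ 3) = 3 * padicValNat r c := by
      rw [pow_succ, pow_two, padicValInt.mul (mul_ne_zero (by omega) (by omega)) (by omega),
        padicValInt.mul (by omega) (by omega), padicValInt.of_nat]
      omega
    rw [hc3, padicValInt.of_nat, padicValInt.of_nat] at h
    exact h
  -- two-parts
  have hv2 : padicValInt 2 (Q + 1) + padicValInt 2 B + padicValInt 2 (B - 1) <
      padicValInt 2 Q + 2 * padicValInt 2 (B + Q) := by
    have := hval 2 inferInstance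
    omega
  have hQodd : padicValInt 2 Q = 0 := by
    refine padicValInt.eq_zero_of_not_dvd fun h => ?_
    have h' : (2 : ℤ) ∣ (p : ℤ) ^ n := by rcases hQ with e | e <;> rw [e] at h <;> simpa [hqdef] using h
    have := Int.prime_two.dvd_of_dvd_pow h'
    rcases (Nat.dvd_prime hp.out).1 (Int.natCast_dvd_natCast.1 (by exact_mod_cast this)) with e | e <;> omega
  -- the p-part
  have hpQ : padicValInt p Q = n := by
    rcases hQ with e | e <;> rw [e] <;>
      simp [hqdef, padicValInt, Int.natAbs_pow]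
  have hpQ1 : padicValInt p (Q + 1) = 0 := by
    refine padicValInt.eq_zero_of_not_dvd fun h => ?_
    have hQd : (p : ℤ) ∣ Q := by rcases hQ with e | e <;> rw [e] <;> simp [hqdef, dvd_pow_self _ (show n ≠ 0 by omega)]
    have := Int.eq_one_of_dvd_one (by omega) ((dvd_add_right hQd).1 h)
    omega
  have hvp : n + 2 * padicValInt p (B + Q) ≤ padicValInt p B + padicValInt p (B - 1) := by
    have := hval p inferInstance
    omega
  have hdvd : ∀ {k : ℕ} {x : ℤ}, k ≤ padicValInt p x → (p : ℤ) ^ k ∣ x := fun {k x} h =>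
    (pow_dvd_pow _ h).trans (padicValInt_dvd x)
  have hqQ : ∀ {x : ℤ}, q ∣ x → Q ∣ x := fun {x} h => by rcases hQ with e | e <;> rw [e] <;> simpa using h
  have hle : ∀ {k : ℕ} {x : ℤ}, x ≠ 0 → (p : ℤ) ^ k ∣ x → k ≤ padicValInt p x := fun {k x} h0 h =>
    ((padicValInt_dvd_iff (p := p) k x).1 h).resolve_left h0
  -- the shape of the degree
  have hB2 : B - Q ^ 2 ≠ 0 := fun h => by
    rw [show Q ^ 2 - B = 0 by omega, mul_zero] at hC
    exact mul_ne_zero (pow_ne_zero 2 hQ0) hB1 hC.symm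
  have hD : B - Q ^ 2 ∣ Q ^ 2 * (Q ^ 2 - 1) :=
    ⟨-C - Q ^ 2, by linear_combination -hC⟩
  have hQ2 : Q ^ 2 = q ^ 2 := by rcases hQ with e | e <;> rw [e] <;> ring
  have hcases : B = Q ^ 2 + 1 ∨ B = Q ^ 2 + Q + 1 ∨ B = Q ^ 2 - Q + 1 ∨ B = Q ^ 4 ∨ B = Q ^ 3 ∨
      B = -Q ^ 3 := by
    by_cases hpB : (p : ℤ) ∣ B
    · have hvB1 : padicValInt p (B - 1) = 0 := padicValInt.eq_zero_of_not_dvd fun h => by
        have := Int.eq_one_of_dvd_one (by omega) ((dvd_sub_right hpB).1 h); omega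
      have hb : 3 * n ≤ padicValInt p B := by
        rcases le_or_gt (padicValInt p B) n with hle' | hlt
        · have : (p : ℤ) ^ padicValInt p B ∣ B + Q := by
            refine dvd_add (padicValInt_dvd B) ((pow_dvd_pow _ hle').trans ?_)
            rcases hQ with e | e <;> rw [e] <;> simp [hqdef]
          have := hle hBQ this
          omega
        · have : (p : ℤ) ^ n ∣ B + Q := by
            refine dvd_add (hdvd hlt.le) ?_
            rcases hQ with e | e <;> rw [e] <;> simp [hqdef]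
          have := hle hBQ this
          omega
      have hq3' : q ^ 3 ∣ B := by rw [hqdef, ← pow_mul]; exact hdvd (by omega)
      obtain ⟨b, hb'⟩ := hq3'
      obtain ⟨b', hb''⟩ : ∃ b', B = Q ^ 3 * b' := by
        rcases hQ with e | e
        · exact ⟨b, by rw [e, hb']⟩
        · exact ⟨-b, by rw [e, hb']; ring⟩
      have hd : 1 - Q * b' ∣ Q ^ 2 - 1 := by
        rw [hb''] at hD
        have h := (mul_dvd_mul_iff_left (pow_ne_zero 2 hQ0)).1
          (show Q ^ 2 * (Q * b' - 1) ∣ Q ^ 2 * (Q ^ 2 - 1) by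
            rwa [show Q ^ 2 * (Q * b' - 1) = Q ^ 3 * b' - Q ^ 2 by ring])
        rwa [← neg_sub (Q * b') 1, neg_dvd]
      rcases divisor_cases hQabs hd ⟨-b', by ring⟩ with h | h | h | h
      · exfalso
        have : b' = 0 := (mul_eq_zero.1 (show Q * b' = 0 by omega)).resolve_left hQ0
        exact hB (by rw [hb'', this, mul_zero])
      · right; right; right; left
        rw [hb'']; linear_combination -Q ^ 2 * h
      · right; right; right; right; right
        rw [hb'']; linear_combination -Q ^ 2 * h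
      · right; right; right; right; left
        rw [hb'']; linear_combination -Q ^ 2 * h
    · have hvB : padicValInt p B = 0 := padicValInt.eq_zero_of_not_dvd hpB
      have hB1q : q ∣ B - 1 := hdvd (by omega)
      have h1 : Q ∣ B - Q ^ 2 - 1 := by
        rw [show B - Q ^ 2 - 1 = (B - 1) - Q * Q by ring]
        exact dvd_sub (hqQ hB1q) (dvd_mul_right _ _)
      have hcop : IsCoprime (B - Q ^ 2) (Q ^ 2) := by
        obtain ⟨k, hk⟩ := h1
        exact (IsCoprime.pow_right (show IsCoprime (B - Q ^ 2) Q from ⟨1, -k, by linear_combination hk⟩))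
      rcases divisor_cases hQabs (hcop.dvd_of_dvd_mul_left hD) h1 with h | h | h | h
      · left; linear_combination h
      · exact absurd (by linear_combination h) hA
      · right; left; linear_combination h
      · right; right; left; linear_combination h
  have hQmod : (2 : ℤ) ∣ Q + 1 ∧ (2 : ℤ) ∣ Q - 1 := by
    have h : ¬ (2 : ℤ) ∣ Q := fun h => by
      have := (padicValInt_dvd_iff (p := 2) 1 Q).1 (by simpa using h)
      omega
    constructor <;> omega
  have hQm : Q - 1 ≠ 0 := fun h => by rw [show Q = 1 by omega] at hQabs; norm_num at hQabs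
  have h2le : ∀ {k : ℕ} {x : ℤ}, x ≠ 0 → (2 : ℤ) ^ k ∣ x → k ≤ padicValInt 2 x := fun {k x} h0 h =>
    ((padicValInt_dvd_iff (p := 2) k x).1 (by simpa using h)).resolve_left h0
  have h2sq : padicValInt 2 (Q ^ 2 + 1) ≤ 1 := by
    by_contra h
    have h4 : (4 : ℤ) ∣ Q ^ 2 + 1 := by
      have := (pow_dvd_pow (2 : ℤ) (show 2 ≤ padicValInt 2 (Q ^ 2 + 1) by omega)).trans
        (padicValInt_dvd (p := 2) (Q ^ 2 + 1))
      simpa using this
    obtain ⟨k, hk⟩ := hQmod.1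
    obtain ⟨l, hl⟩ := h4
    have e : Q ^ 2 + 1 = 4 * k * k - 4 * k + 2 := by rw [show Q = 2 * k - 1 by omega]; ring
    have : (4 : ℤ) ∣ 2 := ⟨l - (k * k - k), by linarith⟩
    norm_num at this
  have h8 : 3 ≤ padicValInt 2 (Q + 1) + padicValInt 2 (Q - 1) := by
    rw [← padicValInt.mul hQ1 hQm]
    refine h2le (mul_ne_zero hQ1 hQm) ?_
    obtain ⟨k, hk⟩ := hQmod.1
    obtain ⟨m, hm⟩ := Int.even_mul_succ_self (k - 1)
    exact ⟨m, by rw [show Q = 2 * k - 1 by omega]; linear_combination 4 * hm⟩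
  rcases hcases with h | h | h | h | h | h <;> subst h
  · exfalso
    have : padicValInt 2 (Q ^ 2 + 1 + Q) = 0 := padicValInt.eq_zero_of_not_dvd fun h => by
      obtain ⟨k, hk⟩ := hQmod.1
      obtain ⟨l, hl⟩ : (2 : ℤ) ∣ Q ^ 2 + 1 + Q := by simpa using h
      have e : Q ^ 2 + 1 + Q = 2 * (2 * k * k - k) + 1 := by rw [show Q = 2 * k - 1 by omega]; ring
      omega
    omega
  · refine ⟨if Q = q then -1 else 1, by split_ifs <;> simp, ?_⟩
    have hc' : (c : ℤ) ^ 3 * (Q ^ 2 + Q + 1) = (g : ℤ) * (u : ℤ) ^ 2 * (Q + 1) ^ 2 := by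
      apply mul_left_cancel₀ (mul_ne_zero hQ1 (mul_ne_zero hQ0 hQ1))
      linear_combination hκ
    split_ifs with e
    · rw [e] at hc'; linear_combination -hc'
    · rw [hQ.resolve_left e] at hc'; linear_combination -hc'
  · exfalso
    rw [show Q ^ 2 - Q + 1 + Q = Q ^ 2 + 1 by ring, show Q ^ 2 - Q + 1 - 1 = Q * (Q - 1) by ring,
      padicValInt.mul hQ0 hQm] at hv2
    omega
  · exfalso
    have hc3 : (2 : ℤ) * 1 ∣ Q ^ 4 - 1 := ⟨(Q ^ 4 - 1) / 2, by
      have : (2 : ℤ) ∣ Q ^ 4 - 1 := (hQmod.2).trans ⟨(Q + 1) * (Q ^ 2 + 1), by ring⟩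
      omega⟩
    have hs : Q ^ 2 - Q + 1 ≠ 0 := by nlinarith
    have hs0 : padicValInt 2 (Q ^ 2 - Q + 1) = 0 := padicValInt.eq_zero_of_not_dvd fun h => by
      obtain ⟨k, hk⟩ := hQmod.1
      obtain ⟨l, hl⟩ : (2 : ℤ) ∣ Q ^ 2 - Q + 1 := by simpa using h
      have e : Q ^ 2 - Q + 1 = 2 * (2 * k * k - 3 * k + 1) + 1 := by rw [show Q = 2 * k - 1 by omega]; ring
      omega
    rw [show Q ^ 4 + Q = Q * ((Q + 1) * (Q ^ 2 - Q + 1)) by ring,
      show Q ^ 4 - 1 = (Q + 1) * ((Q - 1) * (Q ^ 2 + 1)) by ring,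
      padicValInt.mul hQ0 (mul_ne_zero hQ1 hs), padicValInt.mul hQ1 hs,
      padicValInt.mul hQ1 (mul_ne_zero hQm (by nlinarith))] at hv2
    have h1 := h2le (k := 1) (mul_ne_zero hQm (show Q ^ 2 + 1 ≠ 0 by nlinarith))
      (by simpa using (hQmod.2).mul_right (Q ^ 2 + 1))
    omega
  · exfalso
    have hs : Q ^ 2 + Q + 1 ≠ 0 := by nlinarith
    rw [show Q ^ 3 + Q = Q * (Q ^ 2 + 1) by ring, show Q ^ 3 - 1 = (Q - 1) * (Q ^ 2 + Q + 1) by ring,
      padicValInt.mul hQ0 (show Q ^ 2 + 1 ≠ 0 by nlinarith), padicValInt.mul hQm hs] at hv2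
    omega
  · refine ⟨if Q = q then 1 else -1, by split_ifs <;> simp, ?_⟩
    have hc' : (c : ℤ) ^ 3 * (Q ^ 2 - Q + 1) = (g : ℤ) * (u : ℤ) ^ 2 * (Q - 1) ^ 2 := by
      apply mul_left_cancel₀ (mul_ne_zero (pow_ne_zero 3 hQ0) (mul_ne_zero hQ1 hQ1))
      linear_combination hκ
    split_ifs with e
    · rw [e] at hc'; linear_combination -hc'
    · rw [hQ.resolve_left e] at hc'; linear_combination -hc'

end semidihedral

end CfsgLib.BrauerOrder.Arith
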