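import Cfsg.Agent.Lib.BrauerOrder.Isom

/-!
# The automiser of the torus with the four-group

An automorphism `r` of order three of `T true`, induced by the simple group, permutes the three involutions
cyclically, is inverted by `n true` and fixes no nontrivial element.
-/

set_option autoImplicit false
set_option linter.unusedSectionVars false
set_option linter.style.haveILetI false

namespace CfsgLib.BrauerOrder

open Cfsg CfsgLib.CharTheory

universe u v

variable {G : Type u} [Group G] [Fintype G] {z : G} [Fintype (Cz z)] {Ω : Type v} [MulAction (Cz z) Ω]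
  {D : Sys G z} (hD : D.Spec Ω)

/-- The torus with the four-group, in `G`. -/
def Sys.UG (D : Sys G z) : Subgroup G := (D.core.T true).map (Subgroup.subtype _)

include hD

theorem w_ne : D.w ≠ 1 ∧ D.w ≠ D.zc ∧ D.zc * D.w ≠ 1 ∧ D.zc * D.w ≠ D.zc ∧ D.zc * D.w ≠ D.w := by
  refine ⟨fun e => hD.wZ (e ▸ one_mem _), fun e => hD.wZ (e ▸ hD.zcZ), fun e => hD.wZ ?_,
    fun e => hD.wZ ?_, fun e => (zc_ne hD).1 ?_⟩
  · rw [eq_inv_of_mul_eq_one_right e]; exact inv_mem hD.zcZ
  · rw [mul_left_cancel (e.trans (mul_one D.zc).symm)]; exact one_mem _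
  · exact mul_right_cancel (e.trans (one_mul D.w).symm)

theorem zcU : D.zc ∈ D.core.T true := hD.core.zle true hD.zcZ

theorem zw_sq : D.zc * D.w * (D.zc * D.w) = 1 := by
  rw [show D.zc * D.w * (D.zc * D.w) = D.zc * (D.w * D.zc) * D.w by group, zc_comm hD D.w,
    ← mul_assoc, (zc_ne hD).2, one_mul, hD.wsq]

theorem nu_w : D.core.n true * (D.zc * D.w) * (D.core.n true)⁻¹ = D.w := by
  rw [show D.core.n true * (D.zc * D.w) * (D.core.n true)⁻¹ =
    D.core.n true * D.zc * (D.core.n true)⁻¹ * (D.core.n true * D.w * (D.core.n true)⁻¹) by group, hD.nw,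
    zc_comm hD (D.core.n true), mul_inv_cancel_right, ← mul_assoc, (zc_ne hD).2, one_mul]

/-- A nontrivial element of the torus has a power among the three involutions. -/
theorem exists_invol {t : Cz z} (ht : t ∈ D.core.T true) (h1 : t ≠ 1) :
    ∃ i : ℕ, t ^ i = D.zc ∨ t ^ i = D.w ∨ t ^ i = D.zc * D.w := by
  obtain ⟨a, ha⟩ := two_of_mem hD.core ht
  rcases Nat.eq_zero_or_pos a with rfl | ha0
  · exact absurd (orderOf_eq_one_iff.1 (by rw [ha, pow_zero])) h1
  refine ⟨2 ^ (a - 1), (hD.invU _ (pow_mem ht _) ?_).resolve_left ?_⟩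
  · rw [← pow_add, ← two_mul, ← pow_succ', Nat.sub_add_cancel ha0, ← ha, pow_orderOf_eq_one]
  · exact pow_ne_one_of_lt_orderOf (by positivity) (by rw [ha]; exact Nat.pow_lt_pow_right (by norm_num) (by omega))

/-- An element of the torus has at most one power which is an involution. -/
theorem invol_pow_unique {t a b : Cz z} {i j : ℕ} (hi : t ^ i = a) (hj : t ^ j = b) (ha : a * a = 1)
    (hb : b * b = 1) (ha1 : a ≠ 1) (hb1 : b ≠ 1) : a = b := by
  have hord : ∀ {c : Cz z}, c * c = 1 → c ≠ 1 → orderOf c = 2 := fun h h1 =>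
    orderOf_eq_prime (by rw [sq, h]) h1
  refine Subtype.ext (invol_unique (g := (t : G)) (i := i) (j := j) ?_ ?_ ?_ ?_)
  · rw [← hi]; rfl
  · rw [← hj]; rfl
  · rw [Subgroup.orderOf_coe, hord ha ha1]
  · rw [Subgroup.orderOf_coe, hord hb hb1]

/-- An element of `G` normalising the torus and fixing the involution acts as `1` or as `n true`. -/
theorem stab_zc {φ : ↥(D.core.T true) ≃* ↥(D.core.T true)} {g : G}
    (hφ : ∀ t : ↥(D.core.T true), ((φ t : Cz z) : G) = g * ((t : Cz z) : G) * g⁻¹)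
    (hz : (φ ⟨D.zc, zcU hD⟩ : Cz z) = D.zc) :
    (∀ t, φ t = t) ∨ ∀ t, (φ t : Cz z) = D.core.n true * t * (D.core.n true)⁻¹ := by
  have hgz : g * z = z * g := by
    have h := hφ ⟨D.zc, zcU hD⟩
    rw [hz] at h
    simp only [hD.zcv] at h
    calc g * z = g * z * g⁻¹ * g := by group
      _ = z * g := by rw [← h]
  set c : Cz z := ⟨g, Subgroup.mem_centralizer_singleton_iff.2 hgz⟩
  have hc : ∀ t : ↥(D.core.T true), (φ t : Cz z) = c * t * c⁻¹ := fun t => Subtype.ext (hφ t)
  have hor : ∀ t : ↥(D.core.T true), φ t = t ∨ (φ t : Cz z) = D.core.n true * t * (D.core.n true)⁻¹ := by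
    intro t
    by_cases htz : (t : Cz z) ∈ D.core.Z
    · left
      refine Subtype.ext (mul_inv_eq_one.1 (odd_S_trivial hD.core ?_
        (two_of_mem hD.core (mul_mem (φ t).2 (inv_mem t.2)))))
      rw [hc]
      exact hD.core.zcent _ htz c
    · by_cases hφz : (φ t : Cz z) ∈ D.core.Z
      · exfalso
        refine htz ?_
        have h2 : φ t = φ (φ.symm (φ t)) := (φ.apply_symm_apply _).symm
        have h3 : c⁻¹ * (φ t : Cz z) * c * (φ t : Cz z)⁻¹ ∈ D.core.O := by
          simpa using hD.core.zcent _ hφz c⁻¹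
        rw [show c⁻¹ * (φ t : Cz z) * c = t by rw [hc]; group] at h3
        have h4 := mul_inv_eq_one.1 (odd_S_trivial hD.core h3
          (two_of_mem hD.core (mul_mem t.2 (inv_mem (φ t).2))))
        rw [h4]; exact hφz
      · rcases hD.core.uniq true t t.2 htz (φ t) (φ t).2 hφz (isConj_iff.2 ⟨c, (hc t).symm⟩) with e | e
        · exact Or.inl (Subtype.ext e)
        · exact Or.inr e
  by_contra hne
  push Not at hne
  obtain ⟨⟨a, ha⟩, b, hb⟩ := hne
  have ha' := (hor a).resolve_left ha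
  have hb' := (hor b).resolve_right hb
  rcases hor (a * b) with e | e
  · rw [map_mul, hb'] at e
    exact ha (mul_right_cancel e)
  · refine hb ?_
    rw [map_mul, Subgroup.coe_mul, ha', Subgroup.coe_mul] at e
    rw [hb']
    calc (b : Cz z) = (D.core.n true * a * (D.core.n true)⁻¹)⁻¹ * (D.core.n true * a * (D.core.n true)⁻¹ * (b : Cz z)) := by
          group
      _ = (D.core.n true * a * (D.core.n true)⁻¹)⁻¹ * (D.core.n true * (a * b) * (D.core.n true)⁻¹) := by
          rw [← e, hb']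
      _ = _ := by group

/-- The data of the automorphism of order three. -/
structure Sys.Auto (D : Sys G z) (r : ↥(D.core.T true) ≃* ↥(D.core.T true)) (g : G) : Prop where
  conj : ∀ t : ↥(D.core.T true), ((r t : Cz z) : G) = g * ((t : Cz z) : G) * g⁻¹
  cube : ∀ t, r (r (r t)) = t
  onZ : ∀ h, (r ⟨D.zc, h⟩ : Cz z) = D.w
  onW : ∀ h, (r ⟨D.w, h⟩ : Cz z) = D.zc * D.w
  onZW : ∀ h, (r ⟨D.zc * D.w, h⟩ : Cz z) = D.zc
  inv : ∀ t : ↥(D.core.T true), ∀ h,
    (r ⟨D.core.n true * ((r t : Cz z)) * (D.core.n true)⁻¹, h⟩ : Cz z) = D.core.n true * t * (D.core.n true)⁻¹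
  free : ∀ t, r t = t → t = 1

theorem exists_auto : ∃ r g, D.Auto r g := by
  classical
  haveI : Fact (Nat.Prime 3) := ⟨Nat.prime_three⟩
  let UU := D.core.T true
  let e : ↥UU ≃* ↥(D.UG) := UU.equivMapOfInjective _ (Subgroup.subtype_injective _)
  let N := Subgroup.normalizer (D.UG : Set G)
  let ψ : N →* MulAut ↥(D.UG) := D.UG.normalizerMonoidHom
  have hker : ψ.ker = (Subgroup.centralizer (D.UG : Set G)).subgroupOf N :=
    Subgroup.normalizerMonoidHom_ker _
  have hcard : Nat.card ψ.range = 6 := by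
    rw [← Subgroup.index_ker, hker]
    exact hD.aut
  obtain ⟨⟨a, g, hg⟩, ha⟩ := exists_prime_orderOf_dvd_card' (G := ψ.range) 3 (by rw [hcard]; norm_num)
  replace ha : orderOf a = 3 := (Subgroup.orderOf_coe _).trans ha
  let rA : ↥UU ≃* ↥UU := e.trans (a.trans e.symm)
  have hconj : ∀ t : ↥UU, ((rA t : Cz z) : G) = (g : G) * ((t : Cz z) : G) * (g : G)⁻¹ := by
    intro t
    have h1 : ((rA t : Cz z) : G) = (a (e t) : G) := by
      show ((e.symm (a (e t)) : Cz z) : G) = _
      conv_rhs => rw [← e.apply_symm_apply (a (e t))]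
      rfl
    rw [h1, ← hg]
    rfl
  have ha3 : a ^ 3 = 1 := ha ▸ pow_orderOf_eq_one a
  have hcube : ∀ t, rA (rA (rA t)) = t := by
    intro t
    show e.symm (a (e (e.symm (a (e (e.symm (a (e t)))))))) = t
    rw [e.apply_symm_apply, e.apply_symm_apply, show a (a (a (e t))) = (a ^ 3) (e t) from rfl, ha3]
    exact e.symm_apply_apply t
  have hne : ∃ t, rA t ≠ t := by
    by_contra hall
    push Not at hall
    refine (show a ≠ 1 from fun h => by rw [h, orderOf_one] at ha; norm_num at ha) (MulEquiv.ext fun s => ?_)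
    have h := congrArg e (hall (e.symm s))
    show a s = s
    simpa [rA] using h
  -- no involution is fixed
  have hfix0 : ∀ (r : ↥UU ≃* ↥UU) (g : G), (∀ t : ↥UU, ((r t : Cz z) : G) = g * ((t : Cz z) : G) * g⁻¹) →
      (∀ t, r (r (r t)) = t) → (∃ t, r t ≠ t) → (r ⟨D.zc, zcU hD⟩ : Cz z) ≠ D.zc := by
    rintro r g hr h3 ⟨t, ht⟩ hz
    rcases stab_zc hD hr hz with h | h
    · exact ht (h t)
    · refine ht (Subtype.ext ?_)
      have h2 : r (r t) = t := Subtype.ext (by
        rw [h, h, show D.core.n true * (D.core.n true * (t : Cz z) * (D.core.n true)⁻¹) * (D.core.n true)⁻¹ =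
          D.core.n true * D.core.n true * t * (D.core.n true * D.core.n true)⁻¹ by group,
          hD.core.tcomm true _ (hD.core.nsq true) t t.2, mul_inv_cancel_right])
      have h4 := h3 t
      rw [h2] at h4
      rw [h4]
  obtain ⟨n1, n2, n3, n4, n5⟩ := w_ne hD
  have hperm : ∀ (r : ↥UU ≃* ↥UU) (s : ↥UU), (s : Cz z) * s = 1 → (s : Cz z) ≠ 1 →
      (r s : Cz z) = D.zc ∨ (r s : Cz z) = D.w ∨ (r s : Cz z) = D.zc * D.w := by
    intro r s h2 h1
    refine (hD.invU _ (r s).2 ?_).resolve_left ?_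
    · rw [← Subgroup.coe_mul, ← map_mul, show s * s = 1 from Subtype.ext h2, map_one]; rfl
    · intro e'
      have : r s = r 1 := by rw [map_one]; exact Subtype.ext e'
      exact h1 (congrArg Subtype.val (r.injective this))
  -- one of `r`, `r²` maps `zc` to `w`
  obtain ⟨r, g', hr, h3, hrne, hrz⟩ : ∃ (r : ↥UU ≃* ↥UU) (g : G),
      (∀ t : ↥UU, ((r t : Cz z) : G) = g * ((t : Cz z) : G) * g⁻¹) ∧ (∀ t, r (r (r t)) = t) ∧
      (∃ t, r t ≠ t) ∧ (r ⟨D.zc, zcU hD⟩ : Cz z) = D.w := by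
    rcases hperm rA ⟨D.zc, zcU hD⟩ (zc_ne hD).2 (zc_ne hD).1 with h | h | h
    · exact absurd h (hfix0 rA g hconj hcube hne)
    · exact ⟨rA, g, hconj, hcube, hne, h⟩
    · refine ⟨rA.trans rA, (g : G) * g, fun t => ?_, fun t => ?_, ?_, ?_⟩
      · show ((rA (rA t) : Cz z) : G) = _
        rw [hconj, hconj]; group
      · show rA (rA (rA (rA (rA (rA t))))) = t
        rw [hcube, hcube]
      · obtain ⟨t, ht⟩ := hne
        refine ⟨t, fun hh => ht ?_⟩
        have h4 := hcube t
        rw [show rA (rA t) = t from hh] at h4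
        exact h4
      · show (rA (rA ⟨D.zc, zcU hD⟩) : Cz z) = D.w
        rcases hperm rA _ (show ((rA ⟨D.zc, zcU hD⟩ : Cz z)) * (rA ⟨D.zc, zcU hD⟩ : Cz z) = 1 by
          rw [h, zw_sq hD]) (by rw [h]; exact n3) with k | k | k
        · exfalso
          refine hfix0 rA g hconj hcube hne ?_
          have h4 := hcube ⟨D.zc, zcU hD⟩
          rw [show rA (rA ⟨D.zc, zcU hD⟩) = ⟨D.zc, zcU hD⟩ from Subtype.ext k] at h4
          rw [h4]
        · exact k
        · exact absurd (rA.injective (Subtype.ext (k.trans h.symm)))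
            (fun e' => n4 (h.symm.trans (congrArg Subtype.val e')))
  have hnofix := hfix0 r g' hr h3 hrne
  have hrw : ∀ h, (r ⟨D.w, h⟩ : Cz z) = D.zc * D.w := by
    intro h
    rcases hperm r ⟨D.w, h⟩ hD.wsq n1 with k | k | k
    · exfalso
      refine hnofix ?_
      have h4 := h3 ⟨D.zc, zcU hD⟩
      rw [show r ⟨D.zc, zcU hD⟩ = ⟨D.w, h⟩ from Subtype.ext hrz,
        show r ⟨D.w, h⟩ = ⟨D.zc, zcU hD⟩ from Subtype.ext k] at h4
      rw [h4]
    · exact absurd (r.injective (Subtype.ext (k.trans hrz.symm))) (fun e' => n2 (congrArg Subtype.val e'))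
    · exact k
  have hrzw : ∀ h, (r ⟨D.zc * D.w, h⟩ : Cz z) = D.zc := by
    intro h
    have h4 := h3 ⟨D.zc, zcU hD⟩
    rw [show r ⟨D.zc, zcU hD⟩ = ⟨D.w, hD.wT⟩ from Subtype.ext hrz,
      show r ⟨D.w, hD.wT⟩ = ⟨D.zc * D.w, h⟩ from Subtype.ext (hrw _)] at h4
    rw [h4]
  -- the commutation with `n true`
  let nu : ↥UU ≃* ↥UU :=
    { toFun := fun t => ⟨D.core.n true * t * (D.core.n true)⁻¹, hD.core.nnorm true t t.2⟩
      invFun := fun t => ⟨D.core.n true * t * (D.core.n true)⁻¹, hD.core.nnorm true t t.2⟩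
      left_inv := fun t => Subtype.ext (by
        show D.core.n true * (D.core.n true * (t : Cz z) * (D.core.n true)⁻¹) * (D.core.n true)⁻¹ = t
        rw [show D.core.n true * (D.core.n true * (t : Cz z) * (D.core.n true)⁻¹) * (D.core.n true)⁻¹ =
          D.core.n true * D.core.n true * t * (D.core.n true * D.core.n true)⁻¹ by group,
          hD.core.tcomm true _ (hD.core.nsq true) t t.2, mul_inv_cancel_right])
      right_inv := fun t => Subtype.ext (by
        show D.core.n true * (D.core.n true * (t : Cz z) * (D.core.n true)⁻¹) * (D.core.n true)⁻¹ = t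
        rw [show D.core.n true * (D.core.n true * (t : Cz z) * (D.core.n true)⁻¹) * (D.core.n true)⁻¹ =
          D.core.n true * D.core.n true * t * (D.core.n true * D.core.n true)⁻¹ by group,
          hD.core.tcomm true _ (hD.core.nsq true) t t.2, mul_inv_cancel_right])
      map_mul' := fun x y => Subtype.ext (by simp [mul_assoc]) }
  have hnuz : nu ⟨D.zc, zcU hD⟩ = ⟨D.zc, zcU hD⟩ := Subtype.ext ((hD.core.nfix true _ (zcU hD)).2 hD.zcZ)
  have hnu2 : ∀ t, nu (nu t) = t := nu.left_inv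
  have hzwU : D.zc * D.w ∈ UU := mul_mem (zcU hD) hD.wT
  -- `φ = r ν r ν` fixes `zc`
  let φ : ↥UU ≃* ↥UU := nu.trans (r.trans (nu.trans r))
  have hφz : (φ ⟨D.zc, zcU hD⟩ : Cz z) = D.zc := by
    show (r (nu (r (nu ⟨D.zc, zcU hD⟩))) : Cz z) = D.zc
    rw [hnuz, show r ⟨D.zc, zcU hD⟩ = ⟨D.w, hD.wT⟩ from Subtype.ext hrz,
      show nu ⟨D.w, hD.wT⟩ = ⟨D.zc * D.w, hzwU⟩ from Subtype.ext hD.nw]
    exact hrzw _
  have hφ : ∀ t : ↥UU, ((φ t : Cz z) : G) = g' * (D.core.n true : G) * g' * (D.core.n true : G) *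
      ((t : Cz z) : G) * (g' * (D.core.n true : G) * g' * (D.core.n true : G))⁻¹ := by
    intro t
    show ((r (nu (r (nu t))) : Cz z) : G) = _
    rw [hr]
    show g' * (((D.core.n true * (r (nu t) : Cz z) * (D.core.n true)⁻¹) : Cz z) : G) * g'⁻¹ = _
    push_cast
    rw [hr]
    show g' * ((D.core.n true : G) * (g' * ((((D.core.n true * (t : Cz z) * (D.core.n true)⁻¹)) : Cz z) : G) * g'⁻¹) *
      (D.core.n true : G)⁻¹) * g'⁻¹ = _
    push_cast
    group
  have hφid : ∀ t, φ t = t := by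
    rcases stab_zc hD hφ hφz with h | h
    · exact h
    · exfalso
      have h5 := h ⟨D.w, hD.wT⟩
      rw [hD.nw] at h5
      refine n5 (h5.symm.trans ?_)
      show (r (nu (r (nu ⟨D.w, hD.wT⟩))) : Cz z) = D.w
      rw [show nu ⟨D.w, hD.wT⟩ = ⟨D.zc * D.w, hzwU⟩ from Subtype.ext hD.nw,
        show r ⟨D.zc * D.w, hzwU⟩ = ⟨D.zc, zcU hD⟩ from Subtype.ext (hrzw _), hnuz]
      exact hrz
  have hinv : ∀ t, r (nu (r t)) = nu t := fun t => by
    have h6 := hφid (nu t)
    show r (nu (r t)) = nu t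
    rw [show φ (nu t) = r (nu (r (nu (nu t)))) from rfl, hnu2] at h6
    exact h6
  refine ⟨r, g', hr, h3, fun _ => hrz, hrw, hrzw, fun t h => congrArg Subtype.val (hinv t), fun t ht => ?_⟩
  by_contra h1
  obtain ⟨i, hi⟩ := exists_invol hD t.2 (fun e' => h1 (Subtype.ext e'))
  have hfix : r (t ^ i) = t ^ i := by rw [map_pow, ht]
  have hv := congrArg Subtype.val hfix
  rcases hi with k | k | k
  · rw [show t ^ i = (⟨D.zc, zcU hD⟩ : ↥UU) from Subtype.ext k] at hfix
    exact hnofix (congrArg Subtype.val hfix)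
  · rw [show t ^ i = (⟨D.w, hD.wT⟩ : ↥UU) from Subtype.ext k] at hfix
    exact n5 ((hrw _).symm.trans (congrArg Subtype.val hfix))
  · rw [show t ^ i = (⟨D.zc * D.w, hzwU⟩ : ↥UU) from Subtype.ext k] at hfix
    exact n4 ((congrArg Subtype.val hfix).symm.trans (hrzw _))

theorem zcw_conj : IsConj (D.w : G) z := by
  obtain ⟨r, g, hr⟩ := exists_auto hD
  have h := hr.conj ⟨D.zc, zcU hD⟩
  rw [hr.onZ, hD.zcv] at h
  exact (isConj_iff.2 ⟨g, h.symm⟩).symm

end CfsgLib.BrauerOrder
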