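import Cfsg.Agent.Lib.BrauerOrder.Isom
import Cfsg.Agent.Lib.CharTheory.CyclicTI2

/-!
# The coordinates of the cyclic torus

For a linear character `φ` of `T false`, the products of the induced function `R φ - R 1` with the six
characters.
-/

set_option autoImplicit false
set_option linter.unusedSectionVars false
set_option linter.style.haveILetI false

namespace CfsgLib.BrauerOrder

open Cfsg CfsgLib.CharTheory CfsgLib.Blocks
open scoped ComplexConjugate

universe u v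

section Six

variable {G : Type u} [Group G] [Fintype G]

/-- An orthonormal family of six signed irreducible characters. -/
structure Orth6 (e : Fin 6 → G → ℂ) : Prop where
  signed : ∀ i, IsSignedIrr (e i)
  orth : ∀ i j, classInner (e i) (e j) = if i = j then 1 else 0

variable {e : Fin 6 → G → ℂ} (he : Orth6 e)
include he

theorem sum_six_inner (c : Fin 6 → ℤ) (j : Fin 6) :
    classInner (∑ i, (c i : ℂ) • e i) (e j) = (c j : ℂ) := by
  rw [classInner_sum_left]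
  simp only [classInner_smul_left, he.orth, mul_ite, mul_one, mul_zero, Finset.sum_ite_eq', Finset.mem_univ,
    if_true]

theorem bessel {φ : G → ℂ} (hφ : IsGeneralizedCharacter G φ) {c : Fin 6 → ℤ}
    (hc : ∀ i, classInner φ (e i) = (c i : ℂ)) {N : ℤ} (hN : classInner φ φ = (N : ℂ)) :
    ∑ i, c i ^ 2 ≤ N ∧ (∑ i, c i ^ 2 = N → φ = ∑ i, (c i : ℂ) • e i) := by
  set S := ∑ i, (c i : ℂ) • e i with hS
  have hg : IsGeneralizedCharacter G S := isGenChar_sum _ _ fun i _ =>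
    isGenChar_intSmul (c i) (signed_gen (he.signed i))
  obtain ⟨n, hn, hn0⟩ := norm_int (isGenChar_sub hφ hg)
  have h1 : classInner φ S = ((∑ i, c i ^ 2 : ℤ) : ℂ) := by
    rw [hS, classInner_sum_right]
    push_cast
    exact Finset.sum_congr rfl fun i _ => by rw [classInner_smul_right, hc, map_intCast, sq]
  have h2 : classInner S φ = ((∑ i, c i ^ 2 : ℤ) : ℂ) := by rw [← classInner_comm, h1, map_intCast]
  have h3 : classInner S S = ((∑ i, c i ^ 2 : ℤ) : ℂ) := by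
    nth_rewrite 2 [hS]
    rw [classInner_sum_right]
    push_cast
    exact Finset.sum_congr rfl fun i _ => by rw [classInner_smul_right, sum_six_inner he, map_intCast, sq]
  rw [classInner_sub_left, classInner_sub_right, classInner_sub_right, hN, h1, h2, h3] at hn
  have e' : N - ∑ i, c i ^ 2 = (n : ℤ) := by
    have : ((N - ∑ i, c i ^ 2 : ℤ) : ℂ) = ((n : ℤ) : ℂ) := by push_cast at hn ⊢; linear_combination hn
    exact_mod_cast this
  exact ⟨by omega, fun h => sub_eq_zero.1 (hn0 (by omega))⟩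

theorem bessel_six {φ : G → ℂ} (hφ : IsGeneralizedCharacter G φ) {c : Fin 6 → ℤ}
    (hc : ∀ i, classInner φ (e i) = (c i : ℂ)) {N : ℤ} (hN : classInner φ φ = (N : ℂ)) :
    c 0 ^ 2 + c 1 ^ 2 + c 2 ^ 2 + c 3 ^ 2 + c 4 ^ 2 + c 5 ^ 2 ≤ N ∧
      (c 0 ^ 2 + c 1 ^ 2 + c 2 ^ 2 + c 3 ^ 2 + c 4 ^ 2 + c 5 ^ 2 = N →
        ∀ ⦃ψ : G → ℂ⦄ ⦃d : Fin 6 → ℤ⦄, (∀ i, classInner ψ (e i) = (d i : ℂ)) →
          classInner φ ψ = ((c 0 * d 0 + c 1 * d 1 + c 2 * d 2 + c 3 * d 3 + c 4 * d 4 + c 5 * d 5 : ℤ) : ℂ)) := by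
  obtain ⟨h1, h2⟩ := bessel he hφ hc hN
  rw [Fin.sum_univ_six] at h1
  refine ⟨h1, fun h ψ d hd => ?_⟩
  rw [h2 (by rw [Fin.sum_univ_six]; exact h), classInner_sum_left, Fin.sum_univ_six]
  have hd' : ∀ i, classInner (e i) ψ = (d i : ℂ) := fun i => by rw [← classInner_comm, hd i, map_intCast]
  simp only [classInner_smul_left, hd']
  push_cast
  rfl

theorem coords {φ : G → ℂ} (hφ : IsGeneralizedCharacter G φ) :
    ∃ c : Fin 6 → ℤ, ∀ i, classInner φ (e i) = (c i : ℂ) :=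
  ⟨fun i => (coeff_int hφ (he.signed i)).choose, fun i => (coeff_int hφ (he.signed i)).choose_spec⟩

end Six

theorem char_mul_self {α : Type*} [Monoid α] {a b : α →* ℂˣ} (h : a * b = a) : b = 1 :=
  MonoidHom.ext fun t => by simpa using DFunLike.congr_fun h t

variable {G : Type u} [Group G] [Fintype G] {z : G} [Fintype (Cz z)] {Ω : Type v} [MulAction (Cz z) Ω]
  {D : Sys G z} (hD : D.Spec Ω) {M : Ideal AlgInt} {e : Fin 6 → G → ℂ}

theorem Sys.Six.orth6 (he : D.Six Ω M e) : Orth6 e := ⟨he.signed, he.orth⟩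

/-- The induced difference of two functions of the cyclic torus. -/
noncomputable def Sys.V (D : Sys G z) (Ω : Type v) [MulAction (Cz z) Ω] (φ ψ : ↥(D.core.T false) →* ℂˣ) :
    G → ℂ :=
  D.up (D.core.R Ω false φ - D.core.R Ω false ψ)

/-- The orbit of `θ`. -/
def Sys.ThOrbit (hD : D.Spec Ω) (φ : ↥(D.core.T false) →* ℂˣ) : Prop :=
  φ = D.θ ∨ φ = D.core.conjChar (hD.core.nnorm false) D.θ

include hD

open Classical in
/-- Products of `R false φ` with the three functions. -/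
theorem inner_RN_th (φ : ↥(D.core.T false) →* ℂˣ) :
    classInner (D.core.R Ω false φ) D.one = (if φ = 1 then 1 else 0) ∧
    classInner (D.core.R Ω false φ) (D.th1 Ω) = -(if φ = 1 then 1 else 0) + (if φ = D.lamT false then 1 else 0) ∧
    classInner (D.core.R Ω false φ) (D.th1' Ω) = (if φ = 1 then 1 else 0) - (if φ = D.lamT false then 1 else 0) ∧
    classInner (D.core.R Ω false φ) (D.th2 Ω) =
      (if Sys.ThOrbit hD φ then 1 else 0) - 2 * (if φ = 1 then 1 else 0) := by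
  obtain ⟨h1, h2, h3, h4⟩ := inner_RN hD φ
  have hR : classInner (D.core.R Ω false φ) (D.Rh Ω) = 0 := classInner_R_ne hD.core (by decide) _ _
  have hT : classInner (D.core.R Ω false φ) (D.Th Ω) = if Sys.ThOrbit hD φ then 1 else 0 := by
    rw [Sys.Th, classInner_R_R hD.core]
    by_cases a : φ = D.θ
    · subst a
      rw [if_pos rfl, if_neg hD.thne, if_pos (show Sys.ThOrbit hD _ from Or.inl rfl), add_zero]
    · by_cases b : φ = D.core.conjChar (hD.core.nnorm false) D.θ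
      · subst b
        rw [if_neg a, if_pos (conjChar_conjChar hD false D.θ), if_pos (show Sys.ThOrbit hD _ from Or.inr rfl), zero_add]
      · rw [if_neg a, if_neg (fun h => b (by rw [← h, conjChar_conjChar hD false φ])),
          if_neg (show ¬ Sys.ThOrbit hD φ from not_or.2 ⟨a, b⟩), add_zero]
  have h5 : classInner (D.core.R Ω false φ) (D.core.R Ω false 1) = 2 * (if φ = 1 then 1 else 0) := by
    rw [inner_R_fixed hD false φ 1 (conjChar_one hD false)]
    split_ifs <;> norm_num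
  refine ⟨h1, ?_, ?_, ?_⟩
  · rw [Sys.th1, classInner_sub_right, classInner_sub_right, hR, h1, h4]
    split_ifs <;> norm_num
  · rw [Sys.th1', classInner_sub_right, classInner_sub_right, hR, h3, h2]
    split_ifs <;> norm_num
  · rw [Sys.th2, classInner_sub_right, hT, h5]

variable (hgen : ∀ (b : Bool) (τ : ↥(D.core.T b) →* ℂˣ), IsGeneralizedCharacter (Cz z) (D.core.R Ω b τ))
  (he : D.Six Ω M e)

include hgen in
omit hgen in
theorem V_gen (hgen : ∀ (b : Bool) (τ : ↥(D.core.T b) →* ℂˣ), IsGeneralizedCharacter (Cz z) (D.core.R Ω b τ))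
    (φ ψ : ↥(D.core.T false) →* ℂˣ) : IsGeneralizedCharacter G (D.V Ω φ ψ) :=
  isGenChar_indFun _ (isGenChar_sub (hgen _ _) (hgen _ _))

theorem inner_V_V (φ ψ φ' ψ' : ↥(D.core.T false) →* ℂˣ) :
    classInner (D.V Ω φ ψ) (D.V Ω φ' ψ') =
      classInner (D.core.R Ω false φ) (D.core.R Ω false φ') - classInner (D.core.R Ω false φ) (D.core.R Ω false ψ')
        - (classInner (D.core.R Ω false ψ) (D.core.R Ω false φ') -
            classInner (D.core.R Ω false ψ) (D.core.R Ω false ψ')) := by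
  rw [Sys.V, Sys.V, inner_up hD (supp_RN hD _ _) (supp_RN hD _ _)
    (isClassFunction_sub (R_isClassFunction hD.core _ _) (R_isClassFunction hD.core _ _)),
    classInner_sub_left, classInner_sub_right, classInner_sub_right]

include he

open Classical in
/-- The linear equations for the coordinates of `V φ ψ`. -/
theorem V_eqs (φ ψ : ↥(D.core.T false) →* ℂˣ) {c : Fin 6 → ℤ}
    (hc : ∀ i, classInner (D.V Ω φ ψ) (e i) = (c i : ℂ)) :
    c 0 = (if φ = 1 then 1 else 0) - (if ψ = 1 then 1 else 0) ∧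
    -c 0 + c 1 + c 2 = (-(if φ = 1 then 1 else 0) + (if φ = D.lamT false then 1 else 0)) -
      (-(if ψ = 1 then 1 else 0) + (if ψ = D.lamT false then 1 else 0)) ∧
    c 1 + c 3 + c 5 = ((if φ = 1 then 1 else 0) - (if φ = D.lamT false then 1 else 0)) -
      ((if ψ = 1 then 1 else 0) - (if ψ = D.lamT false then 1 else 0)) ∧
    -(c 0 + c 4 + c 3) = ((if Sys.ThOrbit hD φ then 1 else 0) - 2 * (if φ = 1 then 1 else 0)) -
      ((if Sys.ThOrbit hD ψ then 1 else 0) - 2 * (if ψ = 1 then 1 else 0)) := by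
  obtain ⟨a1, a2, a3, a4⟩ := inner_RN_th hD φ
  obtain ⟨b1, b2, b3, b4⟩ := inner_RN_th hD ψ
  obtain ⟨s1, s1', s2⟩ := supp_th hD
  obtain ⟨f1, f1', f2⟩ := classFun_th hD
  have k0 : classInner (D.V Ω φ ψ) (e 0) = classInner (D.core.R Ω false φ) D.one -
      classInner (D.core.R Ω false ψ) D.one := by
    rw [he.zero, Sys.V, inner_up_one hD, classInner_sub_left]
  have k1 : classInner (D.V Ω φ ψ) (D.up (D.th1 Ω)) = classInner (D.core.R Ω false φ) (D.th1 Ω) -
      classInner (D.core.R Ω false ψ) (D.th1 Ω) := by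
    rw [Sys.V, inner_up hD (supp_RN hD _ _) s1 f1, classInner_sub_left]
  have k2 : classInner (D.V Ω φ ψ) (D.up (D.th1' Ω)) = classInner (D.core.R Ω false φ) (D.th1' Ω) -
      classInner (D.core.R Ω false ψ) (D.th1' Ω) := by
    rw [Sys.V, inner_up hD (supp_RN hD _ _) s1' f1', classInner_sub_left]
  have k3 : classInner (D.V Ω φ ψ) (D.up (D.th2 Ω)) = classInner (D.core.R Ω false φ) (D.th2 Ω) -
      classInner (D.core.R Ω false ψ) (D.th2 Ω) := by
    rw [Sys.V, inner_up hD (supp_RN hD _ _) s2 f2, classInner_sub_left]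
  rw [hc, a1, b1] at k0
  rw [he.th1, classInner_add_right, classInner_add_right, classInner_neg_right, hc, hc, hc, a2, b2] at k1
  rw [he.th1', classInner_add_right, classInner_add_right, hc, hc, hc, a3, b3] at k2
  rw [he.th2, classInner_neg_right, classInner_add_right, classInner_add_right, hc, hc, hc, a4, b4] at k3
  refine ⟨?_, ?_, ?_, ?_⟩
  · apply Int.cast_injective (α := ℂ); push_cast; exact k0
  · apply Int.cast_injective (α := ℂ); push_cast; exact k1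
  · apply Int.cast_injective (α := ℂ); push_cast; exact k2
  · apply Int.cast_injective (α := ℂ); push_cast; exact k3

omit he in
theorem orbit_ne {φ : ↥(D.core.T false) →* ℂˣ} (h : D.core.conjChar (hD.core.nnorm false) φ = φ) :
    ¬ Sys.ThOrbit hD φ := by
  rintro (rfl | rfl)
  · exact hD.thne h
  · rw [conjChar_conjChar hD] at h; exact hD.thne h.symm

omit he in
theorem nonfixed_ne {φ : ↥(D.core.T false) →* ℂˣ} (h : D.core.conjChar (hD.core.nnorm false) φ ≠ φ) :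
    φ ≠ 1 ∧ φ ≠ D.lamT false :=
  ⟨fun e => h (by rw [e, conjChar_one hD]), fun e => h (by rw [e, conjChar_lamT hD])⟩

omit he in
theorem inner_RN_ne {φ ψ : ↥(D.core.T false) →* ℂˣ} (h1 : φ ≠ ψ)
    (h2 : D.core.conjChar (hD.core.nnorm false) φ ≠ ψ) :
    classInner (D.core.R Ω false φ) (D.core.R Ω false ψ) = 0 := by
  classical
  rw [classInner_R_R hD.core, if_neg h1, if_neg h2, add_zero]

omit he in
theorem inner_RN_self {φ : ↥(D.core.T false) →* ℂˣ} (h : D.core.conjChar (hD.core.nnorm false) φ ≠ φ) :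
    classInner (D.core.R Ω false φ) (D.core.R Ω false φ) = 1 := by
  classical
  rw [classInner_R_R hD.core, if_pos rfl, if_neg h, add_zero]

omit he in
theorem inner_RN_fixed {φ : ↥(D.core.T false) →* ℂˣ} (h : D.core.conjChar (hD.core.nnorm false) φ = φ) :
    classInner (D.core.R Ω false φ) (D.core.R Ω false φ) = 2 := by
  classical
  rw [inner_R_fixed hD false φ φ h, if_pos rfl]

omit he in
theorem fixed_sep {φ μ : ↥(D.core.T false) →* ℂˣ} (hμ : D.core.conjChar (hD.core.nnorm false) μ = μ)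
    (hne : φ ≠ μ) : D.core.conjChar (hD.core.nnorm false) φ ≠ μ :=
  fun h => hne (by rw [← conjChar_conjChar hD false φ, h, hμ])

include hgen

/-- The two possible columns of a character outside the orbit of `θ`. -/
theorem V_options {φ : ↥(D.core.T false) →* ℂˣ} (hf : D.core.conjChar (hD.core.nnorm false) φ ≠ φ)
    (ho : ¬ Sys.ThOrbit hD φ) :
    classInner (D.V Ω φ 1) (D.V Ω φ 1) = ((3 : ℤ) : ℂ) ∧
    ∃ c : Fin 6 → ℤ, (∀ i, classInner (D.V Ω φ 1) (e i) = (c i : ℂ)) ∧ c 0 = -1 ∧ c 1 = 0 ∧ c 2 = 0 ∧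
      ((c 3 = -1 ∧ c 4 = 0 ∧ c 5 = 0) ∨ (c 3 = 0 ∧ c 4 = -1 ∧ c 5 = -1)) := by
  classical
  obtain ⟨n1, n2⟩ := nonfixed_ne hD hf
  have hn : classInner (D.V Ω φ 1) (D.V Ω φ 1) = ((3 : ℤ) : ℂ) := by
    have h0 := inner_RN_ne hD n1 (fixed_sep hD (conjChar_one hD false) n1)
    rw [inner_V_V hD, inner_RN_self hD hf, inner_RN_fixed hD (conjChar_one hD false), h0,
      ← classInner_comm (D.core.R Ω false φ), h0, map_zero]
    norm_num
  obtain ⟨c, hc⟩ := coords he.orth6 (V_gen hD hgen φ 1)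
  obtain ⟨e0, e1, e2, e3⟩ := V_eqs hD he φ 1 hc
  simp only [n1, n2, ho, orbit_ne hD (conjChar_one hD false), if_false, if_true,
    Ne.symm (lamT_ne_one hD false)] at e0 e1 e2 e3
  obtain ⟨hb, -⟩ := bessel_six he.orth6 (V_gen hD hgen φ 1) hc hn
  refine ⟨hn, c, hc, by omega, ?_⟩
  have hb2 : c 2 = -c 1 := by omega
  have hb4 : c 4 = -1 - c 3 := by omega
  have hb5 : c 5 = -1 - c 1 - c 3 := by omega
  rw [show c 0 = -1 by omega, hb2, hb4, hb5] at hb
  have r3 : c 3 = 0 ∨ c 3 = -1 := by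
    have h1 : c 3 * (c 3 + 1) ≤ 0 := by nlinarith [sq_nonneg (c 1), sq_nonneg (-1 - c 1 - c 3)]
    rcases le_or_gt 0 (c 3) with h | h
    · exact Or.inl (by nlinarith)
    · exact Or.inr (by nlinarith)
  have r1 : c 1 = 0 := by
    rcases r3 with h | h <;> rw [h] at hb
    · have : c 1 * (3 * c 1 + 2) ≤ 0 := by nlinarith
      rcases lt_trichotomy (c 1) 0 with h' | h' | h'
      · nlinarith
      · exact h'
      · nlinarith
    · have : 3 * c 1 ^ 2 ≤ 1 := by nlinarith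
      rcases lt_trichotomy (c 1) 0 with h' | h' | h' <;> nlinarith
  refine ⟨r1, by omega, ?_⟩
  omega

/-- The induced difference with a fixed character. -/
theorem W_options {φ μ : ↥(D.core.T false) →* ℂˣ} (hf : D.core.conjChar (hD.core.nnorm false) φ ≠ φ)
    (ho : ¬ Sys.ThOrbit hD φ) (hμ : D.core.conjChar (hD.core.nnorm false) μ = μ) (hμ1 : μ ≠ 1)
    (hμl : μ ≠ D.lamT false) :
    classInner (D.V Ω φ μ) (D.V Ω φ μ) = ((3 : ℤ) : ℂ) ∧ classInner (D.V Ω φ μ) (D.V Ω φ 1) = 1 ∧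
    ∃ c : Fin 6 → ℤ, (∀ i, classInner (D.V Ω φ μ) (e i) = (c i : ℂ)) ∧ c 0 = 0 ∧ c 2 = -c 1 ∧
      c 4 = -c 3 ∧ c 5 = -c 1 - c 3 := by
  classical
  obtain ⟨n1, n2⟩ := nonfixed_ne hD hf
  have hne : φ ≠ μ := fun h => hf (h ▸ hμ)
  have a1 := inner_RN_ne hD hne (fixed_sep hD hμ hne)
  have a2 : classInner (D.core.R Ω false μ) (D.core.R Ω false φ) = 0 := by
    rw [← classInner_comm, a1, map_zero]
  have a3 := inner_RN_ne hD n1 (fixed_sep hD (conjChar_one hD false) n1)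
  have a4 := inner_RN_ne hD (Ne.symm (Ne.symm hμ1)) (fixed_sep hD (conjChar_one hD false) hμ1)
  refine ⟨?_, ?_, ?_⟩
  · rw [inner_V_V hD, inner_RN_self hD hf, inner_RN_fixed hD hμ, a1, a2]; norm_num
  · rw [inner_V_V hD, inner_RN_self hD hf, a3, a2, a4]; norm_num
  obtain ⟨c, hc⟩ := coords he.orth6 (V_gen hD hgen φ μ)
  obtain ⟨e0, e1, e2, e3⟩ := V_eqs hD he φ μ hc
  simp only [n1, n2, hμ1, hμl, ho, orbit_ne hD hμ, if_false] at e0 e1 e2 e3
  exact ⟨c, hc, by omega, by omega, by omega, by omega⟩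

/-- The column of a nonfixed character outside the orbit of `θ`. -/
theorem coord_nonfixed {φ : ↥(D.core.T false) →* ℂˣ} (hf : D.core.conjChar (hD.core.nnorm false) φ ≠ φ)
    (ho : ¬ Sys.ThOrbit hD φ) :
    ∃ c : Fin 6 → ℤ, (∀ i, classInner (D.V Ω φ 1) (e i) = (c i : ℂ)) ∧ c 0 = -1 ∧ c 1 = 0 ∧ c 2 = 0 ∧
      c 3 = -1 ∧ c 4 = 0 ∧ c 5 = 0 := by
  classical
  obtain ⟨hn, c, hc, c0, c1, c2, h | ⟨c3, c4, c5⟩⟩ := V_options hD hgen he hf ho
  · exact ⟨c, hc, c0, c1, c2, h.1, h.2.1, h.2.2⟩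
  exfalso
  obtain ⟨-, hsat⟩ := bessel_six he.orth6 (V_gen hD hgen φ 1) hc hn
  have hs := hsat (by rw [c0, c1, c2, c3, c4, c5]; norm_num)
  rcases hD.extra with hx | ⟨μ, μ', hμμ, hμ, hμ', hμ1, hμ'1, hμl, hμ'l⟩
  · obtain ⟨ψ, hψf, hψ1, hψ2, hψ3, hψ4⟩ := hx φ hf
    obtain ⟨-, d, hd, d0, d1, d2, hdd⟩ := V_options hD hgen he hψf (not_or.2 ⟨hψ1, hψ2⟩)
    have h2 : classInner (D.V Ω φ 1) (D.V Ω ψ 1) = 2 := by
      obtain ⟨n1, -⟩ := nonfixed_ne hD hf
      obtain ⟨m1, -⟩ := nonfixed_ne hD hψf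
      have b1 := inner_RN_ne hD (Ne.symm hψ3) (fun h => hψ4 h.symm)
      have b2 := inner_RN_ne hD n1 (fixed_sep hD (conjChar_one hD false) n1)
      have b3 := inner_RN_ne hD m1 (fixed_sep hD (conjChar_one hD false) m1)
      rw [inner_V_V hD, b1, b2, inner_RN_fixed hD (conjChar_one hD false),
        ← classInner_comm (D.core.R Ω false ψ), b3, map_zero]
      norm_num
    rw [hs hd, c0, c1, c2, c3, c4, c5, d0, d1, d2] at h2
    have h3 : ((-1 : ℤ) * -1 + 0 * 0 + 0 * 0 + 0 * d 3 + -1 * d 4 + -1 * d 5 : ℤ) = 2 := by exact_mod_cast h2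
    rcases hdd with ⟨d3, d4, d5⟩ | ⟨d3, d4, d5⟩ <;> rw [d4, d5] at h3 <;> norm_num at h3
  · have key : ∀ ν : ↥(D.core.T false) →* ℂˣ, D.core.conjChar (hD.core.nnorm false) ν = ν → ν ≠ 1 →
        ν ≠ D.lamT false → ∃ d : Fin 6 → ℤ, (∀ i, classInner (D.V Ω φ ν) (e i) = (d i : ℂ)) ∧ d 0 = 0 ∧
          d 1 = 1 ∧ d 2 = -1 ∧ d 3 = 0 ∧ d 4 = 0 ∧ d 5 = -1 := by
      intro ν h1 h2 h3
      obtain ⟨hn', h11, d, hd, d0, d2, d4, d5⟩ := W_options hD hgen he hf ho h1 h2 h3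
      obtain ⟨hb, -⟩ := bessel_six he.orth6 (V_gen hD hgen φ ν) hd hn'
      have h12 : classInner (D.V Ω φ 1) (D.V Ω φ ν) = 1 := by rw [← classInner_comm, h11, map_one]
      rw [hs hd, c0, c1, c2, c3, c4, c5, d0, d4, d5] at h12
      have h13 : ((-1 : ℤ) * 0 + 0 * d 1 + 0 * d 2 + 0 * d 3 + -1 * -d 3 + -1 * (-d 1 - d 3) : ℤ) = 1 := by
        exact_mod_cast h12
      rw [d0, d2, d4, d5, show d 1 = 1 - 2 * d 3 by omega] at hb
      have : d 3 = 0 := by
        rcases lt_trichotomy (d 3) 0 with h' | h' | h'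
        · nlinarith
        · exact h'
        · nlinarith
      exact ⟨d, hd, d0, by omega, by omega, this, by omega, by omega⟩
    obtain ⟨d, hd, d0, d1, d2, d3, d4, d5⟩ := key μ hμ hμ1 hμl
    obtain ⟨d', hd', f0, f1, f2, f3, f4, f5⟩ := key μ' hμ' hμ'1 hμ'l
    obtain ⟨hn', -, -⟩ := W_options hD hgen he hf ho hμ hμ1 hμl
    obtain ⟨-, hsat'⟩ := bessel_six he.orth6 (V_gen hD hgen φ μ) hd hn'
    have h1 := hsat' (by rw [d0, d1, d2, d3, d4, d5]; norm_num) hd'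
    have hne : φ ≠ μ := fun h => hf (h ▸ hμ)
    have hne' : φ ≠ μ' := fun h => hf (h ▸ hμ')
    have a2 : classInner (D.core.R Ω false μ) (D.core.R Ω false φ) = 0 := by
      rw [← classInner_comm, inner_RN_ne hD hne (fixed_sep hD hμ hne), map_zero]
    rw [inner_V_V hD, inner_RN_self hD hf, inner_RN_ne hD hne' (fixed_sep hD hμ' hne'), a2,
      inner_RN_ne hD hμμ (fixed_sep hD hμ' hμμ), d0, d1, d2, d3, d4, d5, f0, f1, f2, f3, f4, f5] at h1
    norm_num at h1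

set_option maxHeartbeats 1000000 in
/-- The column of a fixed character other than `1` and `lam`. -/
theorem coord_fixed {μ : ↥(D.core.T false) →* ℂˣ} (hμ : D.core.conjChar (hD.core.nnorm false) μ = μ)
    (hμ1 : μ ≠ 1) (hμl : μ ≠ D.lamT false) :
    ∃ c : Fin 6 → ℤ, (∀ i, classInner (D.V Ω μ 1) (e i) = (c i : ℂ)) ∧ c 0 = -1 ∧ c 1 = 0 ∧ c 2 = 0 ∧
      c 3 = -1 ∧ c 4 = 0 ∧ c 5 = 0 := by
  classical
  obtain ⟨φ, hf, ho⟩ : ∃ φ : ↥(D.core.T false) →* ℂˣ, D.core.conjChar (hD.core.nnorm false) φ ≠ φ ∧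
      ¬ Sys.ThOrbit hD φ := by
    rcases hD.extra with hx | ⟨ν, ν', hνν, hν, hν', hν1, hν'1, -, -⟩
    · obtain ⟨ψ, h1, h2, h3, -, -⟩ := hx D.θ hD.thne
      exact ⟨ψ, h1, not_or.2 ⟨h2, h3⟩⟩
    · have hmul : ∀ κ : ↥(D.core.T false) →* ℂˣ, D.core.conjChar (hD.core.nnorm false) κ = κ →
          D.core.conjChar (hD.core.nnorm false) (D.θ * κ) =
            D.core.conjChar (hD.core.nnorm false) D.θ * κ := fun κ hκ => by
        conv_rhs => rw [← hκ]
        exact MonoidHom.ext fun t => rfl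
      have hnf : ∀ κ : ↥(D.core.T false) →* ℂˣ, D.core.conjChar (hD.core.nnorm false) κ = κ →
          D.core.conjChar (hD.core.nnorm false) (D.θ * κ) ≠ D.θ * κ := fun κ hκ h =>
        hD.thne (mul_right_cancel ((hmul κ hκ).symm.trans h))
      by_cases h : D.θ * ν = D.core.conjChar (hD.core.nnorm false) D.θ
      · refine ⟨D.θ * ν', hnf ν' hν', ?_⟩
        rintro (h' | h')
        · exact hν'1 (char_mul_self h')
        · exact hνν (mul_left_cancel (h.trans h'.symm))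
      · exact ⟨D.θ * ν, hnf ν hν, fun h' => h'.elim (fun e => hν1 (char_mul_self e)) h⟩
  obtain ⟨c, hc, c0, c1, c2, c3, c4, c5⟩ := coord_nonfixed hD hgen he hf ho
  obtain ⟨hn, h11, d, hd, d0, d2, d4, d5⟩ := W_options hD hgen he hf ho hμ hμ1 hμl
  obtain ⟨hb, hsat⟩ := bessel_six he.orth6 (V_gen hD hgen φ μ) hd hn
  rw [d0, d2, d4, d5] at hb
  obtain ⟨d1', d3'⟩ : d 1 = 0 ∧ d 3 = 0 := by
    by_contra hne
    have hsq : (d 1 = 1 ∨ d 1 = -1) ∧ d 3 = 0 ∨ d 1 = 0 ∧ (d 3 = 1 ∨ d 3 = -1) := by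
      have b1 : d 1 ^ 2 ≤ 1 := by nlinarith [sq_nonneg (d 1 + 3 * d 3)]
      have b3 : d 3 ^ 2 ≤ 1 := by nlinarith [sq_nonneg (3 * d 1 + d 3)]
      have r1 : d 1 = -1 ∨ d 1 = 0 ∨ d 1 = 1 := by
        have : -2 < d 1 ∧ d 1 < 2 := ⟨by nlinarith, by nlinarith⟩
        omega
      have r3 : d 3 = -1 ∨ d 3 = 0 ∨ d 3 = 1 := by
        have : -2 < d 3 ∧ d 3 < 2 := ⟨by nlinarith, by nlinarith⟩
        omega
      rcases r1 with r1 | r1 | r1 <;> rcases r3 with r3 | r3 | r3 <;> simp [r1, r3] at hb hne ⊢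
    have heq : d 0 ^ 2 + d 1 ^ 2 + d 2 ^ 2 + d 3 ^ 2 + d 4 ^ 2 + d 5 ^ 2 = 3 := by
      rw [d0, d2, d4, d5]
      rcases hsq with ⟨r1 | r1, r3⟩ | ⟨r1, r3 | r3⟩ <;> rw [r1, r3] <;> norm_num
    have h1 := (hsat heq hc).symm.trans h11
    rw [c0, c1, c2, c3, c4, c5] at h1
    have h1' : (d 0 * -1 + d 1 * 0 + d 2 * 0 + d 3 * -1 + d 4 * 0 + d 5 * 0 : ℤ) = 1 := by exact_mod_cast h1
    have q3 : d 3 = -1 := by omega
    have q1 : d 1 = 0 := by omega
    -- compare with another character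
    rcases hD.extra with hx | ⟨ν, ν', hνν, hν, hν', hν1, hν'1, hνl, hν'l⟩
    · obtain ⟨ψ, hψf, hψ1, hψ2, hψ3, hψ4⟩ := hx φ hf
      obtain ⟨hn2, h22, f, hfc, f0, f2, f4, f5⟩ := W_options hD hgen he hψf (not_or.2 ⟨hψ1, hψ2⟩) hμ hμ1 hμl
      obtain ⟨hb2, -⟩ := bessel_six he.orth6 (V_gen hD hgen ψ μ) hfc hn2
      have hne : φ ≠ μ := fun h => hf (h ▸ hμ)
      have hne' : ψ ≠ μ := fun h => hψf (h ▸ hμ)
      have a2 : classInner (D.core.R Ω false μ) (D.core.R Ω false ψ) = 0 := by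
        rw [← classInner_comm, inner_RN_ne hD hne' (fixed_sep hD hμ hne'), map_zero]
      have h2 := hsat heq hfc
      rw [inner_V_V hD, inner_RN_ne hD (Ne.symm hψ3) (fun h => hψ4 h.symm),
        inner_RN_ne hD hne (fixed_sep hD hμ hne), a2, inner_RN_fixed hD hμ,
        d0, d2, d4, d5, q1, q3, f0, f2, f4, f5] at h2
      have h2' : (0 - 0 - (0 - 2) : ℤ) =
          0 * 0 + 0 * f 1 + -0 * -f 1 + -1 * f 3 + - -1 * -f 3 + (-0 - -1) * (-f 1 - f 3) := by
        exact_mod_cast h2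
      rw [f0, f2, f4, f5, show f 1 = -2 - 3 * f 3 by omega] at hb2
      ring_nf at hb2
      rcases (show f 3 ≤ -2 ∨ f 3 = -1 ∨ 0 ≤ f 3 by omega) with q | q | q
      · nlinarith
      · rw [q] at hb2; norm_num at hb2
      · nlinarith
    · obtain ⟨κ, hκ, hκ1, hκl, hκμ⟩ : ∃ κ, D.core.conjChar (hD.core.nnorm false) κ = κ ∧ κ ≠ 1 ∧
          κ ≠ D.lamT false ∧ κ ≠ μ := by
        by_cases h : ν = μ
        · exact ⟨ν', hν', hν'1, hν'l, fun e => hνν (h.trans e.symm)⟩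
        · exact ⟨ν, hν, hν1, hνl, h⟩
      obtain ⟨hn2, h22, f, hfc, f0, f2, f4, f5⟩ := W_options hD hgen he hf ho hκ hκ1 hκl
      obtain ⟨hb2, hsat2⟩ := bessel_six he.orth6 (V_gen hD hgen φ κ) hfc hn2
      have hne : φ ≠ μ := fun h => hf (h ▸ hμ)
      have hne' : φ ≠ κ := fun h => hf (h ▸ hκ)
      have a2 : classInner (D.core.R Ω false μ) (D.core.R Ω false φ) = 0 := by
        rw [← classInner_comm, inner_RN_ne hD hne (fixed_sep hD hμ hne), map_zero]
      have h2 := hsat heq hfc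
      rw [inner_V_V hD, inner_RN_self hD hf, inner_RN_ne hD hne' (fixed_sep hD hκ hne'), a2,
        inner_RN_ne hD (Ne.symm hκμ) (fixed_sep hD hκ (Ne.symm hκμ)),
        d0, d2, d4, d5, q1, q3, f0, f2, f4, f5] at h2
      have h2' : (1 - 0 - (0 - 0) : ℤ) =
          0 * 0 + 0 * f 1 + -0 * -f 1 + -1 * f 3 + - -1 * -f 3 + (-0 - -1) * (-f 1 - f 3) := by
        exact_mod_cast h2
      rw [f0, f2, f4, f5, show f 1 = -1 - 3 * f 3 by omega] at hb2
      ring_nf at hb2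
      have hf3 : f 3 = 0 := by
        rcases (show f 3 ≤ -1 ∨ f 3 = 0 ∨ 1 ≤ f 3 by omega) with q | q | q
        · nlinarith
        · exact q
        · nlinarith
      have h3 := hsat2 (by rw [f0, f2, f4, f5, hf3, show f 1 = -1 by omega]; norm_num) hc
      rw [h22, c0, c1, c2, c3, c4, c5, f0, f2, f4, f5, hf3, show f 1 = -1 by omega] at h3
      norm_num at h3
  refine ⟨c - d, fun i => ?_, ?_, ?_, ?_, ?_, ?_, ?_⟩
  · have hV : D.V Ω μ 1 = D.V Ω φ 1 - D.V Ω φ μ := by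
      rw [Sys.V, Sys.V, Sys.V, Sys.up, Sys.up, Sys.up, ← indFun_sub]
      congr 1
      abel
    rw [hV, classInner_sub_left, hc, hd, Pi.sub_apply, Int.cast_sub]
  all_goals simp only [Pi.sub_apply]; omega

/-- The coordinates. -/
theorem coord_all {φ : ↥(D.core.T false) →* ℂˣ} (hφ1 : φ ≠ 1) :
    ∃ c : Fin 6 → ℤ, (∀ i, classInner (D.V Ω φ 1) (e i) = (c i : ℂ)) ∧ c 0 = -1 ∧ c 1 = 0 ∧
      (φ = D.lamT false → c 2 = 1 ∧ c 3 = -1 ∧ c 4 = 0 ∧ c 5 = -1) ∧
      (φ ≠ D.lamT false → c 2 = 0 ∧ c 3 = -1 ∧ c 5 = 0 ∧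
        (Sys.ThOrbit hD φ → c 4 = -1) ∧ (¬ Sys.ThOrbit hD φ → c 4 = 0)) := by
  classical
  by_cases hl : φ = D.lamT false
  · subst hl
    have hV : D.V Ω (D.lamT false) 1 = D.up (D.th1 Ω) - D.up (D.th1' Ω) := by
      rw [Sys.V, Sys.up, Sys.up, Sys.up, ← indFun_sub]
      congr 1
      rw [R_lam_false hD, R_one_false hD, Sys.th1, Sys.th1']
      abel
    refine ⟨![-1, 0, 1, -1, 0, -1], fun i => ?_, rfl, rfl, fun _ => ⟨rfl, rfl, rfl, rfl⟩,
      fun h => absurd rfl h⟩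
    rw [hV, he.th1, he.th1']
    simp only [classInner_sub_left, classInner_add_left, classInner_neg_left, he.orth]
    fin_cases i <;> simp
  · by_cases ho : Sys.ThOrbit hD φ
    · have hV : D.V Ω φ 1 = D.up (D.th2 Ω) := by
        rcases ho with rfl | rfl
        · rfl
        · rw [Sys.V, R_conjChar hD.core]; rfl
      refine ⟨![-1, 0, 0, -1, -1, 0], fun i => ?_, rfl, rfl, fun h => absurd h hl,
        fun _ => ⟨rfl, rfl, rfl, fun _ => rfl, fun h => absurd ho h⟩⟩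
      rw [hV, he.th2]
      simp only [classInner_add_left, classInner_neg_left, he.orth]
      fin_cases i <;> simp
    · by_cases hf : D.core.conjChar (hD.core.nnorm false) φ = φ
      · obtain ⟨c, hc, c0, c1, c2, c3, c4, c5⟩ := coord_fixed hD hgen he hf hφ1 hl
        exact ⟨c, hc, c0, c1, fun h => absurd h hl, fun _ => ⟨c2, c3, c5, fun h => absurd h ho, fun _ => c4⟩⟩
      · obtain ⟨c, hc, c0, c1, c2, c3, c4, c5⟩ := coord_nonfixed hD hgen he hf ho
        exact ⟨c, hc, c0, c1, fun h => absurd h hl, fun _ => ⟨c2, c3, c5, fun h => absurd h ho, fun _ => c4⟩⟩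

end CfsgLib.BrauerOrder
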