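import Cfsg.Agent.Lib.BrauerOrder.Defs
import Cfsg.Agent.Lib.Blocks.Dihedral.Main
import Cfsg.Agent.Lib.Blocks.Inflation
import Cfsg.Agent.Lib.CharTheory.Gallagher
import Cfsg.Agent.Lib.DihedralShape
import Cfsg.Agent.S0157

/-!
# The principal 2-block of the centraliser on regular elements

The characters of the principal 2-block of `C` are, on elements of odd order, combinations of `1`
and the Steinberg character of the action on `Ω`: modulo `Z O` the Sylow 2-subgroup is dihedral,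
the principal block has the characters `1, U, V, W, s_j`, and `lam`, `St` are `U` or `V`, resp. `W`.
-/

set_option autoImplicit false
set_option linter.unusedSectionVars false
set_option linter.style.haveILetI false

namespace CfsgLib.BrauerOrder

open Cfsg CfsgLib.CharTheory CfsgLib.Blocks CfsgLib.Blocks.AbelianFree CfsgLib.Blocks.Dihedral
open scoped ComplexConjugate

universe u v

variable {C : Type u} [Group C] [Fintype C] {d : Core C} {Ω : Type v} [MulAction C Ω] [Finite Ω]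
  {M : Ideal AlgInt} {lam : C →* ℂˣ} {b0 : Bool} {x : C} {h : ℕ}

/-- The subgroup `Z O`. -/
def Core.N0 (d : Core C) : Subgroup C := d.Z ⊔ d.O

theorem Core.Spec.mem_N0 (hd : d.Spec Ω) {g : C} :
    g ∈ d.N0 ↔ ∃ u ∈ d.Z, ∃ o ∈ d.O, g = u * o := by
  haveI := hd.onorm
  rw [Core.N0, ← SetLike.mem_coe, Subgroup.mul_normal, Set.mem_mul]
  exact ⟨fun ⟨u, hu, o, ho, e⟩ => ⟨u, hu, o, ho, e.symm⟩, fun ⟨u, hu, o, ho, e⟩ => ⟨u, hu, o, ho, e.symm⟩⟩

theorem Core.Spec.normal_N0 (hd : d.Spec Ω) : d.N0.Normal := by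
  haveI := hd.onorm
  refine ⟨fun n hn c => ?_⟩
  obtain ⟨u, hu, o, ho, rfl⟩ := hd.mem_N0.1 hn
  rw [show c * (u * o) * c⁻¹ = (c * u * c⁻¹ * u⁻¹) * u * (c * o * c⁻¹) by group]
  exact mul_mem (mul_mem (Subgroup.mem_sup_right (hd.zcent u hu c)) (Subgroup.mem_sup_left hu))
    (Subgroup.mem_sup_right (hd.onorm.conj_mem o ho c))

theorem Core.Spec.N0_triv (hd : d.Spec Ω) {n : C} (hn : n ∈ d.N0) (a : Ω) : n • a = a := by
  obtain ⟨u, hu, o, ho, rfl⟩ := hd.mem_N0.1 hn
  rw [mul_smul, hd.otriv o ho, hd.ztriv u hu]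

theorem Core.Spec.zle_S (hd : d.Spec Ω) : d.Z ≤ (d.S : Subgroup C) := (hd.zle true).trans (hd.tle true)

theorem Core.Spec.S_inf_O (hd : d.Spec Ω) {s : C} (hs : s ∈ (d.S : Subgroup C)) (ho : s ∈ d.O) :
    s = 1 := by
  obtain ⟨k, hk⟩ := IsPGroup.iff_orderOf.1 d.S.2 ⟨s, hs⟩
  rw [Subgroup.orderOf_mk] at hk
  have h1 : orderOf s ∣ Nat.card d.O := d.O.orderOf_dvd_natCard ho
  have h2 : Nat.Coprime (2 ^ k) (Nat.card d.O) := (Nat.coprime_two_left.2 hd.oodd).pow_left k
  exact orderOf_eq_one_iff.1 (Nat.eq_one_of_dvd_coprimes h2 (hk ▸ dvd_rfl) h1)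

theorem Core.Spec.S_inf_N0 (hd : d.Spec Ω) {s : C} (hs : s ∈ (d.S : Subgroup C)) :
    s ∈ d.N0 ↔ s ∈ d.Z := by
  refine ⟨fun hn => ?_, fun hz => Subgroup.mem_sup_left hz⟩
  obtain ⟨u, hu, o, ho, rfl⟩ := hd.mem_N0.1 hn
  have ho' : o ∈ (d.S : Subgroup C) := by
    have := mul_mem (inv_mem (hd.zle_S hu)) hs
    rwa [inv_mul_cancel_left] at this
  rw [hd.S_inf_O ho' ho, mul_one]
  exact hu

theorem odd_pow_two {k : ℕ} {g : C} (hg : orderOf g = 2 ^ k) (h2 : ¬ 2 ∣ orderOf g) : g = 1 := by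
  rcases k with _ | k
  · exact orderOf_eq_one_iff.1 (by simpa using hg)
  · exact absurd (hg ▸ dvd_pow_self 2 (Nat.succ_ne_zero k)) h2

theorem Core.Spec.regular_coset (hd : d.Spec Ω) {v n : C} (hv : ¬ 2 ∣ orderOf v) (hn : n ∈ d.N0) :
    ¬ 2 ∣ orderOf (v * n) ↔ n ∈ d.O := by
  haveI := hd.onorm
  haveI : Fact (Nat.Prime 2) := ⟨Nat.prime_two⟩
  constructor
  · intro hr
    obtain ⟨u, hu, o, ho, rfl⟩ := hd.mem_N0.1 hn
    have hc : Commute ((u : C ⧸ d.O)) (v : C ⧸ d.O) := by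
      show ((u * v : C) : C ⧸ d.O) = ((v * u : C) : C ⧸ d.O)
      rw [QuotientGroup.eq]
      have := hd.onorm.conj_mem _ (hd.zcent u hu v) (v * u)⁻¹
      rwa [show (v * u)⁻¹ * (v * u * v⁻¹ * u⁻¹) * (v * u)⁻¹⁻¹ = (u * v)⁻¹ * (v * u) by group] at this
    obtain ⟨k, hk⟩ := IsPGroup.iff_orderOf.1 d.S.2 ⟨u, hd.zle_S hu⟩
    rw [Subgroup.orderOf_mk] at hk
    obtain ⟨j, -, hj⟩ := (Nat.dvd_prime_pow Nat.prime_two).1
      (hk ▸ orderOf_map_dvd (QuotientGroup.mk' d.O) u)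
    have e : ((v * (u * o) : C) : C ⧸ d.O) = (u : C ⧸ d.O) * (v : C ⧸ d.O) := by
      rw [QuotientGroup.mk_mul, QuotientGroup.mk_mul, (QuotientGroup.eq_one_iff o).2 ho, mul_one,
        hc.eq]
    letI := Fintype.ofFinite (C ⧸ d.O)
    obtain ⟨e1, -⟩ := pPart_unique Nat.prime_two hc (Commute.one_left ((v * (u * o) : C) : C ⧸ d.O))
      ⟨j, hj⟩ ⟨0, by simp⟩ (fun hh => hv (hh.trans (orderOf_map_dvd (QuotientGroup.mk' d.O) v)))
      (fun hh => hr (hh.trans (orderOf_map_dvd (QuotientGroup.mk' d.O) _)))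
      (by rw [e, one_mul])
    have : u = 1 := hd.S_inf_O (hd.zle_S hu) ((QuotientGroup.eq_one_iff u).1 e1)
    rw [this, one_mul]
    exact ho
  · intro ho
    have h1 : (v * n) ^ orderOf v ∈ d.O := by
      rw [← QuotientGroup.eq_one_iff, QuotientGroup.mk_pow, QuotientGroup.mk_mul,
        (QuotientGroup.eq_one_iff n).2 ho, mul_one, ← QuotientGroup.mk_pow, pow_orderOf_eq_one,
        QuotientGroup.mk_one]
    have h2 : orderOf (v * n) ∣ orderOf v * Nat.card d.O := by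
      rw [orderOf_dvd_iff_pow_eq_one, pow_mul]
      exact orderOf_dvd_iff_pow_eq_one.1 (d.O.orderOf_dvd_natCard h1)
    intro hh
    rcases (Nat.prime_two.dvd_mul).1 (hh.trans h2) with e | e
    · exact hv e
    · exact absurd e (by rw [← even_iff_two_dvd, Nat.not_even_iff_odd]; exact hd.oodd)

theorem Core.Spec.St_irr (hd : d.Spec Ω) : IsIrrCharacter C (St Ω) := by
  have hcard : 2 ≤ Nat.card Ω := by rw [hd.card]; have := hd.qlb; omega
  haveI : Nontrivial Ω := Finite.one_lt_card_iff_nontrivial.1 (by omega)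
  have h2 : MulAction.IsMultiplyPretransitive C Ω 2 :=
    MulAction.is_two_pretransitive_iff.2 fun {a b c e} hab hce => hd.two a b c e hab hce
  haveI : MulAction.IsPretransitive C Ω :=
    MulAction.isPretransitive_of_is_two_pretransitive (G := C) (α := Ω)
  exact (Cfsg.Agent.S0157.result Ω hcard).2 h2

theorem St_one : St Ω (1 : C) = (Nat.card Ω : ℂ) - 1 := by
  have h1 : MulAction.fixedBy Ω (1 : C) = Set.univ := by ext; simp
  rw [St, h1, Nat.card_congr (Equiv.Set.univ Ω)]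

theorem lam_regular {v : C} (hsq : ∀ c, lam c * lam c = 1) (hv : ¬ 2 ∣ orderOf v) : lam v = 1 := by
  obtain ⟨k, hk⟩ := Nat.odd_iff.2 (Nat.two_dvd_ne_zero.1 hv)
  have h1 : lam v ^ orderOf v = 1 := by rw [← map_pow, pow_orderOf_eq_one, map_one]
  rwa [hk, pow_succ, pow_mul, sq, hsq, one_pow, one_mul] at h1

/-- Elements commuting as permutations: fixed points of the product with an element of odd order. -/
theorem fixedBy_mul_eq {m : ℕ} (hm : Odd m) {x w : C} (hcomm : ∀ a : Ω, x • w • a = w • x • a)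
    (hw : ∀ a : Ω, w ^ m • a = a) (h2 : (MulAction.fixedBy Ω x).ncard ≤ 2)
    (hxm : MulAction.fixedBy Ω (x ^ m) = MulAction.fixedBy Ω x) :
    MulAction.fixedBy Ω (x * w) = MulAction.fixedBy Ω x := by
  have hxw : ∀ (j : ℕ) (a : Ω), x • w ^ j • a = w ^ j • x • a := by
    intro j
    induction j with
    | zero => simp
    | succ j ih => intro a; rw [pow_succ', mul_smul, hcomm, ih, mul_smul]
  have hpow : ∀ (j : ℕ) (a : Ω), (x * w) ^ j • a = x ^ j • w ^ j • a := by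
    intro j
    induction j with
    | zero => simp
    | succ j ih =>
      intro a
      rw [pow_succ, mul_smul, ih, mul_smul x w, ← hxw, pow_succ x, mul_smul, pow_succ w, mul_smul]
  ext a
  simp only [MulAction.mem_fixedBy]
  constructor
  · intro ha
    have h1 : ∀ j : ℕ, (x * w) ^ j • a = a := by
      intro j
      induction j with
      | zero => simp
      | succ j ih => rw [pow_succ, mul_smul, ha, ih]
    have h3 := h1 m
    rw [hpow, hw] at h3
    have : a ∈ MulAction.fixedBy Ω (x ^ m) := h3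
    rw [hxm] at this
    exact this
  · intro ha
    suffices hwa : w • a = a by rw [mul_smul, hwa, ha]
    by_contra hne
    have m1 : w • a ∈ MulAction.fixedBy Ω x := by
      show x • w • a = w • a
      rw [hcomm, ha]
    have m2 : w • w • a ∈ MulAction.fixedBy Ω x := by
      show x • w • w • a = w • w • a
      rw [hcomm, m1]
    have h22 : w • w • a = a := by
      by_contra hne2
      have h3 : ({a, w • a, w • w • a} : Set Ω).ncard = 3 :=
        Set.ncard_eq_three.2 ⟨_, _, _, Ne.symm hne, Ne.symm hne2,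
          fun e => hne ((smul_left_cancel w e).symm), rfl⟩
      have := Set.ncard_le_ncard (show ({a, w • a, w • w • a} : Set Ω) ⊆ MulAction.fixedBy Ω x by
        rintro y (rfl | rfl | rfl) <;> assumption) (Set.toFinite _)
      omega
    obtain ⟨k, rfl⟩ := hm
    have h3 : ∀ j : ℕ, w ^ (2 * j) • a = a := by
      intro j
      induction j with
      | zero => simp
      | succ j ih => rw [show 2 * (j + 1) = 2 * j + 1 + 1 by ring, pow_succ, pow_succ, mul_smul,
          mul_smul, h22, ih]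
    have := hw a
    rw [pow_succ', mul_smul, h3] at this
    exact hne this

section Rot

variable (hd : d.Spec Ω) (hr : d.Rot lam b0 x h)
include hd hr

theorem card_fix_pow {i : ℕ} (h1 : x ^ i ∉ d.Z) :
    (MulAction.fixedBy Ω (x ^ i)).ncard ≤ 2 ∧
      (Nat.card (MulAction.fixedBy Ω (x ^ i)) : ℤ) = 1 + d.σ b0 := by
  have h2 := hd.fix b0 (x ^ i) (pow_mem hr.xmem i) h1
  refine ⟨?_, h2⟩
  rw [← Nat.card_coe_set_eq]
  rcases hd.sgn b0 with e | e <;> rw [e] at h2 <;> omega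

theorem pow_odd_notMem {m : ℕ} (hm : Odd m) : x ^ m ∉ d.Z := by
  intro hz
  obtain ⟨a, ha⟩ := hr.hpow
  have h2 : x ^ (m % (2 * h)) ∈ d.Z := by
    have h3 : x ^ (2 * h * (m / (2 * h))) ∈ d.Z := by rw [pow_mul]; exact pow_mem hr.xpow _
    have h4 : x ^ m = x ^ (2 * h * (m / (2 * h))) * x ^ (m % (2 * h)) := by
      rw [← pow_add, Nat.div_add_mod]
    rw [h4] at hz
    exact (mul_mem_cancel_left h3).1 hz
  have hpos : 0 < 2 * h := by rw [ha]; positivity
  refine hr.xlow (m % (2 * h)) ?_ (Nat.mod_lt _ hpos) h2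
  rcases Nat.eq_zero_or_pos (m % (2 * h)) with e | e
  · exfalso
    obtain ⟨k, hk⟩ := Nat.dvd_of_mod_eq_zero e
    obtain ⟨l, hl⟩ := hm
    rw [hk, mul_assoc] at hl
    omega
  · exact e

theorem St_pow {i : ℕ} (h1 : x ^ i ∉ d.Z) : St Ω (x ^ i) = (d.σ b0 : ℂ) := by
  have := (card_fix_pow hd hr h1).2
  rw [St, ← Int.cast_natCast, this]
  push_cast
  ring

/-- The Steinberg character on the section of `x`. -/
theorem St_section {w : C} {m : ℕ} (hm : Odd m) (hwm : w ^ m ∈ d.N0)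
    (hcomm : (x * w)⁻¹ * (w * x) ∈ d.N0) : St Ω (x * w) = (d.σ b0 : ℂ) := by
  have h1 : x ^ 1 ∉ d.Z := pow_odd_notMem hd hr odd_one
  have hxm := pow_odd_notMem hd hr hm
  have hfix : MulAction.fixedBy Ω (x * w) = MulAction.fixedBy Ω x := by
    refine fixedBy_mul_eq hm (fun a => ?_) (fun a => hd.N0_triv hwm a)
      (by simpa using (card_fix_pow hd hr h1).1) ?_
    · have := hd.N0_triv hcomm a
      rw [mul_smul, inv_smul_eq_iff] at this
      rw [← mul_smul, ← this, mul_smul]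
    · refine (Set.eq_of_subset_of_ncard_le (s := MulAction.fixedBy Ω x)
        (t := MulAction.fixedBy Ω (x ^ m)) (fun a (ha : x • a = a) => ?_) ?_ (Set.toFinite _)).symm
      · show x ^ m • a = a
        clear hxm hwm hm
        induction m with
        | zero => simp
        | succ j ih => rw [pow_succ, mul_smul, ha, ih]
      · have e1 := (card_fix_pow hd hr h1).2
        have e2 := (card_fix_pow hd hr hxm).2
        rw [pow_one] at e1
        rw [← Nat.card_coe_set_eq, ← Nat.card_coe_set_eq]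
        omega
  rw [show St Ω (x * w) = St Ω (x ^ 1) by simp only [St, hfix, pow_one], St_pow hd hr h1]

/-- The image of `S` is dihedral. -/
theorem exists_dih {X : Type u} [Group X] [Fintype X] (π : C →* X) (hπ : Function.Surjective π)
    (hker : ∀ g, π g = 1 ↔ g ∈ d.N0) : ∃ P : Sylow 2 X, Dih P (π x) h := by
  classical
  haveI : Fact (Nat.Prime 2) := ⟨Nat.prime_two⟩
  obtain ⟨a, ha⟩ := hr.hpow
  have hpos : 0 < 2 * h := by rw [ha]; positivity
  let P : Sylow 2 X := d.S.mapSurjective hπ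
  have hPc : (P : Subgroup X) = (d.S : Subgroup C).map π := Sylow.coe_mapSurjective hπ d.S
  have hxS : x ∈ (d.S : Subgroup C) := hd.tle b0 hr.xmem
  have hmem : π x ∈ (P : Subgroup X) := hPc ▸ Subgroup.mem_map_of_mem π hxS
  have hiff : ∀ s ∈ (d.S : Subgroup C), π s = 1 ↔ s ∈ d.Z := fun s hs =>
    (hker s).trans (hd.S_inf_N0 hs)
  have hord : orderOf (π x) = 2 * h := by
    rw [orderOf_eq_iff hpos]
    refine ⟨by rw [← map_pow, hiff _ (pow_mem hxS _)]; exact hr.xpow, fun i hi hi0 e => ?_⟩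
    rw [← map_pow, hiff _ (pow_mem hxS _)] at e
    exact hr.xlow i hi0 hi e
  have hcard : Nat.card (P : Subgroup X) = 2 * (2 * h) := by
    let f : (d.S : Subgroup C) →* X := π.comp (d.S : Subgroup C).subtype
    have h1 : f.ker = d.Z.subgroupOf (d.S : Subgroup C) := by
      ext s
      rw [MonoidHom.mem_ker, Subgroup.mem_subgroupOf]
      exact hiff _ s.2
    have h2 : f.range = (P : Subgroup X) := by
      rw [hPc, MonoidHom.range_comp, Subgroup.range_subtype]
    have h3 := f.ker.index_mul_card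
    rw [Subgroup.index_ker, h1, h2,
      Nat.card_congr (Subgroup.subgroupOfEquivOfLe hd.zle_S).toEquiv, hr.card] at h3
    have := Nat.eq_of_mul_eq_mul_right Nat.card_pos h3
    omega
  refine ⟨P, hr.hpow, ?_, hmem, hord⟩
  -- a reflection
  obtain ⟨t, ht, htn⟩ : ∃ t ∈ (P : Subgroup X), t ∉ Subgroup.zpowers (π x) := by
    by_contra! hc
    have := Subgroup.card_le_of_le (show (P : Subgroup X) ≤ Subgroup.zpowers (π x) from hc)
    rw [Nat.card_zpowers, hord, hcard] at this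
    omega
  obtain ⟨s, hs, rfl⟩ : ∃ s ∈ (d.S : Subgroup C), π s = t := by
    rw [hPc] at ht
    exact Subgroup.mem_map.1 ht
  have hsT : s ∉ d.T b0 := by
    intro hT
    obtain ⟨i, hi⟩ := hr.gen s hT
    have h1 : π ((x ^ i)⁻¹ * s) = 1 := (hiff _ (hd.zle_S hi)).2 hi
    rw [map_mul, map_inv, map_pow, inv_mul_eq_one] at h1
    exact htn (h1 ▸ Subgroup.npow_mem_zpowers _ i)
  obtain ⟨hinv, hsq⟩ := hr.inv s hs hsT
  refine CfsgLib.DihedralShape.equiv_dihedral (c := (⟨π x, hmem⟩ : (P : Subgroup X)))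
    (t := ⟨π s, ht⟩) (by rw [Subgroup.orderOf_mk, hord]) hcard ?_ ?_ ?_
  · apply Subtype.ext
    show π s * π s = 1
    rw [← map_mul]
    exact (hiff _ (mul_mem hs hs)).2 hsq
  · rintro ⟨i, hi⟩
    exact htn ⟨i, congrArg Subtype.val hi⟩
  · apply Subtype.ext
    show π s * π x * (π s)⁻¹ = (π x)⁻¹
    refine eq_inv_of_mul_eq_one_left ?_
    rw [← map_inv, ← map_mul, ← map_mul, ← map_mul]
    exact (hiff _ (mul_mem (mul_mem (mul_mem hs hxS) (inv_mem hs)) hxS)).2 hinv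

/-- A character constant and nonzero on the section of the rotation is in the principal block. -/
theorem mem_principal_of_section (hM : IsPModular 2 M) {X : Type u} [Group X] [Fintype X]
    {P : Sylow 2 X} {σ : X} (hh : Dih P σ h) (χ : IrrCharacter X) {c : ℂ} (hc : c ≠ 0)
    (hχ : ∀ w ∈ regC 2 σ, (χ : X → ℂ) (σ * w) = c) : χ ∈ principalBlock M X := by
  have h2 := hh.two_le
  have hσ2 : σ * σ ≠ 1 := fun e => by
    have := Nat.le_of_dvd two_pos (orderOf_dvd_of_pow_eq_one (show σ ^ 2 = 1 by rw [sq, e]))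
    rw [hh.ord] at this
    omega
  obtain ⟨K, hKn, hK, hidx⟩ := hh.complement_rot (Subgroup.mem_zpowers σ) hσ2
  haveI := hKn
  obtain ⟨k, hk⟩ := hh.ord_pow
  by_contra hn
  have h1 := section_key hM ⟨k, hh.ord.trans hk⟩ K hK (hidx.trans hk) χ (one_mem_regC Nat.prime_two σ)
  rw [ind_of_notMem hn, zero_mul, mul_zero, Finset.sum_congr rfl hχ, Finset.sum_const,
    nsmul_eq_mul] at h1
  exact hc ((mul_eq_zero.1 h1.symm).resolve_left (card_regC_ne Nat.prime_two σ))

end Rot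

theorem ne_pm_one {h : ℕ} (hp : ∃ a : ℕ, h = 2 ^ (a + 1)) {ζ : ℂ} (hζ : IsPrimitiveRoot ζ (2 * h))
    {j : ℕ} (hj0 : 0 < j) (hj : j < h) {e c : ℂ} (he : e = 1 ∨ e = -1) (hc : c = 1 ∨ c = -1) :
    e * (ζ ^ j + (ζ ^ j)⁻¹) ≠ c := by
  intro heq
  obtain ⟨a, ha⟩ := hp
  have hz0 : ζ ^ j ≠ 0 := pow_ne_zero _ (hζ.ne_zero (by omega))
  obtain ⟨s, hs, hs'⟩ : ∃ s : ℂ, (s = 1 ∨ s = -1) ∧ ζ ^ j + (ζ ^ j)⁻¹ = s := by
    rcases he with rfl | rfl <;> rcases hc with rfl | rfl
    · exact ⟨1, Or.inl rfl, by linear_combination heq⟩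
    · exact ⟨-1, Or.inr rfl, by linear_combination heq⟩
    · exact ⟨-1, Or.inr rfl, by linear_combination -heq⟩
    · exact ⟨1, Or.inl rfl, by linear_combination -heq⟩
  have h6 : (ζ ^ j) ^ 6 = 1 := by
    have hq : (ζ ^ j) ^ 2 - s * ζ ^ j + 1 = 0 := by
      field_simp at hs'
      linear_combination hs'
    rcases hs with rfl | rfl
    · linear_combination ((ζ ^ j) ^ 4 + (ζ ^ j) ^ 3 - ζ ^ j - 1) * hq
    · linear_combination ((ζ ^ j) ^ 4 - (ζ ^ j) ^ 3 + ζ ^ j - 1) * hq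
  have hN : (ζ ^ j) ^ (2 * h) = 1 := by
    rw [← pow_mul, mul_comm, pow_mul, hζ.pow_eq_one, one_pow]
  have h2 : (ζ ^ j) ^ 2 = 1 := by
    rw [← orderOf_dvd_iff_pow_eq_one] at h6 hN ⊢
    have hg := Nat.dvd_gcd h6 hN
    have : Nat.gcd 6 (2 * h) ∣ 2 := by
      rw [ha, show 2 * 2 ^ (a + 1) = 2 * 2 ^ (a + 1) from rfl, show (6 : ℕ) = 2 * 3 from rfl,
        Nat.gcd_mul_left, (Nat.Coprime.pow_right (a + 1) (by norm_num : Nat.Coprime 3 2))]
    exact hg.trans this
  have := (hζ.pow_eq_one_iff_dvd _).1 (show ζ ^ (j * 2) = 1 by rw [pow_mul, h2])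
  have := Nat.le_of_dvd (by omega) this
  omega

/-- Descent to the principal block of the quotient by `Z O`. -/
theorem exists_descent (hM : IsPModular 2 M) (hd : d.Spec Ω) :
    ∃ (X : Type u) (_ : Group X) (_ : Fintype X) (π : C →* X), Function.Surjective π ∧
      (∀ g, π g = 1 ↔ g ∈ d.N0) ∧ ∀ ψ : IrrCharacter C, ψ ∈ principalBlock M C →
        (∀ n ∈ d.N0, (ψ : C → ℂ) n = (ψ : C → ℂ) 1) →
        ∃ χ : IrrCharacter X, χ ∈ principalBlock M X ∧ ∀ g, (ψ : C → ℂ) g = (χ : X → ℂ) (π g) := by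
  classical
  haveI := hd.onorm
  haveI : Fact (Nat.Prime 2) := ⟨Nat.prime_two⟩
  let Z' : Subgroup (C ⧸ d.O) := d.Z.map (QuotientGroup.mk' d.O)
  have hZc : Z' ≤ Subgroup.center (C ⧸ d.O) := by
    rintro _ ⟨u, hu, rfl⟩
    rw [Subgroup.mem_center_iff]
    intro q
    obtain ⟨c, rfl⟩ := QuotientGroup.mk_surjective q
    show ((c * u : C) : C ⧸ d.O) = ((u * c : C) : C ⧸ d.O)
    rw [QuotientGroup.eq]
    have := hd.onorm.conj_mem _ (hd.zcent u hu c⁻¹) c⁻¹⁻¹
    have := hd.onorm.conj_mem _ (inv_mem (hd.zcent u hu c)) (c * u)⁻¹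
    rwa [show (c * u)⁻¹ * (c * u * c⁻¹ * u⁻¹)⁻¹ * (c * u)⁻¹⁻¹ = (c * u)⁻¹ * (u * c) by group] at this
  haveI hZn : Z'.Normal := ⟨fun z hz g => by
    rwa [Subgroup.mem_center_iff.1 (hZc hz) g, mul_inv_cancel_right]⟩
  letI := Fintype.ofFinite (C ⧸ d.O)
  letI := Fintype.ofFinite ((C ⧸ d.O) ⧸ Z')
  refine ⟨(C ⧸ d.O) ⧸ Z', inferInstance, inferInstance,
    (QuotientGroup.mk' Z').comp (QuotientGroup.mk' d.O), ?_, fun g => ?_, ?_⟩
  · exact (QuotientGroup.mk'_surjective Z').comp (QuotientGroup.mk'_surjective d.O)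
  · rw [MonoidHom.comp_apply, QuotientGroup.mk'_apply, QuotientGroup.mk'_apply,
      QuotientGroup.eq_one_iff, hd.mem_N0]
    constructor
    · rintro ⟨u, hu, e⟩
      exact ⟨u, hu, u⁻¹ * g, QuotientGroup.eq.1 e, by group⟩
    · rintro ⟨u, hu, o, ho, rfl⟩
      exact ⟨u, hu, QuotientGroup.eq.2 (by rwa [inv_mul_cancel_left])⟩
  intro ψ hψ hk
  have h1 : SameBlock M (Inflation.inflIrr d.O (oneIrr (C ⧸ d.O)) : C → ℂ) (ψ : C → ℂ) := by
    rw [show Inflation.inflIrr d.O (oneIrr (C ⧸ d.O)) = oneIrr C from Subtype.ext rfl]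
    exact hψ
  obtain ⟨ψ1, he1, hb1⟩ := Inflation.block_of_inflation hM d.O
    (by rw [← even_iff_two_dvd, Nat.not_even_iff_odd]; exact hd.oodd) _ h1
  have hk1 : ∀ z ∈ Z', (ψ1 : C ⧸ d.O → ℂ) z = (ψ1 : C ⧸ d.O → ℂ) 1 := by
    rintro _ ⟨u, hu, rfl⟩
    have := hk u (Subgroup.mem_sup_left hu)
    rw [he1] at this
    exact this
  obtain ⟨χf, hχf, he2⟩ := exists_quotient_irr Z' ψ1.2 hk1
  let χ : IrrCharacter ((C ⧸ d.O) ⧸ Z') := ⟨χf, hχf⟩
  refine ⟨χ, ?_, fun g => ?_⟩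
  · show SameBlock M ((oneIrr _ : IrrCharacter ((C ⧸ d.O) ⧸ Z'))   : (C ⧸ d.O) ⧸ Z' → ℂ) (χ : (C ⧸ d.O) ⧸ Z' → ℂ)
    rw [Inflation.sameBlock_inflIrr_iff Z' hM (d.S.2.to_le hd.zle_S |>.map _)
      ⟨0, by rw [pow_zero, Subgroup.index_eq_one, Subgroup.centralizer_eq_top_iff_subset]; exact hZc⟩,
      show Inflation.inflIrr Z' χ = ψ1 from Subtype.ext he2.symm,
      show Inflation.inflIrr Z' (oneIrr _) = oneIrr (C ⧸ d.O) from Subtype.ext rfl]
    exact hb1
  · rw [he1, Function.comp_apply, he2]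
    rfl

/-- On the quotient: the characters of the principal block on regular elements. -/
theorem regular_span (hM : IsPModular 2 M) (hd : d.Spec Ω) (hr : d.Rot lam b0 x h)
    {X : Type u} [Group X] [Fintype X] (π : C →* X) (hπ : Function.Surjective π)
    (hker : ∀ g, π g = 1 ↔ g ∈ d.N0) (χ : IrrCharacter X) (hχ : χ ∈ principalBlock M X) :
    ∃ α β : ℂ, ∀ v : C, ¬ 2 ∣ orderOf v → (χ : X → ℂ) (π v) = α + β * St Ω v := by
  classical
  haveI := hd.normal_N0
  obtain ⟨P, hh⟩ := exists_dih hd hr π hπ hker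
  have h2 := hh.two_le
  have hlamker : ∀ n ∈ d.N0, lam n = 1 := by
    intro n hn
    obtain ⟨u, hu, o, ho, rfl⟩ := hd.mem_N0.1 hn
    rw [map_mul, hr.lamZ u hu, one_mul]
    refine lam_regular hr.lamsq fun h2 => ?_
    have := h2.trans (d.O.orderOf_dvd_natCard ho)
    rw [← even_iff_two_dvd] at this
    exact Nat.not_even_iff_odd.2 hd.oodd this
  let e : C ⧸ d.N0 ≃* X := (QuotientGroup.quotientMulEquivOfEq (show d.N0 = π.ker by
    ext g; rw [MonoidHom.mem_ker, hker])).trans (QuotientGroup.quotientKerEquivOfSurjective π hπ)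
  have hpush : ∀ f : C → ℂ, IsIrrCharacter C f → (∀ n ∈ d.N0, f n = f 1) →
      ∃ χ' : IrrCharacter X, ∀ g, (χ' : X → ℂ) (π g) = f g := by
    intro f hf hk
    obtain ⟨g', hg', hfg⟩ := exists_quotient_irr d.N0 hf hk
    refine ⟨⟨fun q => g' (e.symm q),
      isIrrCharacter_comp_surjective hg' e.symm.toMonoidHom e.symm.surjective⟩, fun g => ?_⟩
    show g' (e.symm (π g)) = f g
    rw [show π g = e (g : C ⧸ d.N0) from rfl, MulEquiv.symm_apply_apply, hfg]
  obtain ⟨St', hSt'⟩ := hpush (St Ω) hd.St_irr fun n hn => by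
    have h1 : MulAction.fixedBy Ω n = MulAction.fixedBy Ω (1 : C) := by
      ext a; simp [hd.N0_triv hn a]
    simp only [St, h1]
  obtain ⟨lam', hlam'⟩ := hpush (fun g => ((lam g : ℂˣ) : ℂ)) (isIrrCharacter_linear lam)
    fun n hn => by simp [hlamker n hn]
  have hσc : (d.σ b0 : ℂ) = 1 ∨ (d.σ b0 : ℂ) = -1 := by
    rcases hd.sgn b0 with e | e <;> simp [e]
  have hσ0 : (d.σ b0 : ℂ) ≠ 0 := by rcases hσc with e | e <;> simp [e]
  -- both are in the principal block
  have hsec : ∀ w ∈ regC 2 (π x), ∃ (w0 : C) (m : ℕ), Odd m ∧ w0 ^ m ∈ d.N0 ∧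
      (x * w0)⁻¹ * (w0 * x) ∈ d.N0 ∧ π w0 = w := by
    intro w hw
    obtain ⟨hc, ho⟩ := mem_regC.1 hw
    obtain ⟨w0, rfl⟩ := hπ w
    refine ⟨w0, orderOf (π w0), Nat.odd_iff.2 (Nat.two_dvd_ne_zero.1 ho), ?_, ?_, rfl⟩
    · rw [← hker, map_pow, pow_orderOf_eq_one]
    · rw [← hker, map_mul, map_inv, inv_mul_eq_one, map_mul, map_mul]
      exact hc.eq.symm
  have hStB : St' ∈ principalBlock M X := by
    refine mem_principal_of_section hd hr hM hh St' hσ0 fun w hw => ?_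
    obtain ⟨w0, m, hm, h1, h2, rfl⟩ := hsec w hw
    rw [← map_mul, hSt']
    exact St_section hd hr hm h1 h2
  have hlamB : lam' ∈ principalBlock M X := by
    refine mem_principal_of_section hd hr hM hh lam' (neg_ne_zero.2 one_ne_zero) fun w hw => ?_
    obtain ⟨w0, m, hm, h1, h2, rfl⟩ := hsec w hw
    rw [← map_mul, hlam', map_mul, hr.lamx]
    have h3 : lam w0 = 1 := by
      obtain ⟨k, rfl⟩ := hm
      have := hlamker _ h1
      rwa [map_pow, pow_succ, pow_mul, sq, hr.lamsq, one_pow, one_mul] at this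
    simp [h3]
  obtain ⟨ζ, hζ⟩ : ∃ ζ : ℂ, IsPrimitiveRoot ζ (2 * h) :=
    ⟨_, Complex.isPrimitiveRoot_exp _ (by omega)⟩
  obtain ⟨U, V, W, s, eU, eV, eW, heU, heV, heW, -, -, -, hB, hval, hreg⟩ := hh.exists_columns hM hζ
  have hx2 : x ^ 2 ∉ d.Z := hr.xlow 2 (by omega) (by omega)
  have vSt1 : (St' : X → ℂ) (π x ^ 1) = d.σ b0 := by
    rw [← map_pow, hSt', St_pow hd hr (pow_odd_notMem hd hr odd_one)]
  have vSt2 : (St' : X → ℂ) (π x ^ 2) = d.σ b0 := by rw [← map_pow, hSt', St_pow hd hr hx2]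
  have vl1 : (lam' : X → ℂ) (π x ^ 1) = -1 := by
    rw [← map_pow, hlam', pow_one, hr.lamx]; simp
  have vl2 : (lam' : X → ℂ) (π x ^ 2) = 1 := by
    rw [← map_pow, hlam', sq, map_mul, hr.lamx]; simp
  obtain ⟨hW1, hU1, hV1, hs1⟩ := hval 1 one_pos (by omega)
  obtain ⟨hW2, hU2, hV2, -⟩ := hval 2 two_pos (by omega)
  have heWc : (eW : ℂ) = 1 ∨ (eW : ℂ) = -1 := by rcases heW with e | e <;> simp [e]
  have heUc : (eU : ℂ) ≠ 0 := by rcases heU with e | e <;> simp [e]
  have heVc : (eV : ℂ) ≠ 0 := by rcases heV with e | e <;> simp [e]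
  have hnots : ∀ (j : Fin (h - 1)) (c : ℂ), (c = 1 ∨ c = -1) → (s j : X → ℂ) (π x ^ 1) ≠ c := by
    intro j c hc
    rw [hs1 j, pow_one]
    exact ne_pm_one hr.hpow hζ (Nat.succ_pos _) (by omega) heWc hc
  have hStW : St' = W := by
    rcases (hB St').1 hStB with e | e | e | e | ⟨j, e⟩
    · exfalso
      have := hSt' 1
      rw [map_one, e, St_one, hd.card] at this
      change (1 : ℂ) = _ at this
      push_cast at this
      rw [add_sub_cancel_right] at this
      have hq : (d.q : ℂ) = 1 := this.symm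
      have := hd.qlb
      norm_cast at hq
      omega
    · exfalso
      rw [e] at vSt1 vSt2
      rw [hU1] at vSt1
      rw [hU2, ← vSt1] at vSt2
      norm_num at vSt2
      exact heUc (by exact_mod_cast (by linear_combination vSt2 / (-2) : (eU : ℂ) = 0))
    · exfalso
      rw [e] at vSt1 vSt2
      rw [hV1] at vSt1
      rw [hV2, ← vSt1] at vSt2
      norm_num at vSt2
      exact heVc (by exact_mod_cast (by linear_combination vSt2 / (-2) : (eV : ℂ) = 0))
    · exact e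
    · exact absurd (e ▸ vSt1) (hnots j _ hσc)
  have hlamUV : lam' = U ∨ lam' = V := by
    rcases (hB lam').1 hlamB with e | e | e | e | ⟨j, e⟩
    · exfalso
      rw [e] at vl1
      change (1 : ℂ) = -1 at vl1
      norm_num at vl1
    · exact Or.inl e
    · exact Or.inr e
    · exfalso
      rw [e, hW1] at vl1
      rw [e, hW2, vl1] at vl2
      norm_num at vl2
    · exact absurd (e ▸ vl1) (hnots j _ (Or.inr rfl))
  have hregX : ∀ v : C, ¬ 2 ∣ orderOf v → ¬ 2 ∣ orderOf (π v) := fun v hv hh' =>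
    hv (hh'.trans (orderOf_map_dvd π v))
  have j0 : Fin (h - 1) := ⟨0, by omega⟩
  have hL : ∀ v : C, ¬ 2 ∣ orderOf v → (lam' : X → ℂ) (π v) = 1 := fun v hv => by
    rw [hlam', lam_regular hr.lamsq hv]; simp
  have hWv : ∀ v : C, (W : X → ℂ) (π v) = St Ω v := fun v => by rw [← hStW, hSt']
  rcases (hB χ).1 hχ with e | e | e | e | ⟨j, e⟩ <;> rw [e]
  · exact ⟨1, 0, fun v _ => by simp [oneIrr]⟩
  · rcases hlamUV with e' | e'
    · exact ⟨1, 0, fun v hv => by rw [← e', hL v hv]; ring⟩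
    · refine ⟨(-1 - eV) / eU, -eW / eU, fun v hv => ?_⟩
      have h1 := (hreg (π v) (hregX v hv) j0).1
      rw [← e', hL v hv, hWv] at h1
      field_simp
      linear_combination h1
  · rcases hlamUV with e' | e'
    · refine ⟨(-1 - eU) / eV, -eW / eV, fun v hv => ?_⟩
      have h1 := (hreg (π v) (hregX v hv) j0).1
      rw [← e', hL v hv, hWv] at h1
      field_simp
      linear_combination h1
    · exact ⟨1, 0, fun v hv => by rw [← e', hL v hv]; ring⟩
  · exact ⟨0, 1, fun v _ => by rw [hWv]; ring⟩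
  · refine ⟨(eW : ℂ)⁻¹, 1, fun v hv => ?_⟩
    have h1 := (hreg (π v) (hregX v hv) j).2
    rw [hWv] at h1
    have : (eW : ℂ) ≠ 0 := by rcases heWc with e | e <;> simp [e]
    field_simp
    linear_combination -h1

/-- The principal block of the centraliser on regular elements. -/
theorem principal_reg (hM : IsPModular 2 M) (hd : d.Spec Ω) (hr : d.Rot lam b0 x h)
    {ψ : IrrCharacter C} (hψ : ψ ∈ principalBlock M C) :
    ∃ α β : ℂ, ∀ v : C, ¬ 2 ∣ orderOf v → (ψ : C → ℂ) v = α + β * St Ω v := by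
  classical
  haveI := hd.normal_N0
  haveI := hd.onorm
  letI : Fintype d.N0 := Fintype.ofFinite _
  obtain ⟨X, iX, fX, π, hπ, hker, hdesc⟩ := exists_descent hM hd
  have hB : IsPBlock M (principalBlock M C) := principalBlock_isPBlock
  -- coefficients for the members trivial on `Z O`
  have hmem : ∀ φ : IrrCharacter C, ∃ α β : ℂ, φ ∈ principalBlock M C →
      (∀ n ∈ d.N0, (φ : C → ℂ) n = (φ : C → ℂ) 1) →
      ∀ v : C, ¬ 2 ∣ orderOf v → (φ : C → ℂ) v = α + β * St Ω v := by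
    intro φ
    by_cases hφ : φ ∈ principalBlock M C ∧ ∀ n ∈ d.N0, (φ : C → ℂ) n = (φ : C → ℂ) 1
    · obtain ⟨χ, hχ, he⟩ := hdesc φ hφ.1 hφ.2
      obtain ⟨α, β, hab⟩ := regular_span hM hd hr π hπ hker χ hχ
      exact ⟨α, β, fun _ _ v hv => by rw [he v, hab v hv]⟩
    · exact ⟨0, 0, fun h1 h2 => absurd ⟨h1, h2⟩ hφ⟩
  choose A B hAB using hmem
  set c : IrrCharacter C → ℂ := fun φ => if (∀ n ∈ d.N0, (φ : C → ℂ) n = (φ : C → ℂ) 1) then
    regS 2 (ψ : C → ℂ) (φ : C → ℂ) * (Nat.card d.N0 : ℂ) else 0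
  set K : ℂ := (Nat.card d.O : ℂ) * (Nat.card C : ℂ) with hK
  have hK0 : K ≠ 0 := mul_ne_zero (Nat.cast_ne_zero.2 Nat.card_pos.ne')
    (Nat.cast_ne_zero.2 Nat.card_pos.ne')
  refine ⟨K⁻¹ * ∑ φ ∈ bset (principalBlock M C), c φ * A φ,
    K⁻¹ * ∑ φ ∈ bset (principalBlock M C), c φ * B φ, fun v hv => ?_⟩
  have hkey : K * (ψ : C → ℂ) v = ∑ φ ∈ bset (principalBlock M C), c φ * (φ : C → ℂ) v := by
    have hinner : ∀ φ : IrrCharacter C,
        regS 2 (ψ : C → ℂ) (φ : C → ℂ) * ∑ n : d.N0, (φ : C → ℂ) (v * n) = c φ * (φ : C → ℂ) v := by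
      intro φ
      have e1 : ∀ n : d.N0, (φ : C → ℂ) (v * n) = (φ : C → ℂ) ((n : C) * v) := fun n => by
        conv_rhs => rw [← isClassFunction_irr φ.2 ((n : C) * v) v]
        exact congrArg _ (by group)
      rw [Fintype.sum_congr _ _ e1]
      by_cases hk : ∀ n ∈ d.N0, (φ : C → ℂ) n = (φ : C → ℂ) 1
      · simp only [c, if_pos hk, apply_mul_of_kernel d.N0 (isCharacter_of_irr φ.2) hk,
          Finset.sum_const, Finset.card_univ, nsmul_eq_mul, Nat.card_eq_fintype_card]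
        ring
      · have h0 := congrFun ((kernel_or_cosetAvg_eq_zero d.N0 φ.2).resolve_left hk) v
        simp only [cosetAvg, Pi.zero_apply, mul_eq_zero, inv_eq_zero, Nat.cast_eq_zero,
          Nat.card_pos.ne', false_or] at h0
        simp only [c, if_neg hk, h0, mul_zero, zero_mul]
    rw [← Finset.sum_congr rfl fun φ _ => hinner φ]
    simp only [Finset.mul_sum]
    rw [Finset.sum_comm, Finset.sum_congr rfl fun (n : d.N0) _ => sum_regS_mul hM hB ψ (v * n)]
    simp only [ind_of_mem hψ, one_mul]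
    rw [Finset.sum_ite, Finset.sum_const_zero, zero_add]
    have hO : ∀ n ∈ Finset.univ.filter (fun n : d.N0 => ¬ 2 ∣ orderOf (v * (n : C))),
        (Nat.card C : ℂ) * (ψ : C → ℂ) (v * n) = (Nat.card C : ℂ) * (ψ : C → ℂ) v := by
      intro n hn
      have hnO : (n : C) ∈ d.O := (hd.regular_coset hv n.2).1 (Finset.mem_filter.1 hn).2
      have hk : ∀ o ∈ d.O, (ψ : C → ℂ) o = (ψ : C → ℂ) 1 := fun o ho =>
        principal_kernel hM (by rw [← even_iff_two_dvd, Nat.not_even_iff_odd]; exact hd.oodd) hψ ho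
      conv_lhs => rw [← isClassFunction_irr ψ.2 (v * n) (n : C)]
      rw [show (n : C) * (v * n) * (n : C)⁻¹ = (n : C) * v by group]
      rw [apply_mul_of_kernel d.O (isCharacter_of_irr ψ.2) hk ⟨n, hnO⟩ v]
    rw [Finset.sum_congr rfl hO, Finset.sum_const, nsmul_eq_mul]
    have hcard : (Finset.univ.filter fun n : d.N0 => ¬ 2 ∣ orderOf (v * (n : C))).card =
        Nat.card d.O := by
      rw [← Fintype.card_subtype, ← Nat.card_eq_fintype_card]
      exact Nat.card_congr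
        { toFun := fun n => ⟨n.1.1, (hd.regular_coset hv n.1.2).1 n.2⟩
          invFun := fun o => ⟨⟨o.1, Subgroup.mem_sup_right o.2⟩,
            (hd.regular_coset hv (Subgroup.mem_sup_right o.2)).2 o.2⟩
          left_inv := fun n => rfl
          right_inv := fun o => rfl }
    rw [hcard, hK]
    ring
  have hfin : ∀ φ ∈ bset (principalBlock M C), c φ * (φ : C → ℂ) v =
      c φ * A φ + c φ * B φ * St Ω v := by
    intro φ hφ
    by_cases hk : ∀ n ∈ d.N0, (φ : C → ℂ) n = (φ : C → ℂ) 1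
    · rw [hAB φ (mem_bset.1 hφ) hk v hv]; ring
    · simp [c, hk]
  rw [Finset.sum_congr rfl hfin, Finset.sum_add_distrib, ← Finset.sum_mul] at hkey
  field_simp
  linear_combination hkey

end CfsgLib.BrauerOrder
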