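import Cfsg.Agent.Lib.BrauerOrder.Defs

/-!
# Shape calculus on the centraliser

Sections, sums of the Steinberg character over them, and the inner products of the functions `R`.
-/

set_option autoImplicit false
set_option linter.unusedSectionVars false
set_option linter.style.haveILetI false

namespace CfsgLib.BrauerOrder

open Cfsg CfsgLib.CharTheory CfsgLib.Blocks.AbelianFree
open scoped ComplexConjugate

universe u v

variable {C : Type u} [Group C] [Fintype C] {Ω : Type v} [MulAction C Ω] {d : Core C}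

/-- The `2`-part. -/
noncomputable abbrev p2 (g : C) : C := pPart Nat.prime_two g

theorem p2_spec (g : C) : ∃ w : C, p2 g * w = g ∧ Commute (p2 g) w ∧
    (∃ k : ℕ, orderOf (p2 g) = 2 ^ k) ∧ ¬ 2 ∣ orderOf w :=
  (exists_pPart_eq Nat.prime_two g).choose_spec

theorem p2_two (g : C) : ∃ k : ℕ, orderOf (p2 g) = 2 ^ k :=
  (p2_spec g).choose_spec.2.2.1

theorem p2_mul {t v : C} (ht : ∃ k : ℕ, orderOf t = 2 ^ k) (hc : Commute v t) (hv : ¬ 2 ∣ orderOf v) :
    p2 (t * v) = t :=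
  pPart_mul Nat.prime_two hc.symm ht hv

theorem two_of_mem (hd : d.Spec Ω) {b : Bool} {t : C} (ht : t ∈ d.T b) : ∃ k : ℕ, orderOf t = 2 ^ k := by
  haveI : Fact (Nat.Prime 2) := ⟨Nat.prime_two⟩
  obtain ⟨k, hk⟩ := IsPGroup.iff_orderOf.1 d.S.2 ⟨t, hd.tle b ht⟩
  exact ⟨k, by rw [← hk, Subgroup.orderOf_mk]⟩

theorem card_T_pow (hd : d.Spec Ω) (b : Bool) : ∃ k : ℕ, Nat.card (d.T b) = 2 ^ k := by
  haveI : Fact (Nat.Prime 2) := ⟨Nat.prime_two⟩
  exact IsPGroup.iff_card.1 (d.S.2.to_le (hd.tle b))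

theorem odd_S_trivial (hd : d.Spec Ω) {a : C} (haO : a ∈ d.O) (ha : ∃ k : ℕ, orderOf a = 2 ^ k) :
    a = 1 := by
  obtain ⟨k, hk⟩ := ha
  rcases Nat.eq_zero_or_pos k with rfl | hk0
  · exact orderOf_eq_one_iff.1 (by rw [hk, pow_zero])
  · exfalso
    have h : 2 ∣ Nat.card d.O := (dvd_pow_self 2 hk0.ne').trans (hk ▸ Subgroup.orderOf_dvd_natCard _ haO)
    exact (Nat.not_even_iff_odd.2 hd.oodd) (even_iff_two_dvd.2 h)

theorem urep_unique (hd : d.Spec Ω) {p u u' : C} (hu : u ∈ d.Z) (hu' : u' ∈ d.Z) (h : p * u⁻¹ ∈ d.O)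
    (h' : p * u'⁻¹ ∈ d.O) : u = u' := by
  have hS : u' * u⁻¹ ∈ (d.S : Subgroup C) :=
    hd.tle true (hd.zle true (d.Z.mul_mem hu' (d.Z.inv_mem hu)))
  have hO : u' * u⁻¹ ∈ d.O := by
    have := d.O.mul_mem (d.O.inv_mem h') h
    simpa [mul_assoc] using this
  have h1 := odd_S_trivial hd hO (by
    haveI : Fact (Nat.Prime 2) := ⟨Nat.prime_two⟩
    obtain ⟨k, hk⟩ := IsPGroup.iff_orderOf.1 d.S.2 ⟨_, hS⟩
    exact ⟨k, by rw [← hk, Subgroup.orderOf_mk]⟩)
  exact (mul_inv_eq_one.1 h1).symm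

theorem fixedBy_conj (x g : C) :
    Nat.card (MulAction.fixedBy Ω (x * g * x⁻¹)) = Nat.card (MulAction.fixedBy Ω g) := by
  refine (Nat.card_congr (Equiv.subtypeEquiv (MulAction.toPerm x) fun a => ?_)).symm
  show g • a = a ↔ (x * g * x⁻¹) • (x • a) = x • a
  rw [← mul_smul, inv_mul_cancel_right, mul_smul, smul_left_cancel_iff]

theorem St_conj (x g : C) : St Ω (x * g * x⁻¹) = St Ω g := by rw [St, St, fixedBy_conj]

theorem St_isClassFunction : IsClassFunction C (St Ω : C → ℂ) := fun g x => St_conj x g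

theorem finite_omega (hd : d.Spec Ω) : Finite Ω :=
  (Nat.card_pos_iff.1 (by rw [hd.card]; exact Nat.succ_pos _)).2

/-- `g` lies over the central part. -/
def CType (d : Core C) (g : C) : Prop := ∃ u ∈ d.Z, p2 g * u⁻¹ ∈ d.O

/-- `g` lies over `T b` outside the central part. -/
def TType (d : Core C) (b : Bool) (g : C) : Prop := ∃ t ∈ d.T b, t ∉ d.Z ∧ IsConj (p2 g) t

theorem fix_p2_of_ttype (hd : d.Spec Ω) {b : Bool} {g : C} (h : TType d b g) :
    (Nat.card (MulAction.fixedBy Ω (p2 g)) : ℤ) = 1 + d.σ b := by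
  obtain ⟨t, ht, hz, hc⟩ := h
  obtain ⟨x, hx⟩ := isConj_iff.1 hc
  rw [← hd.fix b t ht hz, ← hx, fixedBy_conj]

theorem fix_p2_of_ctype (hd : d.Spec Ω) {g : C} (h : CType d g) :
    Nat.card (MulAction.fixedBy Ω (p2 g)) = d.q + 1 := by
  obtain ⟨u, hu, ho⟩ := h
  rw [← hd.card]
  refine Nat.card_congr (Equiv.subtypeUnivEquiv fun a => ?_)
  show p2 g • a = a
  rw [show p2 g = p2 g * u⁻¹ * u by group, mul_smul, hd.ztriv u hu, hd.otriv _ ho]

theorem not_ctype_of_ttype (hd : d.Spec Ω) {b : Bool} {g : C} (h : TType d b g) : ¬ CType d g := by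
  intro hc
  have h1 := fix_p2_of_ttype hd h
  rw [fix_p2_of_ctype hd hc] at h1
  have := hd.qlb
  rcases hd.sgn b with e | e <;> rw [e] at h1 <;> omega

theorem ttype_unique (hd : d.Spec Ω) {b b' : Bool} {g : C} (h : TType d b g) (h' : TType d b' g) :
    b = b' := by
  by_contra hne
  have h1 := (fix_p2_of_ttype hd h).symm.trans (fix_p2_of_ttype hd h')
  have hs := hd.sgnne
  have e : d.σ true = 1 ∨ d.σ true = -1 := hd.sgn true
  cases b <;> cases b' <;> simp at hne <;> omega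

theorem types (hd : d.Spec Ω) (g : C) : CType d g ∨ TType d false g ∨ TType d true g := by
  obtain ⟨t, hc, ht⟩ := hd.exh _ (p2_two g)
  have hZ : t ∈ d.Z → CType d g := fun hu => by
    obtain ⟨x, hx⟩ := isConj_iff.1 hc.symm
    refine ⟨t, hu, ?_⟩
    rw [← hx]
    exact hd.zcent t hu x
  by_cases hz : t ∈ d.Z
  · exact Or.inl (hZ hz)
  rcases ht with h | h | h
  · exact absurd h hz
  · exact Or.inr (Or.inl ⟨t, h, hz, hc⟩)
  · exact Or.inr (Or.inr ⟨t, h, hz, hc⟩)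

theorem ncj_not_mem (hd : d.Spec Ω) {b : Bool} {t : C} (ht : t ∈ d.T b) (hz : t ∉ d.Z) :
    d.n b * t * (d.n b)⁻¹ ∉ d.Z := by
  intro h
  have e := hd.zS _ h _ (hd.nmem b)
  rw [show d.n b * t * (d.n b)⁻¹ * d.n b = d.n b * t by group] at e
  exact hz ((hd.nfix b t ht).1 (mul_left_cancel e))

theorem tv_mem {b : Bool} (τ : ↥(d.T b) →* ℂˣ) {t : C} (ht : t ∈ d.T b) :
    d.tv τ t = (τ ⟨t, ht⟩ : ℂ) := dif_pos ht

theorem R_ctype (hd : d.Spec Ω) (b : Bool) (τ : ↥(d.T b) →* ℂˣ) {g u : C} (hu : u ∈ d.Z)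
    (h : p2 g * u⁻¹ ∈ d.O) : d.R Ω b τ g = d.tv τ u * (1 + (d.σ b : ℂ) * St Ω g) := by
  have hex : ∃ u ∈ d.Z, p2 g * u⁻¹ ∈ d.O := ⟨u, hu, h⟩
  rw [Core.R, dif_pos hex, urep_unique hd hex.choose_spec.1 hu hex.choose_spec.2 h]

theorem R_ttype (hd : d.Spec Ω) (b : Bool) (τ : ↥(d.T b) →* ℂˣ) {g t : C} (ht : t ∈ d.T b)
    (hz : t ∉ d.Z) (hc : IsConj (p2 g) t) :
    d.R Ω b τ g = d.tv τ t + d.tv τ (d.n b * t * (d.n b)⁻¹) := by
  have hex : ∃ t ∈ d.T b, t ∉ d.Z ∧ IsConj (p2 g) t := ⟨t, ht, hz, hc⟩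
  have hnc : ¬ ∃ u ∈ d.Z, pPart Nat.prime_two g * u⁻¹ ∈ d.O := not_ctype_of_ttype hd (b := b) hex
  rw [Core.R, dif_neg hnc, dif_pos hex]
  obtain ⟨h1, h2, h3⟩ := hex.choose_spec
  rcases hd.uniq b t ht hz _ h1 h2 (hc.symm.trans h3) with e | e
  · rw [e]
  · rw [e]
    have h4 : d.n b * (d.n b * t * (d.n b)⁻¹) * (d.n b)⁻¹ = t := by
      rw [show d.n b * (d.n b * t * (d.n b)⁻¹) * (d.n b)⁻¹ = d.n b * d.n b * t * (d.n b * d.n b)⁻¹ by group,
        hd.tcomm b _ (hd.nsq b) t ht, mul_inv_cancel_right]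
    rw [h4, add_comm]

theorem R_other (hd : d.Spec Ω) (b : Bool) (τ : ↥(d.T b) →* ℂˣ) {g : C} (h : TType d (!b) g) :
    d.R Ω b τ g = 0 := by
  have hnc : ¬ ∃ u ∈ d.Z, pPart Nat.prime_two g * u⁻¹ ∈ d.O := not_ctype_of_ttype hd h
  rw [Core.R, dif_neg hnc, dif_neg]
  intro h'
  have := ttype_unique hd (b := b) h' h
  cases b <;> simp at this

theorem p2_conj (x g : C) : p2 (x * g * x⁻¹) = x * p2 g * x⁻¹ := pPart_conj Nat.prime_two x g

theorem isConj_p2_conj (x g t : C) : IsConj (p2 (x * g * x⁻¹)) t ↔ IsConj (p2 g) t := by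
  have h : IsConj (p2 g) (p2 (x * g * x⁻¹)) := isConj_iff.2 ⟨x, (p2_conj x g).symm⟩
  exact ⟨fun e => h.trans e, fun e => h.symm.trans e⟩

theorem ctype_conj (hd : d.Spec Ω) (x g u : C) (hu : u ∈ d.Z) (h : p2 g * u⁻¹ ∈ d.O) :
    p2 (x * g * x⁻¹) * u⁻¹ ∈ d.O := by
  haveI := hd.onorm
  have := d.O.mul_mem (hd.onorm.conj_mem _ h x) (hd.zcent u hu x)
  rw [p2_conj]
  simpa [mul_assoc] using this

theorem R_isClassFunction (hd : d.Spec Ω) (b : Bool) (τ : ↥(d.T b) →* ℂˣ) :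
    IsClassFunction C (d.R Ω b τ) := by
  intro g x
  rcases types hd g with ⟨u, hu, h⟩ | h | h
  · rw [R_ctype hd b τ hu h, R_ctype hd b τ hu (ctype_conj hd x g u hu h), St_conj]
  all_goals
    obtain ⟨t, ht, hz, hc⟩ := h
    have hc' : IsConj (p2 (x * g * x⁻¹)) t := (isConj_p2_conj x g t).2 hc
  · cases b
    · rw [R_ttype hd false τ ht hz hc, R_ttype hd false τ ht hz hc']
    · rw [R_other hd true τ (g := g) ⟨t, ht, hz, hc⟩, R_other hd true τ ⟨t, ht, hz, hc'⟩]
  · cases b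
    · rw [R_other hd false τ (g := g) ⟨t, ht, hz, hc⟩, R_other hd false τ ⟨t, ht, hz, hc'⟩]
    · rw [R_ttype hd true τ ht hz hc, R_ttype hd true τ ht hz hc']

/-- On a noncentral section the fixed points are those of the `2`-part. -/
theorem St_ttype (hd : d.Spec Ω) {b : Bool} {g : C} (h : TType d b g) : St Ω g = (d.σ b : ℂ) := by
  haveI := finite_omega hd
  have hp := fix_p2_of_ttype hd h
  obtain ⟨w, hg, hc, ⟨k, hk⟩, hw⟩ := p2_spec g
  set p := p2 g with hpdef
  have hle : ∀ a : Ω, g • a = a → p • a = a ∧ w • a = a := by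
    intro a ha
    have hgs : g ∈ MulAction.stabilizer C a := ha
    have hpow : p ^ orderOf w = g ^ orderOf w := by
      rw [← hg, hc.mul_pow, pow_orderOf_eq_one, mul_one]
    have hp' : p ∈ MulAction.stabilizer C a := by
      have hcop : (orderOf w).Coprime (orderOf p) := by
        rw [hk]; exact ((Nat.prime_two.coprime_iff_not_dvd.2 hw).symm).pow_right k
      obtain ⟨m, hm⟩ := exists_pow_eq_self_of_coprime hcop
      rw [← hm, hpow]
      exact Subgroup.pow_mem _ (Subgroup.pow_mem _ hgs _) _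
    refine ⟨hp', ?_⟩
    rw [show w = p⁻¹ * g by rw [← hg, inv_mul_cancel_left], mul_smul, ha, inv_smul_eq_iff]
    exact hp'.symm
  have hw' : ∀ a : Ω, p • a = a → w • a = a := by
    intro a ha
    by_contra hne
    have hmem : ∀ b : Ω, p • b = b → p • (w • b) = w • b := fun b hb => by
      rw [← mul_smul, hc.eq, mul_smul, hb]
    have h2 : Nat.card (MulAction.fixedBy Ω p) ≤ 2 := by rcases hd.sgn b with e | e <;> omega
    have hww : w • w • a = a := by
      by_contra hne2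
      classical
      have hne3 : w • w • a ≠ w • a := fun e => hne ((smul_left_cancel_iff w).1 e)
      let f : Fin 3 → MulAction.fixedBy Ω p :=
        ![⟨a, ha⟩, ⟨w • a, hmem a ha⟩, ⟨w • w • a, hmem _ (hmem a ha)⟩]
      have hf : Function.Injective f := by
        intro i j e
        have e' := congrArg Subtype.val e
        fin_cases i <;> fin_cases j <;>
          first
            | rfl
            | exact absurd e' (Ne.symm hne)
            | exact absurd e' hne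
            | exact absurd e' (Ne.symm hne2)
            | exact absurd e' hne2
            | exact absurd e' (Ne.symm hne3)
            | exact absurd e' hne3
      have := Nat.card_le_card_of_injective f hf
      rw [Nat.card_fin] at this
      omega
    obtain ⟨j, hj⟩ : Odd (orderOf w) := Nat.odd_iff.2 (by omega)
    refine hne ?_
    have hsq : ∀ i : ℕ, w ^ (2 * i) • a = a := by
      intro i
      induction i with
      | zero => simp
      | succ i ih => rw [show 2 * (i + 1) = 2 + 2 * i by ring, pow_add, mul_smul, ih, sq, mul_smul, hww]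
    have h1 : w ^ (orderOf w) • a = w • a := by rw [hj, pow_succ', mul_smul, hsq]
    rw [← h1, pow_orderOf_eq_one, one_smul]
  have e : Nat.card (MulAction.fixedBy Ω g) = Nat.card (MulAction.fixedBy Ω p) := by
    refine Nat.card_congr (Equiv.subtypeEquivRight fun a => ⟨fun ha => (hle a ha).1, fun ha => ?_⟩)
    show g • a = a
    rw [← hg, mul_smul, hw' a ha, ha]
  rw [St, e, show ((Nat.card (MulAction.fixedBy Ω p) : ℂ)) = ((1 + d.σ b : ℤ) : ℂ) by rw [← hp]; norm_cast]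
  push_cast
  ring

section Sums

open Classical in
/-- The section of `u` over the central part. -/
noncomputable def secZ (d : Core C) (u : C) : Finset C :=
  Finset.univ.filter fun g => p2 g * u⁻¹ ∈ d.O

theorem mem_secZ {u g : C} : g ∈ secZ d u ↔ p2 g * u⁻¹ ∈ d.O := by simp [secZ]

open Classical in
/-- The section of a `2`-element. -/
theorem section_sum {F : C → ℂ} (hF : IsClassFunction C F) {t : C} (ht : ∃ k : ℕ, orderOf t = 2 ^ k) :
    (Nat.card (Subgroup.centralizer ({t} : Set C)) : ℂ) *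
        ∑ g ∈ Finset.univ.filter (fun g => IsConj (p2 g) t), F g =
      (Nat.card C : ℂ) * ∑ v ∈ regC 2 t, F (t * v) := by
  have h1 : ∑ g ∈ Finset.univ.filter (fun g => IsConj (p2 g) t), F g =
      ∑ p ∈ Finset.univ.filter (fun p => IsConj p t), ∑ v ∈ regC 2 p, F (p * v) := by
    rw [← Finset.sum_fiberwise_of_maps_to (g := fun g => p2 g)
      (t := Finset.univ.filter (fun p => IsConj p t)) (fun g hg => by simpa using hg)]
    refine Finset.sum_congr rfl fun p hp => ?_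
    have hp' : IsConj p t := (Finset.mem_filter.1 hp).2
    have hpo : ∃ k : ℕ, orderOf p = 2 ^ k := by
      obtain ⟨x, hx⟩ := isConj_iff.1 hp'
      obtain ⟨k, hk⟩ := ht
      exact ⟨k, by rw [← hk, ← hx, CfsgLib.Blocks.conj_orderOf]⟩
    symm
    refine Finset.sum_bij (fun v _ => p * v) (fun v hv => ?_) (fun a _ b _ e => mul_left_cancel e)
      (fun g hg => ?_) (fun _ _ => rfl)
    · obtain ⟨hc, hv'⟩ := mem_regC.1 hv
      simp only [Finset.mem_filter, Finset.mem_univ, true_and]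
      rw [p2_mul hpo hc hv']
      exact ⟨hp', rfl⟩
    · simp only [Finset.mem_filter, Finset.mem_univ, true_and] at hg
      obtain ⟨w, hw, hc, -, hwo⟩ := p2_spec g
      rw [hg.2] at hw hc
      exact ⟨w, mem_regC.2 ⟨hc.symm, hwo⟩, hw⟩
  have h2 : ∀ p ∈ Finset.univ.filter (fun p => IsConj p t),
      ∑ v ∈ regC 2 p, F (p * v) = ∑ v ∈ regC 2 t, F (t * v) := by
    intro p hp
    obtain ⟨x, hx⟩ := isConj_iff.1 (Finset.mem_filter.1 hp).2.symm
    rw [← hx, sum_regC_conj]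
    refine Finset.sum_congr rfl fun v _ => ?_
    rw [show x * t * x⁻¹ * (x * v * x⁻¹) = x * (t * v) * x⁻¹ by group]
    exact hF _ x
  rw [h1, Finset.sum_congr rfl h2, Finset.sum_const, nsmul_eq_mul, ← mul_assoc]
  congr 1
  rw [← Fintype.card_subtype, ← Nat.card_eq_fintype_card, mul_comm, ← Nat.cast_mul,
    ← card_isConj_mul_card_centralizer t]
  congr 2
  exact Nat.card_congr (Equiv.subtypeEquivRight fun p => ⟨IsConj.symm, IsConj.symm⟩)

theorem card_cent (hd : d.Spec Ω) {b : Bool} {t : C} (ht : t ∈ d.T b) (hz : t ∉ d.Z) :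
    Nat.card (Subgroup.centralizer ({t} : Set C)) = Nat.card (d.T b) * (regC 2 t).card := by
  classical
  obtain ⟨K, hKn, hK, hidx⟩ := hd.cent b t ht hz
  haveI := hKn
  obtain ⟨k, hk⟩ := card_T_pow hd b
  rw [Finset.card_eq_sum_ones, sum_regC Nat.prime_two hK (hidx.trans hk), ← Finset.card_eq_sum_ones,
    Finset.card_univ, ← Nat.card_eq_fintype_card, ← hidx, Subgroup.index_mul_card]

/-- The average over a noncentral section. -/
noncomputable def Av (F : C → ℂ) (t : C) : ℂ :=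
  ((regC 2 t).card : ℂ)⁻¹ * ∑ v ∈ regC 2 t, F (t * v)

open Classical in
theorem sum_section_eq (hd : d.Spec Ω) {F : C → ℂ} (hF : IsClassFunction C F) {b : Bool} {t : C}
    (ht : t ∈ d.T b) (hz : t ∉ d.Z) :
    ∑ g ∈ Finset.univ.filter (fun g => IsConj (p2 g) t), F g =
      (Nat.card C : ℂ) / (Nat.card (d.T b) : ℂ) * Av F t := by
  have h := section_sum hF (two_of_mem hd ht)
  have hne : (Nat.card (Subgroup.centralizer ({t} : Set C)) : ℂ) ≠ 0 :=
    Nat.cast_ne_zero.2 Nat.card_pos.ne'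
  refine mul_left_cancel₀ hne (h.trans ?_)
  rw [card_cent hd ht hz, Nat.cast_mul, Av]
  have h1 : (Nat.card (d.T b) : ℂ) ≠ 0 := Nat.cast_ne_zero.2 Nat.card_pos.ne'
  have h2 : ((regC 2 t).card : ℂ) ≠ 0 :=
    Nat.cast_ne_zero.2 (Finset.card_pos.2 ⟨1, one_mem_regC Nat.prime_two t⟩).ne'
  field_simp

open Classical in
/-- The noncentral part over `T b`. -/
noncomputable def outT (d : Core C) (b : Bool) : Finset C :=
  Finset.univ.filter fun t => t ∈ d.T b ∧ t ∉ d.Z

theorem mem_outT {b : Bool} {t : C} : t ∈ outT d b ↔ t ∈ d.T b ∧ t ∉ d.Z := by simp [outT]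

open Classical in
theorem sum_ttype (hd : d.Spec Ω) {F : C → ℂ} (hF : IsClassFunction C F) (b : Bool) :
    ∑ g ∈ Finset.univ.filter (TType d b), F g =
      (Nat.card C : ℂ) / (2 * (Nat.card (d.T b) : ℂ)) * ∑ t ∈ outT d b, Av F t := by
  have h2 : ∀ g ∈ Finset.univ.filter (TType d b),
      ((outT d b).filter fun t => IsConj (p2 g) t).card = 2 := by
    intro g hg
    obtain ⟨t, ht, hz, hc⟩ := (Finset.mem_filter.1 hg).2
    rw [Finset.card_eq_two]
    refine ⟨t, d.n b * t * (d.n b)⁻¹, fun e => hz ((hd.nfix b t ht).1 e.symm), ?_⟩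
    ext t'
    simp only [Finset.mem_filter, mem_outT, Finset.mem_insert, Finset.mem_singleton]
    constructor
    · rintro ⟨⟨h1, h2⟩, h3⟩
      exact hd.uniq b t ht hz t' h1 h2 (hc.symm.trans h3)
    · rintro (rfl | rfl)
      · exact ⟨⟨ht, hz⟩, hc⟩
      · exact ⟨⟨hd.nnorm b t ht, ncj_not_mem hd ht hz⟩, hc.trans (isConj_iff.2 ⟨d.n b, rfl⟩)⟩
  have h3 : ∑ t ∈ outT d b, ∑ g ∈ Finset.univ.filter (fun g => IsConj (p2 g) t), F g =
      2 * ∑ g ∈ Finset.univ.filter (TType d b), F g := by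
    rw [Finset.mul_sum, Finset.sum_comm' (t' := Finset.univ.filter (TType d b))
      (s' := fun g => (outT d b).filter fun t => IsConj (p2 g) t)]
    · refine Finset.sum_congr rfl fun g hg => ?_
      rw [Finset.sum_const, h2 g hg, nsmul_eq_mul]
      norm_num
    · intro t g
      simp only [Finset.mem_filter, Finset.mem_univ, true_and, mem_outT]
      exact ⟨fun h => ⟨⟨h.1, h.2⟩, t, h.1.1, h.1.2, h.2⟩, fun h => ⟨h.1.1, h.1.2⟩⟩
  rw [Finset.sum_congr rfl fun t ht => sum_section_eq hd hF (mem_outT.1 ht).1 (mem_outT.1 ht).2,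
    ← Finset.mul_sum] at h3
  have h4 : (Nat.card (d.T b) : ℂ) ≠ 0 := Nat.cast_ne_zero.2 Nat.card_pos.ne'
  field_simp at h3 ⊢
  linear_combination -h3

open Classical in
/-- The partition of `C`. -/
theorem sum_decomp (hd : d.Spec Ω) {F : C → ℂ} (hF : IsClassFunction C F) :
    ∑ g : C, F g = (∑ u ∈ Finset.univ.filter (fun u => u ∈ d.Z), ∑ g ∈ secZ d u, F g) +
      ∑ b : Bool, (Nat.card C : ℂ) / (2 * (Nat.card (d.T b) : ℂ)) * ∑ t ∈ outT d b, Av F t := by
  simp only [← sum_ttype hd hF, Fintype.sum_bool]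
  have hC : ∑ u ∈ Finset.univ.filter (fun u => u ∈ d.Z), ∑ g ∈ secZ d u, F g =
      ∑ g ∈ Finset.univ.filter (CType d), F g := by
    rw [← Finset.sum_biUnion (s := Finset.univ.filter (fun u => u ∈ d.Z)) (t := secZ d)]
    · refine Finset.sum_congr ?_ fun _ _ => rfl
      ext g
      simp only [Finset.mem_biUnion, Finset.mem_filter, Finset.mem_univ, true_and, mem_secZ]
      exact Iff.rfl
    · intro u hu u' hu' hne
      rw [Function.onFun, Finset.disjoint_left]
      intro g h h'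
      simp only [Finset.coe_filter, Set.mem_setOf_eq, Finset.mem_univ, true_and] at hu hu'
      exact hne (urep_unique hd hu hu' (mem_secZ.1 h) (mem_secZ.1 h'))
  rw [hC, ← Finset.sum_union, ← Finset.sum_union]
  · refine Finset.sum_congr ?_ fun _ _ => rfl
    ext g
    simp only [Finset.mem_univ, Finset.mem_union, Finset.mem_filter, true_and]
    rcases types hd g with h | h | h <;> simp [h]
  · rw [Finset.disjoint_left]
    intro g h h'
    simp only [Finset.mem_filter, Finset.mem_univ, true_and, Finset.mem_union] at h h'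
    rcases h' with h' | h' <;> exact not_ctype_of_ttype hd h' h
  · rw [Finset.disjoint_left]
    intro g h h'
    simp only [Finset.mem_filter, Finset.mem_univ, true_and] at h h'
    exact Bool.noConfusion (ttype_unique hd h h')

/-- Translation between central sections. -/
theorem secZ_shift (hd : d.Spec Ω) {u : C} (hu : u ∈ d.Z) (φ : ℂ → ℂ) :
    ∑ g ∈ secZ d u, φ (St Ω g) = ∑ g ∈ secZ d 1, φ (St Ω g) := by
  classical
  haveI := hd.onorm
  have hp : ∀ g : C, (p2 (u * g) * u⁻¹ ∈ d.O ↔ p2 g * (1 : C)⁻¹ ∈ d.O) := by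
    intro g
    rw [← QuotientGroup.eq_one_iff, ← QuotientGroup.eq_one_iff, QuotientGroup.mk_mul, QuotientGroup.mk_inv,
      QuotientGroup.mk_mul, inv_one, QuotientGroup.mk_one, mul_one, mul_inv_eq_one]
    obtain ⟨w, hw, hwc, ⟨k, hk⟩, hwo⟩ := p2_spec g
    obtain ⟨w', hw', hwc', ⟨k', hk'⟩, hwo'⟩ := p2_spec (u * g)
    set π : C →* C ⧸ d.O := QuotientGroup.mk' d.O
    have hz : ∀ c : C, Commute (π u) (π c) := fun c => by
      have h : π (c * u * c⁻¹ * u⁻¹) = 1 := (QuotientGroup.eq_one_iff _).2 (hd.zcent u hu c)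
      simp only [map_mul, map_inv] at h
      exact (eq_of_mul_inv_eq_one (by rw [← mul_inv_eq_one] ; simpa [mul_assoc] using h)).symm
    obtain ⟨a, ha⟩ := two_of_mem hd (hd.zle true hu)
    have hord : ∃ j : ℕ, orderOf (π u * π (p2 g)) = 2 ^ j := by
      have hdvd : orderOf (π u * π (p2 g)) ∣ 2 ^ (a + k) := by
        refine orderOf_dvd_of_pow_eq_one ?_
        rw [(hz _).mul_pow, ← map_pow, ← map_pow, pow_add, pow_mul, ← ha, pow_orderOf_eq_one, one_pow,
          mul_comm, pow_mul, ← hk, pow_orderOf_eq_one, one_pow, map_one, one_mul]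
      obtain ⟨j, -, hj⟩ := (Nat.dvd_prime_pow Nat.prime_two).1 hdvd
      exact ⟨j, hj⟩
    have e := (CfsgLib.Blocks.pPart_unique Nat.prime_two
      (z := π (p2 (u * g))) (w := π w') (z' := π u * π (p2 g)) (w' := π w) (hwc'.map π)
      ((hz w).mul_left (hwc.map π))
      (by
        obtain ⟨j, -, hj⟩ := (Nat.dvd_prime_pow Nat.prime_two).1 (hk' ▸ orderOf_map_dvd π (p2 (u * g)))
        exact ⟨j, hj⟩)
      hord (fun h => hwo' (h.trans (orderOf_map_dvd π _))) (fun h => hwo (h.trans (orderOf_map_dvd π _)))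
      (by rw [← map_mul, ← map_mul, ← map_mul, hw', mul_assoc, hw])).1
    show π (p2 (u * g)) = π u ↔ π (p2 g) = 1
    rw [e, mul_eq_left]
  rw [secZ, secZ, Finset.sum_filter, Finset.sum_filter]
  refine (Fintype.sum_equiv (Equiv.mulLeft u) _ _ fun g => ?_).symm
  have hfix : St Ω (u * g) = St Ω g := by
    rw [St, St]
    congr 2
    refine Nat.card_congr (Equiv.subtypeEquivRight fun a => ?_)
    show (u * g) • a = a ↔ g • a = a
    rw [mul_smul, hd.ztriv u hu]
  simp only [Equiv.coe_mulLeft, hfix]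
  exact if_congr (hp g).symm rfl rfl

end Sums


section Inner

theorem R_secZ (hd : d.Spec Ω) (b : Bool) (τ : ↥(d.T b) →* ℂˣ) {u g : C} (hu : u ∈ d.Z)
    (hg : g ∈ secZ d u) : d.R Ω b τ g = d.tv τ u * (1 + (d.σ b : ℂ) * St Ω g) :=
  R_ctype hd b τ hu (mem_secZ.1 hg)

theorem Av_const (F : C → ℂ) (t : C) {c : ℂ} (h : ∀ v ∈ regC 2 t, F (t * v) = c) : Av F t = c := by
  have h2 : ((regC 2 t).card : ℂ) ≠ 0 :=
    Nat.cast_ne_zero.2 (Finset.card_pos.2 ⟨1, one_mem_regC Nat.prime_two t⟩).ne'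
  rw [Av, Finset.sum_congr rfl h, Finset.sum_const, nsmul_eq_mul, ← mul_assoc, inv_mul_cancel₀ h2, one_mul]

theorem ttype_mul (hd : d.Spec Ω) {b : Bool} {t v : C} (ht : t ∈ d.T b) (hz : t ∉ d.Z)
    (hv : v ∈ regC 2 t) : TType d b (t * v) ∧ p2 (t * v) = t := by
  obtain ⟨hc, hv'⟩ := mem_regC.1 hv
  have e := p2_mul (two_of_mem hd ht) hc hv'
  exact ⟨⟨t, ht, hz, by rw [e]⟩, e⟩

theorem R_mul_self (hd : d.Spec Ω) {b : Bool} (τ : ↥(d.T b) →* ℂˣ) {t v : C} (ht : t ∈ d.T b)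
    (hz : t ∉ d.Z) (hv : v ∈ regC 2 t) :
    d.R Ω b τ (t * v) = d.tv τ t + d.tv τ (d.n b * t * (d.n b)⁻¹) :=
  R_ttype hd b τ ht hz (by rw [(ttype_mul hd ht hz hv).2])

theorem R_mul_other (hd : d.Spec Ω) {b : Bool} (τ : ↥(d.T b) →* ℂˣ) {b' : Bool} (hne : b' ≠ b) {t v : C}
    (ht : t ∈ d.T b') (hz : t ∉ d.Z) (hv : v ∈ regC 2 t) : d.R Ω b τ (t * v) = 0 := by
  refine R_other hd b τ ?_
  have e : (!b) = b' := by cases b <;> cases b' <;> simp at hne ⊢
  rw [e]
  exact (ttype_mul hd ht hz hv).1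

theorem sum_fix (hd : d.Spec Ω) :
    ∑ g : C, (Nat.card (MulAction.fixedBy Ω g) : ℂ) = (Nat.card C : ℂ) := by
  classical
  haveI := finite_omega hd
  letI := Fintype.ofFinite Ω
  haveI : MulAction.IsPretransitive C Ω := ⟨fun a c => by
    have h3 := hd.qlb
    have h4 : 2 ≤ Fintype.card Ω := by rw [← Nat.card_eq_fintype_card, hd.card]; omega
    obtain ⟨b, hb⟩ := Fintype.exists_ne_of_one_lt_card (by omega) a
    obtain ⟨e, he⟩ := Fintype.exists_ne_of_one_lt_card (by omega) c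
    obtain ⟨g, hg, -⟩ := hd.two a b c e hb.symm he.symm
    exact ⟨g, hg⟩⟩
  haveI : Nonempty Ω := (Nat.card_pos_iff.1 (by rw [hd.card]; exact Nat.succ_pos _)).1
  have h := MulAction.sum_card_fixedBy_eq_card_orbits_mul_card_group C Ω
  have h1 : Fintype.card (Quotient (MulAction.orbitRel C Ω)) = 1 := by
    haveI : Subsingleton (Quotient (MulAction.orbitRel C Ω)) :=
      ⟨fun a b => Quotient.inductionOn₂ a b fun x y =>
        Quotient.sound ((MulAction.orbitRel_apply).2 (MulAction.exists_smul_eq C y x))⟩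
    exact Fintype.card_eq_one_iff.2 ⟨⟦Classical.arbitrary Ω⟧, fun _ => Subsingleton.elim _ _⟩
  rw [h1, one_mul] at h
  rw [Nat.card_eq_fintype_card, ← h]
  push_cast
  exact Finset.sum_congr rfl fun g _ => by rw [Nat.card_eq_fintype_card]

theorem sum_fix_sq (hd : d.Spec Ω) :
    ∑ g : C, (Nat.card (MulAction.fixedBy Ω g) : ℂ) ^ 2 = 2 * (Nat.card C : ℂ) := by
  classical
  haveI := finite_omega hd
  letI := Fintype.ofFinite Ω
  have h := MulAction.sum_card_fixedBy_eq_card_orbits_mul_card_group C (Ω × Ω)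
  have h3 := hd.qlb
  have h4 : 2 ≤ Fintype.card Ω := by rw [← Nat.card_eq_fintype_card, hd.card]; omega
  have h1 : Fintype.card (Quotient (MulAction.orbitRel C (Ω × Ω))) = 2 := by
    let f : Quotient (MulAction.orbitRel C (Ω × Ω)) → Bool :=
      Quotient.lift (fun x : Ω × Ω => decide (x.1 = x.2)) fun x y hxy => by
        obtain ⟨g, rfl⟩ := (MulAction.orbitRel_apply).1 hxy
        simp
    have hf : Function.Bijective f := by
      refine ⟨?_, fun c => ?_⟩
      · intro a b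
        refine Quotient.inductionOn₂ a b fun x y e => ?_
        refine Quotient.sound (s := MulAction.orbitRel C (Ω × Ω))
          ((MulAction.orbitRel_apply (G := C) (α := Ω × Ω)).2 ?_)
        have e' : (x.1 = x.2) ↔ (y.1 = y.2) := by simpa [f] using e
        by_cases hx : x.1 = x.2
        · obtain ⟨b, hb⟩ := Fintype.exists_ne_of_one_lt_card (by omega) x.1
          obtain ⟨b', hb'⟩ := Fintype.exists_ne_of_one_lt_card (by omega) y.1
          obtain ⟨g, hg, -⟩ := hd.two y.1 b' x.1 b hb'.symm hb.symm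
          refine ⟨g, Prod.ext hg ?_⟩
          show g • y.2 = x.2
          rw [← e'.1 hx, hg, hx]
        · obtain ⟨g, h1, h2⟩ := hd.two y.1 y.2 x.1 x.2 (fun e'' => hx (e'.2 e'')) hx
          exact ⟨g, Prod.ext h1 h2⟩
      · obtain ⟨a, b, hab⟩ := Fintype.exists_pair_of_one_lt_card (α := Ω) (by omega)
        cases c
        · exact ⟨⟦(a, b)⟧, by simp [f, hab]⟩
        · exact ⟨⟦(a, a)⟧, by simp [f]⟩
    rw [Fintype.card_of_bijective hf, Fintype.card_bool]
  rw [h1] at h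
  have e : (2 : ℂ) * (Nat.card C : ℂ) = ((2 * Fintype.card C : ℕ) : ℂ) := by
    rw [Nat.card_eq_fintype_card]; push_cast; ring
  rw [e, ← h]
  push_cast
  refine Finset.sum_congr rfl fun g _ => ?_
  rw [← Nat.cast_pow]
  congr 1
  rw [← Nat.card_eq_fintype_card, sq, ← Nat.card_prod]
  refine Nat.card_congr (Equiv.symm ?_)
  exact (Equiv.subtypeEquivRight fun x : Ω × Ω => by
      show g • x = x ↔ g • x.1 = x.1 ∧ g • x.2 = x.2
      exact ⟨fun e => ⟨congrArg Prod.fst e, congrArg Prod.snd e⟩, fun e => Prod.ext e.1 e.2⟩).trans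
    (Equiv.subtypeProdEquivProd (p := fun a => g • a = a) (q := fun a => g • a = a))

open Classical in
theorem outT_card (hd : d.Spec Ω) (b : Bool) :
    ((outT d b).card : ℂ) = (Nat.card (d.T b) : ℂ) - (Nat.card d.Z : ℂ) := by
  have e : outT d b = Finset.univ.filter (fun t => t ∈ d.T b) \ Finset.univ.filter (fun t => t ∈ d.Z) := by
    ext t; simp [mem_outT]
  rw [e, Finset.cast_card_sdiff (fun t => by simpa using fun h => hd.zle b h)]
  congr 2 <;> rw [← Fintype.card_subtype, Nat.card_eq_fintype_card]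

open Classical in
/-- Sums over a central section of a polynomial of degree two in `St`. -/
theorem sum_secZ_poly (hd : d.Spec Ω) {u : C} (hu : u ∈ d.Z) (a₀ a₁ a₂ : ℂ) :
    ∑ g ∈ secZ d u, (a₀ + a₁ * St Ω g + a₂ * St Ω g ^ 2) =
      (Nat.card C : ℂ) / 2 * ∑ b : Bool, (a₀ + a₁ * (d.σ b : ℂ) + a₂ * (d.σ b : ℂ) ^ 2) / (Nat.card (d.T b) : ℂ) := by
  rw [secZ_shift hd hu (fun x => a₀ + a₁ * x + a₂ * x ^ 2)]
  set A := ∑ g ∈ secZ d 1, (a₀ + a₁ * St Ω g + a₂ * St Ω g ^ 2) with hA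
  have hF : IsClassFunction C (fun g => a₀ + a₁ * St Ω g + a₂ * St Ω g ^ 2) := fun g x => by
    simp only [St_conj]
  have hd' := sum_decomp hd hF
  have h0 : ∑ g : C, (a₀ + a₁ * St Ω g + a₂ * St Ω g ^ 2) = (a₀ + a₂) * (Nat.card C : ℂ) := by
    have e : ∀ g : C, a₀ + a₁ * St Ω g + a₂ * St Ω g ^ 2 = (a₀ - a₁ + a₂) +
        (a₁ - 2 * a₂) * (Nat.card (MulAction.fixedBy Ω g) : ℂ) +
        a₂ * (Nat.card (MulAction.fixedBy Ω g) : ℂ) ^ 2 := fun g => by rw [St]; ring
    simp only [e, Finset.sum_add_distrib, Finset.sum_const, ← Finset.mul_sum, sum_fix hd, sum_fix_sq hd,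
      Finset.card_univ, nsmul_eq_mul, ← Nat.card_eq_fintype_card]
    ring
  have hav : ∀ b : Bool, ∀ t ∈ outT d b, Av (fun g => a₀ + a₁ * St Ω g + a₂ * St Ω g ^ 2) t =
      a₀ + a₁ * (d.σ b : ℂ) + a₂ * (d.σ b : ℂ) ^ 2 := fun b t ht => by
    refine Av_const _ t fun v hv => ?_
    simp only [St_ttype hd (ttype_mul hd (mem_outT.1 ht).1 (mem_outT.1 ht).2 hv).1]
  rw [h0, Finset.sum_congr rfl fun u hu' => (secZ_shift hd (by simpa using hu')
      (fun x => a₀ + a₁ * x + a₂ * x ^ 2)), Finset.sum_const, nsmul_eq_mul,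
    Fintype.sum_bool, Finset.sum_congr rfl (hav true), Finset.sum_congr rfl (hav false),
    Finset.sum_const, Finset.sum_const, nsmul_eq_mul, nsmul_eq_mul, outT_card hd true, outT_card hd false,
    ← hA, ← Fintype.card_subtype, ← Nat.card_eq_fintype_card] at hd'
  rw [Fintype.sum_bool]
  have hs : (d.σ false : ℂ) = -(d.σ true : ℂ) := by rw [hd.sgnne]; push_cast; rfl
  have hs2 : (d.σ true : ℂ) * (d.σ true : ℂ) = 1 := by
    rcases hd.sgn true with e | e <;> rw [e] <;> norm_num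
  rw [hs] at hd' ⊢
  have hT : (Nat.card (d.T true) : ℂ) ≠ 0 := Nat.cast_ne_zero.2 Nat.card_pos.ne'
  have hN : (Nat.card (d.T false) : ℂ) ≠ 0 := Nat.cast_ne_zero.2 Nat.card_pos.ne'
  have hZ : (Nat.card d.Z : ℂ) ≠ 0 := Nat.cast_ne_zero.2 Nat.card_pos.ne'
  have e : (Nat.card {x : C // x ∈ d.Z} : ℂ) = (Nat.card d.Z : ℂ) := rfl
  field_simp at hd' ⊢
  refine mul_left_cancel₀ hZ ?_
  linear_combination (-1 : ℂ) * hd' - a₂ * (Nat.card C : ℂ) * (Nat.card (d.T true) : ℂ) *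
    (Nat.card (d.T false) : ℂ) * 2 * hs2

theorem sum_secZ_norm (hd : d.Spec Ω) {u : C} (hu : u ∈ d.Z) (b b' : Bool) :
    ∑ g ∈ secZ d u, (1 + (d.σ b : ℂ) * St Ω g) * (1 + (d.σ b' : ℂ) * St Ω g) =
      if b = b' then 2 * (Nat.card C : ℂ) / (Nat.card (d.T b) : ℂ) else 0 := by
  have e : ∀ g : C, (1 + (d.σ b : ℂ) * St Ω g) * (1 + (d.σ b' : ℂ) * St Ω g) =
      1 + ((d.σ b : ℂ) + (d.σ b' : ℂ)) * St Ω g + ((d.σ b : ℂ) * (d.σ b' : ℂ)) * St Ω g ^ 2 := fun g => by
    ring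
  simp only [e]
  rw [sum_secZ_poly hd hu, Fintype.sum_bool]
  have hs : (d.σ false : ℂ) = -(d.σ true : ℂ) := by rw [hd.sgnne]; push_cast; rfl
  have hT : (Nat.card (d.T true) : ℂ) ≠ 0 := Nat.cast_ne_zero.2 Nat.card_pos.ne'
  have hN : (Nat.card (d.T false) : ℂ) ≠ 0 := Nat.cast_ne_zero.2 Nat.card_pos.ne'
  rcases hd.sgn true with h1 | h1 <;> cases b <;> cases b' <;>
    simp only [hs, h1, reduceIte, reduceCtorEq] <;> push_cast <;> field_simp <;> ring

theorem conj_one_add_St (b : Bool) (g : C) :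
    conj (1 + (d.σ b : ℂ) * St Ω g) = 1 + (d.σ b : ℂ) * St Ω g := by simp [St]

theorem sum_outT_ncj (hd : d.Spec Ω) (b : Bool) (f : C → ℂ) :
    ∑ t ∈ outT d b, f (d.n b * t * (d.n b)⁻¹) = ∑ t ∈ outT d b, f t := by
  have hnn : ∀ t ∈ d.T b, d.n b * (d.n b * t * (d.n b)⁻¹) * (d.n b)⁻¹ = t := by
    intro t ht
    rw [show d.n b * (d.n b * t * (d.n b)⁻¹) * (d.n b)⁻¹ = d.n b * d.n b * t * (d.n b * d.n b)⁻¹ by group,
      hd.tcomm b _ (hd.nsq b) t ht, mul_inv_cancel_right]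
  have hm : ∀ t ∈ outT d b, d.n b * t * (d.n b)⁻¹ ∈ outT d b := fun t ht =>
    mem_outT.2 ⟨hd.nnorm b t (mem_outT.1 ht).1, ncj_not_mem hd (mem_outT.1 ht).1 (mem_outT.1 ht).2⟩
  refine Finset.sum_nbij' (fun t => d.n b * t * (d.n b)⁻¹) (fun t => d.n b * t * (d.n b)⁻¹) hm hm
    (fun t ht => hnn t (mem_outT.1 ht).1) (fun t ht => hnn t (mem_outT.1 ht).1) fun t ht => rfl

open Classical in
/-- The inner product with `R`. -/
theorem classInner_R (hd : d.Spec Ω) {χ : C → ℂ} (hχ : IsClassFunction C χ) (b : Bool)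
    (τ : ↥(d.T b) →* ℂˣ) :
    classInner χ (d.R Ω b τ) = (Nat.card C : ℂ)⁻¹ *
        (∑ u ∈ Finset.univ.filter (fun u => u ∈ d.Z),
          conj (d.tv τ u) * ∑ g ∈ secZ d u, χ g * (1 + (d.σ b : ℂ) * St Ω g)) +
      (Nat.card (d.T b) : ℂ)⁻¹ * ∑ t ∈ outT d b, Av χ t * conj (d.tv τ t) := by
  have hF : IsClassFunction C (fun g => χ g * conj (d.R Ω b τ g)) := fun g x => by
    simp only [hχ g x, R_isClassFunction hd b τ g x]
  rw [classInner, sum_decomp hd hF, mul_add]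
  congr 1
  · refine congrArg _ (Finset.sum_congr rfl fun u hu => ?_)
    rw [Finset.mul_sum]
    refine Finset.sum_congr rfl fun g hg => ?_
    rw [R_secZ hd b τ (by simpa using hu) hg, map_mul, conj_one_add_St]
    ring
  · have hb : ∀ b' : Bool, b' ≠ b → ∑ t ∈ outT d b', Av (fun g => χ g * conj (d.R Ω b τ g)) t = 0 :=
      fun b' hne => Finset.sum_eq_zero fun t ht => Av_const _ t fun v hv => by
        rw [R_mul_other hd τ hne (mem_outT.1 ht).1 (mem_outT.1 ht).2 hv, map_zero, mul_zero]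
    rw [Finset.sum_eq_single b (fun b' _ hne => by rw [hb b' hne, mul_zero]) (by simp)]
    have hav : ∀ t ∈ outT d b, Av (fun g => χ g * conj (d.R Ω b τ g)) t =
        Av χ t * conj (d.tv τ t) + Av χ t * conj (d.tv τ (d.n b * t * (d.n b)⁻¹)) := by
      intro t ht
      rw [Av, Finset.sum_congr rfl fun v hv => by
        rw [R_mul_self hd τ (mem_outT.1 ht).1 (mem_outT.1 ht).2 hv], ← Finset.sum_mul, map_add, Av]
      ring
    have hinv : ∀ t ∈ outT d b, Av χ (d.n b * t * (d.n b)⁻¹) = Av χ t := by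
      intro t ht
      have hc : (regC 2 (d.n b * t * (d.n b)⁻¹)).card = (regC 2 t).card := by
        rw [Finset.card_eq_sum_ones, sum_regC_conj, ← Finset.card_eq_sum_ones]
      rw [Av, Av, sum_regC_conj, hc]
      refine congrArg _ (Finset.sum_congr rfl fun v _ => ?_)
      rw [show d.n b * t * (d.n b)⁻¹ * (d.n b * v * (d.n b)⁻¹) = d.n b * (t * v) * (d.n b)⁻¹ by group]
      exact hχ _ _
    have e2 : ∑ t ∈ outT d b, Av χ t * conj (d.tv τ (d.n b * t * (d.n b)⁻¹)) =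
        ∑ t ∈ outT d b, Av χ t * conj (d.tv τ t) := by
      rw [← sum_outT_ncj hd b fun t => Av χ t * conj (d.tv τ t)]
      exact Finset.sum_congr rfl fun t ht => by rw [hinv t ht]
    rw [Finset.sum_congr rfl hav, Finset.sum_add_distrib, e2]
    have hC : (Nat.card C : ℂ) ≠ 0 := Nat.cast_ne_zero.2 Nat.card_pos.ne'
    have hT : (Nat.card (d.T b) : ℂ) ≠ 0 := Nat.cast_ne_zero.2 Nat.card_pos.ne'
    field_simp
    ring

theorem tv_conjChar (hd : d.Spec Ω) {b : Bool} (τ : ↥(d.T b) →* ℂˣ) {t : C} (ht : t ∈ d.T b) :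
    d.tv (d.conjChar (hd.nnorm b) τ) t = d.tv τ (d.n b * t * (d.n b)⁻¹) := by
  rw [tv_mem _ ht, tv_mem _ (hd.nnorm b t ht)]
  rfl

theorem tv_ncj_of_Z (hd : d.Spec Ω) {b : Bool} (τ : ↥(d.T b) →* ℂˣ) {u : C} (hu : u ∈ d.Z) :
    d.tv τ (d.n b * u * (d.n b)⁻¹) = d.tv τ u := by rw [(hd.nfix b u (hd.zle b hu)).2 hu]

theorem R_conjChar (hd : d.Spec Ω) (b : Bool) (τ : ↥(d.T b) →* ℂˣ) :
    d.R Ω b (d.conjChar (hd.nnorm b) τ) = d.R Ω b τ := by
  funext g
  rcases types hd g with ⟨u, hu, h⟩ | h | h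
  · rw [R_ctype hd b _ hu h, R_ctype hd b _ hu h, tv_conjChar hd τ (hd.zle b hu), tv_ncj_of_Z hd τ hu]
  all_goals obtain ⟨t, ht, hz, hc⟩ := h
  · cases b
    · rw [R_ttype hd false _ ht hz hc, R_ttype hd false _ ht hz hc, tv_conjChar hd τ ht,
        tv_conjChar hd τ (hd.nnorm false t ht), add_comm]
      congr 2
      rw [show d.n false * (d.n false * t * (d.n false)⁻¹) * (d.n false)⁻¹ =
        d.n false * d.n false * t * (d.n false * d.n false)⁻¹ by group,
        hd.tcomm false _ (hd.nsq false) t ht, mul_inv_cancel_right]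
    · rw [R_other hd true _ ⟨t, ht, hz, hc⟩, R_other hd true _ ⟨t, ht, hz, hc⟩]
  · cases b
    · rw [R_other hd false _ ⟨t, ht, hz, hc⟩, R_other hd false _ ⟨t, ht, hz, hc⟩]
    · rw [R_ttype hd true _ ht hz hc, R_ttype hd true _ ht hz hc, tv_conjChar hd τ ht,
        tv_conjChar hd τ (hd.nnorm true t ht), add_comm]
      congr 2
      rw [show d.n true * (d.n true * t * (d.n true)⁻¹) * (d.n true)⁻¹ =
        d.n true * d.n true * t * (d.n true * d.n true)⁻¹ by group,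
        hd.tcomm true _ (hd.nsq true) t ht, mul_inv_cancel_right]

open Classical in
theorem classInner_R_ne (hd : d.Spec Ω) {b b' : Bool} (hne : b ≠ b') (τ : ↥(d.T b) →* ℂˣ)
    (τ' : ↥(d.T b') →* ℂˣ) : classInner (d.R Ω b τ) (d.R Ω b' τ') = 0 := by
  rw [classInner_R hd (R_isClassFunction hd b τ)]
  have h1 : ∀ t ∈ outT d b', Av (d.R Ω b τ) t = 0 := fun t ht =>
    Av_const _ t fun v hv => R_mul_other hd τ (Ne.symm hne) (mem_outT.1 ht).1 (mem_outT.1 ht).2 hv
  rw [Finset.sum_eq_zero (s := outT d b') fun t ht => by rw [h1 t ht, zero_mul], mul_zero, add_zero,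
    Finset.sum_eq_zero, mul_zero]
  intro u hu
  rw [Finset.sum_congr rfl fun g hg => by rw [R_secZ hd b τ (by simpa using hu) hg, mul_assoc],
    ← Finset.mul_sum, sum_secZ_norm hd (by simpa using hu), if_neg hne, mul_zero, mul_zero]

open Classical in
theorem classInner_R_R (hd : d.Spec Ω) (b : Bool) (τ τ' : ↥(d.T b) →* ℂˣ) :
    classInner (d.R Ω b τ) (d.R Ω b τ') =
      (if τ = τ' then 1 else 0) + (if d.conjChar (hd.nnorm b) τ = τ' then 1 else 0) := by
  rw [classInner_R hd (R_isClassFunction hd b τ)]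
  have hC : (Nat.card C : ℂ) ≠ 0 := Nat.cast_ne_zero.2 Nat.card_pos.ne'
  have hT : (Nat.card (d.T b) : ℂ) ≠ 0 := Nat.cast_ne_zero.2 Nat.card_pos.ne'
  have h1 : ∀ t ∈ outT d b, Av (d.R Ω b τ) t * conj (d.tv τ' t) =
      d.tv τ t * conj (d.tv τ' t) + d.tv (d.conjChar (hd.nnorm b) τ) t * conj (d.tv τ' t) := fun t ht => by
    rw [Av_const _ t fun v hv => R_mul_self hd τ (mem_outT.1 ht).1 (mem_outT.1 ht).2 hv,
      tv_conjChar hd τ (mem_outT.1 ht).1]
    ring
  have h2 : ∀ u ∈ Finset.univ.filter (fun u => u ∈ d.Z),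
      conj (d.tv τ' u) * ∑ g ∈ secZ d u, d.R Ω b τ g * (1 + (d.σ b : ℂ) * St Ω g) =
        (Nat.card C : ℂ) / (Nat.card (d.T b) : ℂ) *
          (d.tv τ u * conj (d.tv τ' u) + d.tv (d.conjChar (hd.nnorm b) τ) u * conj (d.tv τ' u)) := fun u hu => by
    have hu' : u ∈ d.Z := by simpa using hu
    rw [Finset.sum_congr rfl fun g hg => by rw [R_secZ hd b τ hu' hg, mul_assoc],
      ← Finset.mul_sum, sum_secZ_norm hd hu', if_pos rfl, tv_conjChar hd τ (hd.zle b hu'),
      tv_ncj_of_Z hd τ hu']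
    ring
  rw [Finset.sum_congr rfl h1, Finset.sum_congr rfl h2, ← Finset.mul_sum, ← mul_assoc,
    show (Nat.card C : ℂ)⁻¹ * ((Nat.card C : ℂ) / (Nat.card (d.T b) : ℂ)) = (Nat.card (d.T b) : ℂ)⁻¹ by
      field_simp, ← mul_add]
  have e : ∀ f : C → ℂ, ∑ u ∈ Finset.univ.filter (fun u => u ∈ d.Z), f u + ∑ t ∈ outT d b, f t =
      ∑ t : ↥(d.T b), f t := by
    intro f
    rw [← Finset.sum_union (Finset.disjoint_left.2 fun t h h' => (mem_outT.1 h').2 (by simpa using h))]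
    rw [show ∑ t : ↥(d.T b), f t = ∑ t ∈ Finset.univ.filter (fun t => t ∈ d.T b), f t from
      (Finset.sum_subtype _ (fun t => by simp) f).symm]
    refine Finset.sum_congr ?_ fun _ _ => rfl
    ext t
    simp only [Finset.mem_union, Finset.mem_filter, Finset.mem_univ, true_and, mem_outT]
    exact ⟨fun h => h.elim (fun h => hd.zle b h) fun h => h.1, fun h => by tauto⟩
  rw [e fun t => d.tv τ t * conj (d.tv τ' t) + d.tv (d.conjChar (hd.nnorm b) τ) t * conj (d.tv τ' t),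
    Finset.sum_add_distrib, mul_add]
  have key : ∀ ρ : ↥(d.T b) →* ℂˣ, (Nat.card (d.T b) : ℂ)⁻¹ *
      ∑ t : ↥(d.T b), d.tv ρ t * conj (d.tv τ' t) = if ρ = τ' then 1 else 0 := by
    intro ρ
    have e1 : ∀ t : ↥(d.T b), d.tv ρ (t : C) = ((ρ t : ℂˣ) : ℂ) := fun t => tv_mem ρ t.2
    have e2 : ∀ t : ↥(d.T b), d.tv τ' (t : C) = ((τ' t : ℂˣ) : ℂ) := fun t => tv_mem τ' t.2
    simp only [e1, e2]
    show classInner (fun t => ((ρ t : ℂˣ) : ℂ)) (fun t => ((τ' t : ℂˣ) : ℂ)) = _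
    rw [classInner_irr (isIrrCharacter_linear ρ) (isIrrCharacter_linear τ')]
    refine if_congr ⟨fun h => MonoidHom.ext fun t => Units.ext (congrFun h t), fun h => h ▸ rfl⟩ rfl rfl
  rw [key, key]

theorem R_one_apply (hd : d.Spec Ω) (g : C) :
    d.R Ω true 1 g + d.R Ω false 1 g = 2 ∧
      d.R Ω true 1 g - d.R Ω false 1 g = 2 * (d.σ true : ℂ) * St Ω g := by
  have htv : ∀ {b : Bool} {t : C}, t ∈ d.T b → d.tv (1 : ↥(d.T b) →* ℂˣ) t = 1 := fun ht => by
    rw [tv_mem _ ht]; simp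
  have hs : (d.σ false : ℂ) = -(d.σ true : ℂ) := by rw [hd.sgnne]; push_cast; rfl
  have hs2 : (d.σ true : ℂ) * (d.σ true : ℂ) = 1 := by
    rcases hd.sgn true with e | e <;> rw [e] <;> norm_num
  rcases types hd g with ⟨u, hu, h⟩ | h | h
  · rw [R_ctype hd true 1 hu h, R_ctype hd false 1 hu h, htv (hd.zle true hu), htv (hd.zle false hu), hs]
    constructor <;> ring
  all_goals
    have hSt := St_ttype hd h
    obtain ⟨t, ht, hz, hc⟩ := h
  · rw [R_other hd true 1 ⟨t, ht, hz, hc⟩, R_ttype hd false 1 ht hz hc, htv ht,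
      htv (hd.nnorm false t ht), hSt, hs]
    exact ⟨by norm_num, by linear_combination (2 : ℂ) * hs2⟩
  · rw [R_other hd false 1 ⟨t, ht, hz, hc⟩, R_ttype hd true 1 ht hz hc, htv ht,
      htv (hd.nnorm true t ht), hSt]
    exact ⟨by norm_num, by linear_combination (-2 : ℂ) * hs2⟩

theorem lam_odd {lam : C →* ℂˣ} (hsq : ∀ c, lam c * lam c = 1) {v : C} (hv : ¬ 2 ∣ orderOf v) :
    lam v = 1 := by
  obtain ⟨j, hj⟩ : Odd (orderOf v) := Nat.odd_iff.2 (by omega)
  have h : lam v ^ orderOf v = 1 := by rw [← map_pow, pow_orderOf_eq_one, map_one]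
  rwa [hj, pow_succ, pow_mul, sq, hsq, one_pow, one_mul] at h

theorem R_mul_lam (hd : d.Spec Ω) (b : Bool) (τ : ↥(d.T b) →* ℂˣ) {lam : C →* ℂˣ}
    (hsq : ∀ c, lam c * lam c = 1) :
    d.R Ω b (τ * lam.comp (d.T b).subtype) = fun g => (lam g : ℂ) * d.R Ω b τ g := by
  funext g
  obtain ⟨w, hg, -, -, hw⟩ := p2_spec g
  have hlam : ∀ t : C, IsConj (p2 g) t → lam g = lam t := by
    intro t hc
    obtain ⟨x, hx⟩ := isConj_iff.1 hc
    rw [← hg, map_mul, lam_odd hsq hw, mul_one, ← hx, map_mul, map_mul, map_inv,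
      mul_comm (lam x), mul_inv_cancel_right]
  have htv : ∀ {t : C}, t ∈ d.T b → d.tv (τ * lam.comp (d.T b).subtype) t = d.tv τ t * (lam t : ℂ) :=
    fun ht => by rw [tv_mem _ ht, tv_mem _ ht]; simp
  rcases types hd g with ⟨u, hu, h⟩ | h | h
  · rw [R_ctype hd b _ hu h, R_ctype hd b _ hu h, htv (hd.zle b hu)]
    have e : lam g = lam u := by
      have h1 : lam (p2 g * u⁻¹) = 1 := lam_odd hsq (fun hdv => (Nat.not_even_iff_odd.2 hd.oodd)
        (even_iff_two_dvd.2 (hdv.trans (Subgroup.orderOf_dvd_natCard _ h))))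
      rw [map_mul, map_inv, mul_inv_eq_one] at h1
      rw [← hg, map_mul, lam_odd hsq hw, mul_one, h1]
    rw [e]
    ring
  all_goals
    obtain ⟨t, ht, hz, hc⟩ := h
    have e := hlam t hc
    have e' : ∀ x : C, lam (x * t * x⁻¹) = lam t := fun x => by
      rw [map_mul, map_mul, map_inv, mul_comm (lam x), mul_inv_cancel_right]
  · cases b
    · rw [R_ttype hd false _ ht hz hc, R_ttype hd false _ ht hz hc, htv ht, htv (hd.nnorm false t ht), e', e]
      ring
    · rw [R_other hd true _ ⟨t, ht, hz, hc⟩, R_other hd true _ ⟨t, ht, hz, hc⟩, mul_zero]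
  · cases b
    · rw [R_other hd false _ ⟨t, ht, hz, hc⟩, R_other hd false _ ⟨t, ht, hz, hc⟩, mul_zero]
    · rw [R_ttype hd true _ ht hz hc, R_ttype hd true _ ht hz hc, htv ht, htv (hd.nnorm true t ht), e', e]
      ring

end Inner

end CfsgLib.BrauerOrder
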