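import Cfsg.Agent.Lib.BrauerOrder.Isom
import Cfsg.Agent.Lib.BSW.PairCount

/-!
# The class sums of involutions

The number of factorisations of an element with a power equal to the involution as a product of two conjugates of the
involution is the same in the group and in the centraliser; in characters this is the identity behind the order formula.
-/

set_option autoImplicit false
set_option linter.unusedSectionVars false
set_option linter.style.haveILetI false

namespace CfsgLib.BrauerOrder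

open Cfsg CfsgLib.CharTheory CfsgLib.Blocks
open scoped ComplexConjugate

universe u v

section Gen

variable {G : Type u} [Group G] [Fintype G]

/-- The weighted sum of the projections of a signed irreducible character. -/
theorem sum_signed {a : G → ℂ} (ha : IsSignedIrr a) (x : G) :
    ∑ χ : IrrCharacter G, classInner a (χ : G → ℂ) * (χ : G → ℂ) x ^ 2 / (χ : G → ℂ) 1 = a x ^ 2 / a 1 := by
  classical
  have key : ∀ (ε : ℂ) (χ₀ : IrrCharacter G), ε * ε = 1 → a = ε • (χ₀ : G → ℂ) →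
      ∑ χ : IrrCharacter G, classInner a (χ : G → ℂ) * (χ : G → ℂ) x ^ 2 / (χ : G → ℂ) 1 = a x ^ 2 / a 1 := by
    intro ε χ₀ hε he
    subst he
    rw [Finset.sum_eq_single χ₀ (fun χ _ hne => by
      rw [classInner_smul_left, classInner_irr_ne χ₀.2 χ.2 (fun e => hne (Subtype.ext e.symm))]; simp)
      (fun h => absurd (Finset.mem_univ _) h), classInner_smul_left, classInner_irr_self χ₀.2]
    simp only [Pi.smul_apply, smul_eq_mul]
    have h1 := irr_ne_zero χ₀.2
    have h0 : ε ≠ 0 := fun e => by simp [e] at hε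
    field_simp
  rcases ha with h | h
  · exact key 1 ⟨a, h⟩ (by norm_num) (by simp)
  · exact key (-1) ⟨-a, h⟩ (by norm_num) (by simp)

open Classical in
/-- The factorisations of `g` by two elements of the class of `a`, as a character sum. -/
theorem class_pairs (a g : G) :
    (Nat.card G : ℂ) * (Nat.card {x : G // IsConj a x ∧ IsConj a (x⁻¹ * g)} : ℂ) =
      (Nat.card {x : G // IsConj a x} : ℂ) ^ 2 *
        ∑ χ : IrrCharacter G, (χ : G → ℂ) a ^ 2 * conj ((χ : G → ℂ) g) / (χ : G → ℂ) 1 := by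
  have h := CfsgLib.BSW.card_pairs (Finset.univ.filter fun x : G => IsConj a x)
    (fun x hx k => by
      simp only [Finset.mem_filter, Finset.mem_univ, true_and] at hx ⊢
      exact hx.trans (isConj_iff.2 ⟨k, rfl⟩)) g
  rw [Finset.filter_filter] at h
  simp only [Finset.mem_filter, Finset.mem_univ, true_and] at h
  rw [Nat.card_eq_fintype_card (α := {x : G // IsConj a x ∧ IsConj a (x⁻¹ * g)}), Fintype.card_subtype, h,
    Finset.mul_sum]
  refine Finset.sum_congr rfl fun χ _ => ?_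
  rw [Finset.sum_congr rfl fun x hx => show (χ : G → ℂ) x = (χ : G → ℂ) a by
    obtain ⟨k, hk⟩ := isConj_iff.1 (Finset.mem_filter.1 hx).2
    rw [← hk, isClassFunction_irr χ.2 a k], Finset.sum_const, nsmul_eq_mul, ← Fintype.card_subtype,
    ← Nat.card_eq_fintype_card]
  ring

/-- A class function against the weighted squares at `a`. -/
theorem inner_weight (f : G → ℂ) (a : G) :
    (Nat.card {x : G // IsConj a x} : ℂ) ^ 2 *
        ∑ χ : IrrCharacter G, classInner f (χ : G → ℂ) * (χ : G → ℂ) a ^ 2 / (χ : G → ℂ) 1 =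
      ∑ g : G, f g * (Nat.card {x : G // IsConj a x ∧ IsConj a (x⁻¹ * g)} : ℂ) := by
  classical
  have h0 : (Nat.card G : ℂ) ≠ 0 := Nat.cast_ne_zero.2 Nat.card_pos.ne'
  refine mul_left_cancel₀ h0 ?_
  rw [Finset.mul_sum (s := (Finset.univ : Finset G)),
    Finset.sum_congr rfl fun g _ => mul_left_comm (Nat.card G : ℂ) (f g) _]
  simp only [class_pairs, classInner, Finset.mul_sum, Finset.sum_mul, Finset.sum_div]
  rw [Finset.sum_comm]
  refine Finset.sum_congr rfl fun g _ => Finset.sum_congr rfl fun χ _ => ?_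
  field_simp

end Gen

variable {G : Type u} [Group G] [Fintype G] {z : G} [Fintype (Cz z)] {Ω : Type v} [MulAction (Cz z) Ω]
  {D : Sys G z} (hD : D.Spec Ω)

/-- Brauer's factor `|C|³ / (|G| |C(U)|²)`. -/
noncomputable def Sys.kappa (D : Sys G z) : ℂ :=
  (Nat.card (Cz z) : ℂ) ^ 3 /
    ((Nat.card G : ℂ) * (Nat.card (Subgroup.centralizer ({(D.w : G), z} : Set G)) : ℂ) ^ 2)

omit [Fintype G] [Fintype (Cz z)] in
theorem card_cent_w (D : Sys G z) :
    Nat.card (Subgroup.centralizer ({D.w} : Set (Cz z))) =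
      Nat.card (Subgroup.centralizer ({(D.w : G), z} : Set G)) :=
  Nat.card_congr
    { toFun := fun c => ⟨c.1.1, Subgroup.mem_centralizer_iff.2 fun h hh => by
        rcases hh with rfl | rfl
        · exact (congrArg Subtype.val (Subgroup.mem_centralizer_singleton_iff.1 c.2)).symm
        · exact (Subgroup.mem_centralizer_singleton_iff.1 c.1.2).symm⟩
      invFun := fun g =>
        ⟨⟨g.1, Subgroup.mem_centralizer_singleton_iff.2
            (Subgroup.mem_centralizer_iff.1 g.2 z (Or.inr rfl)).symm⟩,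
          Subgroup.mem_centralizer_singleton_iff.2
            (Subtype.ext (Subgroup.mem_centralizer_iff.1 g.2 _ (Or.inl rfl)).symm)⟩
      left_inv := fun c => rfl
      right_inv := fun g => rfl }

include hD

/-- The involutions of the centraliser. -/
theorem invol_cases {p : Cz z} (hp : orderOf p = 2) : p = D.zc ∨ IsConj D.w p := by
  obtain ⟨t, hc, ht⟩ := hD.core.exh p ⟨1, by rw [hp, pow_one]⟩
  obtain ⟨x, hx⟩ := isConj_iff.1 hc
  have hto : t * t = 1 ∧ t ≠ 1 :=
    CfsgLib.Involutions.orderOf_eq_two_iff'.1 (by rw [← hx, conj_orderOf, hp])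
  have hcent : t = D.zc → p = D.zc := fun e => by
    rw [e] at hx
    calc p = x⁻¹ * (x * p * x⁻¹) * x := by group
      _ = D.zc := by rw [hx, mul_assoc, ← zc_comm hD, ← mul_assoc, inv_mul_cancel, one_mul]
  rcases ht with h | h | h
  · exact Or.inl (hcent ((hD.zonly t h hto.1).resolve_left hto.2))
  · obtain ⟨i, hi⟩ := hD.powN t h hto.2
    refine Or.inl (hcent ?_)
    rcases Nat.even_or_odd i with ⟨j, hj⟩ | ⟨j, hj⟩
    · exact absurd (by rw [← hi, hj, ← two_mul, pow_mul, sq, hto.1, one_pow] : D.zc = 1) (zc_ne hD).1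
    · rw [← hi, hj, pow_succ, pow_mul, sq, hto.1, one_pow, one_mul]
  · rcases hD.invU t h hto.1 with e | e | e | e
    · exact absurd e hto.2
    · exact Or.inl (hcent e)
    · exact Or.inr (e ▸ hc.symm)
    · refine Or.inr ((isConj_iff.2 ⟨_, hD.nw⟩).trans ?_)
      rw [← e]
      exact hc.symm

/-- The factorisations in `G` of an element with a power equal to the involution lie in the centraliser. -/
theorem pairs_eq (hwz : IsConj (D.w : G) z) {c : Cz z} {i : ℕ} (hi : c ^ i = D.zc) :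
    Nat.card {x : G // IsConj z x ∧ IsConj z (x⁻¹ * c)} =
      Nat.card {x : Cz z // IsConj D.w x ∧ IsConj D.w (x⁻¹ * c)} := by
  have hiG : (c : G) ^ i = z := by
    have := congrArg Subtype.val hi
    rwa [hD.zcv] at this
  have hz2 := CfsgLib.Involutions.orderOf_eq_two_iff'.1 hD.zord
  have hup : ∀ y : Cz z, IsConj D.w y → IsConj z (y : G) := fun y hy =>
    hwz.symm.trans (MonoidHom.map_isConj (Subgroup.centralizer ({z} : Set G)).subtype hy)
  have hcz : ∀ a : G, IsConj z a → IsConj z (a⁻¹ * c) →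
      ∃ y : Cz z, (y : G) = a ∧ IsConj D.w y ∧ IsConj D.w (y⁻¹ * c) := by
    intro a ha hb
    have hord : ∀ {b : G}, IsConj z b → orderOf b = 2 := fun {b} hb => by
      obtain ⟨k, hk⟩ := isConj_iff.1 hb
      rw [← hk, conj_orderOf, hD.zord]
    obtain ⟨ha2, -⟩ := CfsgLib.Involutions.orderOf_eq_two_iff'.1 (hord ha)
    obtain ⟨hb2, hb1⟩ := CfsgLib.Involutions.orderOf_eq_two_iff'.1 (hord hb)
    have hainv : a⁻¹ = a := inv_eq_of_mul_eq_one_left ha2
    have hbinv : (a⁻¹ * c)⁻¹ = a⁻¹ * c := inv_eq_of_mul_eq_one_left hb2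
    have hinv : a * (c : G) * a⁻¹ = (c : G)⁻¹ := by
      rw [mul_inv_rev, inv_inv] at hbinv
      rw [hainv] at hbinv ⊢
      calc a * (c : G) * a = (c : G)⁻¹ * a * a := by rw [hbinv]
        _ = _ := by rw [mul_assoc, ha2, mul_one]
    have haz : a * z * a⁻¹ = z := by
      rw [← hiG, ← conj_pow, hinv, inv_pow, hiG]
      exact inv_eq_of_mul_eq_one_left hz2.1
    have haC : a ∈ Subgroup.centralizer ({z} : Set G) :=
      Subgroup.mem_centralizer_singleton_iff.2 (mul_inv_eq_iff_eq_mul.1 haz)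
    have hbC : IsConj D.w ((⟨a, haC⟩ : Cz z)⁻¹ * c) ∨ (⟨a, haC⟩ : Cz z)⁻¹ * c = D.zc :=
      (invol_cases hD (by rw [← Subgroup.orderOf_coe]; exact hord hb)).symm
    have hcne : ∀ u : Cz z, u * u = 1 → u * c = c * u → (u⁻¹ * c) * (u⁻¹ * c) = 1 → c = D.zc := by
      intro u hu hcomm h
      rw [inv_eq_of_mul_eq_one_left hu, mul_assoc, ← mul_assoc c u c, ← hcomm, mul_assoc u c c, ← mul_assoc,
        hu, one_mul] at h
      rcases Nat.even_or_odd i with ⟨j, hj⟩ | ⟨j, hj⟩
      · exact absurd (by rw [← hi, hj, ← two_mul, pow_mul, sq, h, one_pow] : D.zc = 1) (zc_ne hD).1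
      · rw [← hi, hj, pow_succ, pow_mul, sq, h, one_pow, one_mul]
    refine ⟨⟨a, haC⟩, rfl, ?_, ?_⟩
    · refine (invol_cases hD (p := ⟨a, haC⟩) (by rw [← Subgroup.orderOf_coe]; exact hord ha)).resolve_left
        fun e => hb1 ?_
      have hcz' := hcne D.zc (zc_ne hD).2 (zc_comm hD c).symm (by
        rw [← e]; exact Subtype.ext hb2)
      rw [show a = (D.zc : G) from congrArg Subtype.val e, hcz', inv_mul_cancel]
    · refine hbC.resolve_right fun e => ?_
      have hca : (⟨a, haC⟩ : Cz z) = c * D.zc⁻¹ := by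
        rw [← e]; group
      have hcomm : (⟨a, haC⟩ : Cz z) * c = c * ⟨a, haC⟩ := by
        rw [hca, mul_assoc c D.zc⁻¹ c, inv_eq_of_mul_eq_one_left (zc_ne hD).2, ← zc_comm hD c]
      have hc' := hcne _ (Subtype.ext ha2) hcomm (Subtype.ext hb2)
      rw [hc', mul_inv_cancel] at hca
      exact (CfsgLib.Involutions.orderOf_eq_two_iff'.1 (hord ha)).2 (congrArg Subtype.val hca)
  refine (Nat.card_eq_of_bijective (fun y : {x : Cz z // IsConj D.w x ∧ IsConj D.w (x⁻¹ * c)} =>
    (⟨(y.1 : G), hup _ y.2.1, by simpa using hup _ y.2.2⟩ : {x : G // IsConj z x ∧ IsConj z (x⁻¹ * c)}))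
    ⟨fun a b e => Subtype.ext (Subtype.ext (congrArg Subtype.val e :)), fun ⟨a, h1, h2⟩ => ?_⟩).symm
  obtain ⟨y, rfl, h3, h4⟩ := hcz a h1 h2
  exact ⟨⟨y, h3, h4⟩, rfl⟩

/-- Brauer's identity. -/
theorem pair_identity (hwz : IsConj (D.w : G) z) {f : Cz z → ℂ} (hf : D.Supp f)
    (_hc : IsClassFunction (Cz z) f) :
    ∑ χ : IrrCharacter G, classInner (D.up f) (χ : G → ℂ) * (χ : G → ℂ) z ^ 2 / (χ : G → ℂ) 1 =
      D.kappa * ∑ ψ : IrrCharacter (Cz z),
        classInner f (ψ : Cz z → ℂ) * (ψ : Cz z → ℂ) D.w ^ 2 / (ψ : Cz z → ℂ) 1 := by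
  classical
  set NG := fun g : G => (Nat.card {x : G // IsConj z x ∧ IsConj z (x⁻¹ * g)} : ℂ)
  have hNG : IsClassFunction G NG := by
    intro g k
    refine congrArg (Nat.cast (R := ℂ)) (Nat.card_congr (Equiv.subtypeEquiv (MulAut.conj k⁻¹).toEquiv fun x => ?_))
    have hc : ∀ y : G, IsConj z y ↔ IsConj z (k⁻¹ * y * k) := fun y =>
      ⟨fun h => h.trans (isConj_iff.2 ⟨k⁻¹, by rw [inv_inv]⟩),
        fun h => h.trans (isConj_iff.2 ⟨k, by group⟩)⟩
    simp only [MulEquiv.toEquiv_eq_coe, EquivLike.coe_coe, MulAut.conj_apply, inv_inv]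
    rw [← hc x, hc (x⁻¹ * (k * g * k⁻¹))]
    refine and_congr Iff.rfl (iff_of_eq (congrArg _ ?_))
    group
  have h1 := inner_weight (D.up f) z
  have h2 := inner_weight f D.w
  -- both sides are sums over the centraliser
  have hfr := frobenius_reciprocity (Subgroup.centralizer ({z} : Set G)) f hNG
  have hconj : ∀ g, conj (NG g) = NG g := fun g => map_natCast _ _
  simp only [classInner, hconj] at hfr
  have hsum : ∑ c : Cz z, f c * NG c =
      ∑ c : Cz z, f c * (Nat.card {x : Cz z // IsConj D.w x ∧ IsConj D.w (x⁻¹ * c)} : ℂ) := by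
    refine Finset.sum_congr rfl fun c _ => ?_
    by_cases hh : ∃ i : ℕ, c ^ i = D.zc
    · obtain ⟨i, hi⟩ := hh
      simp only [NG, pairs_eq hD hwz hi]
    · rw [hf c fun i e => hh ⟨i, e⟩, zero_mul, zero_mul]
  change (Nat.card G : ℂ)⁻¹ * ∑ g : G, D.up f g * NG g = _ at hfr
  rw [hsum, ← h2, ← h1] at hfr
  have hA := card_isConj_mul_card_centralizer z
  have hB := card_isConj_mul_card_centralizer D.w
  rw [card_cent_w] at hB
  have hA' : (Nat.card {x : G // IsConj z x} : ℂ) * (Nat.card (Cz z) : ℂ) = Nat.card G := by exact_mod_cast hA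
  have hB' : (Nat.card {x : Cz z // IsConj D.w x} : ℂ) *
      (Nat.card (Subgroup.centralizer ({(D.w : G), z} : Set G)) : ℂ) = Nat.card (Cz z) := by exact_mod_cast hB
  set a := (Nat.card {x : G // IsConj z x} : ℂ)
  set b := (Nat.card {x : Cz z // IsConj D.w x} : ℂ)
  set m := (Nat.card (Cz z) : ℂ)
  set k := (Nat.card (Subgroup.centralizer ({(D.w : G), z} : Set G)) : ℂ) with hk
  have hG0 : (Nat.card G : ℂ) ≠ 0 := Nat.cast_ne_zero.2 Nat.card_pos.ne'
  have hm0 : m ≠ 0 := Nat.cast_ne_zero.2 Nat.card_pos.ne'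
  have hk0 : k ≠ 0 := Nat.cast_ne_zero.2 Nat.card_pos.ne'
  rw [Sys.kappa, ← hk]
  set L := ∑ χ : IrrCharacter G, classInner (D.up f) (χ : G → ℂ) * (χ : G → ℂ) z ^ 2 / (χ : G → ℂ) 1
  set R := ∑ ψ : IrrCharacter (Cz z), classInner f (ψ : Cz z → ℂ) * (ψ : Cz z → ℂ) D.w ^ 2 / (ψ : Cz z → ℂ) 1
  rw [show a = (Nat.card G : ℂ) / m by rw [← hA']; field_simp,
    show b = m / k by rw [← hB']; field_simp] at hfr
  field_simp at hfr ⊢
  linear_combination hfr

end CfsgLib.BrauerOrder
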