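import Cfsg.Prelude.Def_CaseTheorems
import Cfsg.Agent.Lib.Blocks.AbelianFreeLift

/-!
# The local data of Brauer's order formula

`C` is the centraliser of an involution, `Ω` the set of Sylow `p`-subgroups of `SL₂(q)` in `C/O(C)`.
`T true` is the torus containing the four-group, `T false` the cyclic one; `n b` induces the nontrivial
automiser of `T b`, and `σ b = fix - 1` on `T b` outside the central part `Z`.
-/

set_option autoImplicit false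

namespace CfsgLib.BrauerOrder

open Cfsg CfsgLib.CharTheory CfsgLib.Blocks.AbelianFree

universe u v

/-- The data on the centraliser. -/
structure Core (C : Type u) [Group C] where
  S : Sylow 2 C
  Z : Subgroup C
  O : Subgroup C
  T : Bool → Subgroup C
  n : Bool → C
  σ : Bool → ℤ
  q : ℕ

variable {C : Type u} [Group C] (d : Core C) (Ω : Type v) [MulAction C Ω]

/-- The properties of the data. -/
structure Core.Spec : Prop where
  onorm : d.O.Normal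
  oodd : Odd (Nat.card d.O)
  otriv : ∀ o ∈ d.O, ∀ a : Ω, o • a = a
  zle : ∀ b, d.Z ≤ d.T b
  zne : ∀ b, ∃ t ∈ d.T b, t ∉ d.Z
  tle : ∀ b, d.T b ≤ (d.S : Subgroup C)
  tcomm : ∀ b, ∀ x ∈ d.T b, ∀ y ∈ d.T b, x * y = y * x
  zS : ∀ u ∈ d.Z, ∀ s ∈ (d.S : Subgroup C), s * u = u * s
  zcent : ∀ u ∈ d.Z, ∀ c : C, c * u * c⁻¹ * u⁻¹ ∈ d.O
  ztriv : ∀ u ∈ d.Z, ∀ a : Ω, u • a = a
  qlb : 3 ≤ d.q
  card : Nat.card Ω = d.q + 1
  two : ∀ a b c e : Ω, a ≠ b → c ≠ e → ∃ g : C, g • a = c ∧ g • b = e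
  nmem : ∀ b, d.n b ∈ (d.S : Subgroup C)
  nnorm : ∀ b, ∀ t ∈ d.T b, d.n b * t * (d.n b)⁻¹ ∈ d.T b
  nsq : ∀ b, d.n b * d.n b ∈ d.T b
  nfix : ∀ b, ∀ t ∈ d.T b, d.n b * t * (d.n b)⁻¹ = t ↔ t ∈ d.Z
  sgn : ∀ b, d.σ b = 1 ∨ d.σ b = -1
  sgnne : d.σ false = -d.σ true
  fix : ∀ b, ∀ t ∈ d.T b, t ∉ d.Z → (Nat.card (MulAction.fixedBy Ω t) : ℤ) = 1 + d.σ b
  cent : ∀ b, ∀ t ∈ d.T b, t ∉ d.Z → ∃ K : Subgroup (Subgroup.centralizer ({t} : Set C)),
    K.Normal ∧ ¬ 2 ∣ Nat.card K ∧ K.index = Nat.card (d.T b)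
  exh : ∀ p : C, (∃ k : ℕ, orderOf p = 2 ^ k) → ∃ t : C, IsConj p t ∧ (t ∈ d.Z ∨ t ∈ d.T false ∨ t ∈ d.T true)
  uniq : ∀ b, ∀ t ∈ d.T b, t ∉ d.Z → ∀ t' ∈ d.T b, t' ∉ d.Z → IsConj t t' →
    t' = t ∨ t' = d.n b * t * (d.n b)⁻¹

/-- The Steinberg character of the action. -/
noncomputable def St (g : C) : ℂ := (Nat.card (MulAction.fixedBy Ω g) : ℂ) - 1

open Classical in
/-- A linear character of a torus, extended by zero. -/
noncomputable def Core.tv {b : Bool} (τ : ↥(d.T b) →* ℂˣ) (t : C) : ℂ :=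
  if h : t ∈ d.T b then (τ ⟨t, h⟩ : ℂ) else 0

/-- The conjugate linear character. -/
noncomputable def Core.conjChar {b : Bool} (h : ∀ t ∈ d.T b, d.n b * t * (d.n b)⁻¹ ∈ d.T b)
    (τ : ↥(d.T b) →* ℂˣ) : ↥(d.T b) →* ℂˣ :=
  τ.comp
    { toFun := fun t => ⟨d.n b * t * (d.n b)⁻¹, h t t.2⟩
      map_one' := Subtype.ext (by simp)
      map_mul' := fun x y => Subtype.ext (by simp [mul_assoc]) }

open Classical in
/-- The class function of a linear character of a torus. -/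
noncomputable def Core.R [Fintype C] (b : Bool) (τ : ↥(d.T b) →* ℂˣ) (g : C) : ℂ :=
  if h : ∃ u ∈ d.Z, pPart Nat.prime_two g * u⁻¹ ∈ d.O then
    d.tv τ h.choose * (1 + (d.σ b : ℂ) * St Ω g)
  else if h : ∃ t ∈ d.T b, t ∉ d.Z ∧ IsConj (pPart Nat.prime_two g) t then
    d.tv τ h.choose + d.tv τ (d.n b * h.choose * (d.n b)⁻¹)
  else 0

/-- The restrictions to the Sylow subgroup are generalized characters. -/
def Core.SylowGen [Fintype C] : Prop :=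
  ∀ (b : Bool) (τ : ↥(d.T b) →* ℂˣ),
    IsGeneralizedCharacter ↥(d.S : Subgroup C) (fun s => d.R Ω b τ s)

/-- The Sylow subgroup modulo `Z` is dihedral with rotations in `T b`, and `lam` is `-1` on a generator. -/
structure Core.Rot (lam : C →* ℂˣ) (b : Bool) (x : C) (h : ℕ) : Prop where
  hpow : ∃ a : ℕ, h = 2 ^ (a + 1)
  xmem : x ∈ d.T b
  xpow : x ^ (2 * h) ∈ d.Z
  xlow : ∀ i : ℕ, 0 < i → i < 2 * h → x ^ i ∉ d.Z
  card : Nat.card (d.S : Subgroup C) = 4 * h * Nat.card d.Z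
  gen : ∀ t ∈ d.T b, ∃ i : ℕ, (x ^ i)⁻¹ * t ∈ d.Z
  inv : ∀ s ∈ (d.S : Subgroup C), s ∉ d.T b → s * x * s⁻¹ * x ∈ d.Z ∧ s * s ∈ d.Z
  exact : 2 ^ padicValNat 2 (d.q ^ 2 - 1) * Nat.card d.Z = Nat.card (d.S : Subgroup C)
  lamx : lam x = -1
  lamZ : ∀ u ∈ d.Z, lam u = 1
  lamsq : ∀ c : C, lam c * lam c = 1

section Sys

variable (G : Type u) [Group G]

/-- The data in the simple group. -/
structure Sys (z : G) where
  core : Core ↥(Subgroup.centralizer ({z} : Set G))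
  zc : ↥(Subgroup.centralizer ({z} : Set G))
  w : ↥(Subgroup.centralizer ({z} : Set G))
  lam : ↥(Subgroup.centralizer ({z} : Set G)) →* ℂˣ
  τ0 : ↥(core.T true) →* ℂˣ
  θ : ↥(core.T false) →* ℂˣ

variable {G} {z : G}

/-- The properties of the data in the simple group. -/
structure Sys.Spec [Fintype G] [Fintype ↥(Subgroup.centralizer ({z} : Set G))] (D : Sys G z) (Ω : Type v)
    [MulAction ↥(Subgroup.centralizer ({z} : Set G)) Ω] : Prop where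
  core : D.core.Spec Ω
  rot : ∃ b x h, D.core.Rot D.lam b x h
  zord : orderOf z = 2
  zcv : (D.zc : G) = z
  zcZ : D.zc ∈ D.core.Z
  zonly : ∀ u ∈ D.core.Z, u * u = 1 → u = 1 ∨ u = D.zc
  wT : D.w ∈ D.core.T true
  wZ : D.w ∉ D.core.Z
  wsq : D.w * D.w = 1
  nw : D.core.n true * D.w * (D.core.n true)⁻¹ = D.zc * D.w
  invU : ∀ t ∈ D.core.T true, t * t = 1 → t = 1 ∨ t = D.zc ∨ t = D.w ∨ t = D.zc * D.w
  powN : ∀ t ∈ D.core.T false, t ≠ 1 → ∃ i : ℕ, t ^ i = D.zc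
  cardU : Nat.card (D.core.T true) = Nat.card D.core.Z ^ 2
  aut : (Subgroup.centralizer (((D.core.T true).map (Subgroup.subtype _) : Subgroup G) : Set G)).relIndex
    (Subgroup.normalizer (((D.core.T true).map (Subgroup.subtype _) : Subgroup G) : Set G)) = 6
  lamsq : ∀ c, D.lam c * D.lam c = 1
  lamz : D.lam D.zc = 1
  lamU : ∃ t ∈ D.core.T true, D.lam t = -1
  lamN : ∃ t ∈ D.core.T false, D.lam t = -1
  tau0ne : D.core.conjChar (core.nnorm true) D.τ0 ≠ D.τ0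
  tau0sq : ∀ t, D.τ0 t * D.τ0 t = 1
  tau0mul : ∀ t : ↥(D.core.T true), D.τ0 t * D.core.conjChar (core.nnorm true) D.τ0 t = D.lam t
  tau0line : ∀ t : ↥(D.core.T true), (∀ i : ℕ, (t : ↥(Subgroup.centralizer ({z} : Set G))) ^ i ≠ D.zc) →
    D.τ0 t = 1 ∨ D.core.conjChar (core.nnorm true) D.τ0 t = 1
  thne : D.core.conjChar (core.nnorm false) D.θ ≠ D.θ
  thfix : ∀ μ : ↥(D.core.T false) →* ℂˣ, D.core.conjChar (core.nnorm false) μ = μ →
    (μ ⟨D.zc, core.zle false zcZ⟩ : ℂ) = 1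
  extra : (∀ φ : ↥(D.core.T false) →* ℂˣ, D.core.conjChar (core.nnorm false) φ ≠ φ →
      ∃ ψ : ↥(D.core.T false) →* ℂˣ, D.core.conjChar (core.nnorm false) ψ ≠ ψ ∧ ψ ≠ D.θ ∧
        ψ ≠ D.core.conjChar (core.nnorm false) D.θ ∧ ψ ≠ φ ∧ ψ ≠ D.core.conjChar (core.nnorm false) φ) ∨
    ∃ μ μ' : ↥(D.core.T false) →* ℂˣ, μ ≠ μ' ∧
      D.core.conjChar (core.nnorm false) μ = μ ∧ D.core.conjChar (core.nnorm false) μ' = μ' ∧
      μ ≠ 1 ∧ μ' ≠ 1 ∧ μ ≠ D.lam.comp (D.core.T false).subtype ∧ μ' ≠ D.lam.comp (D.core.T false).subtype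

end Sys

end CfsgLib.BrauerOrder
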