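import Cfsg.Prelude.Def_CaseTheorems
import Cfsg.Agent.Lib.Basic
import Cfsg.Agent.Lib.LocalFusionExtra
import Mathlib.GroupTheory.Transfer

/-!
# Two-elements of the centraliser of an involution

`Local` axiomatises a Sylow `2`-subgroup `S` of a group `C` with central part `Z` and two abelian tori over
`Z`: `T b` (rotations, generated by `x` modulo `Z`) and `T (!b)` (a reflection modulo `Z`). It gives the
normal `2`-complements of the centralisers of torus elements and the fusion inside each torus.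
-/

set_option autoImplicit false

namespace CfsgLib.BrauerOrder

open Cfsg

universe u

/-- A Sylow subgroup with its two tori. -/
structure Local (C : Type u) [Group C] where
  S : Sylow 2 C
  Z : Subgroup C
  T : Bool → Subgroup C
  n : Bool → C
  b : Bool
  x : C
  h : ℕ

variable {C : Type u} [Group C]

/-- The properties of the tori. -/
structure Local.Spec (L : Local C) : Prop where
  zle : ∀ i, L.Z ≤ L.T i
  zne : ∀ i, ∃ t ∈ L.T i, t ∉ L.Z
  tle : ∀ i, L.T i ≤ (L.S : Subgroup C)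
  tcomm : ∀ i, ∀ a ∈ L.T i, ∀ c ∈ L.T i, a * c = c * a
  zS : ∀ u ∈ L.Z, ∀ s ∈ (L.S : Subgroup C), s * u = u * s
  zcent : ∀ u ∈ L.Z, ∀ c : C, c * u * c⁻¹ * u⁻¹ ∈ oddCore C
  zuniq : ∀ u ∈ L.Z, ∀ v ∈ L.Z, u * u = 1 → v * v = 1 → u ≠ 1 → v ≠ 1 → u = v
  nmem : ∀ i, L.n i ∈ (L.S : Subgroup C)
  nnorm : ∀ i, ∀ t ∈ L.T i, L.n i * t * (L.n i)⁻¹ ∈ L.T i
  nsq : ∀ i, L.n i * L.n i ∈ L.T i
  nfix : ∀ i, ∀ t ∈ L.T i, L.n i * t * (L.n i)⁻¹ = t ↔ t ∈ L.Z
  hpow : ∃ a : ℕ, L.h = 2 ^ (a + 1)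
  xmem : L.x ∈ L.T L.b
  xpow : L.x ^ (2 * L.h) ∈ L.Z
  xlow : ∀ i : ℕ, 0 < i → i < 2 * L.h → L.x ^ i ∉ L.Z
  card : Nat.card (L.S : Subgroup C) = 4 * L.h * Nat.card L.Z
  cardb : Nat.card (L.T L.b) = 2 * L.h * Nat.card L.Z
  cardnb : Nat.card (L.T (!L.b)) = 2 * Nat.card L.Z
  gen : ∀ t ∈ L.T L.b, ∃ i : ℕ, (L.x ^ i)⁻¹ * t ∈ L.Z
  inv : ∀ s ∈ (L.S : Subgroup C), s ∉ L.T L.b → s * L.x * s⁻¹ * L.x ∈ L.Z ∧ s * s ∈ L.Z
  move : ∀ s ∈ (L.S : Subgroup C), s ∉ L.T L.b → ∀ t ∈ L.T L.b, s * t = t * s → t ∈ L.Z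
  sqne : ∀ t ∈ L.T L.b, t ∉ L.Z → ∀ t' ∈ L.T (!L.b), t' ∉ L.Z → t * t ≠ t' * t'
  exh : ∀ p : C, (∃ k : ℕ, orderOf p = 2 ^ k) →
    ∃ t : C, IsConj p t ∧ (t ∈ L.Z ∨ t ∈ L.T false ∨ t ∈ L.T true)

/-- Lift of an element of the centraliser of an element of `2`-power order modulo an odd kernel. -/
theorem exists_lift_centralizer {H : Type*} [Group H] [Finite H] {A : Type*} [Group A] (f : H →* A)
    (hodd : Odd (Nat.card f.ker)) {t g : H} {k : ℕ} (ht : orderOf t = 2 ^ k) (hg : f g * f t = f t * f g) :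
    ∃ c ∈ Subgroup.centralizer ({t} : Set H), f c = f g := by
  classical
  haveI : Fact (Nat.Prime 2) := ⟨Nat.prime_two⟩
  haveI := Fintype.ofFinite f.ker
  set a := g⁻¹ * t * g with ha
  have hfa : f a = f t := by
    rw [ha, map_mul, map_mul, map_inv, mul_assoc, ← hg, inv_mul_cancel_left]
  let σ : Equiv.Perm f.ker :=
    { toFun := fun w => ⟨a * w * t⁻¹, by
        rw [MonoidHom.mem_ker, map_mul, map_mul, map_inv, hfa, MonoidHom.mem_ker.mp w.2, mul_one,
          mul_inv_cancel]⟩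
      invFun := fun w => ⟨a⁻¹ * w * t, by
        rw [MonoidHom.mem_ker, map_mul, map_mul, map_inv, hfa, MonoidHom.mem_ker.mp w.2, mul_one,
          inv_mul_cancel]⟩
      left_inv := fun w => Subtype.ext (by simp [mul_assoc])
      right_inv := fun w => Subtype.ext (by simp [mul_assoc]) }
  have hiter : ∀ (m : ℕ) (w : f.ker), ((σ ^ m) w : H) = a ^ m * (w : H) * (t ^ m)⁻¹ := by
    intro m
    induction m with
    | zero => intro w; simp
    | succ m ih =>
      intro w
      rw [pow_succ, Equiv.Perm.mul_apply, ih]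
      show a ^ m * (a * (w : H) * t⁻¹) * (t ^ m)⁻¹ = _
      rw [pow_succ a, pow_succ' t, mul_inv_rev]
      simp [mul_assoc, (Commute.refl t).pow_left m |>.eq]
      group
  have hσ : σ ^ 2 ^ k = 1 := Equiv.ext fun w => Subtype.ext (by
    rw [hiter, ← ht, pow_orderOf_eq_one, inv_one, mul_one]
    show a ^ orderOf t * (w : H) = w
    have e : a = g⁻¹ * t * (g⁻¹)⁻¹ := by rw [inv_inv, ha]
    rw [e, conj_pow, pow_orderOf_eq_one, mul_one, mul_inv_cancel, one_mul])
  obtain ⟨w, hw⟩ := Equiv.Perm.exists_fixed_point_of_prime (p := 2) (n := k) (by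
    rw [← Nat.card_eq_fintype_card, ← even_iff_two_dvd]
    exact Nat.not_even_iff_odd.mpr hodd) hσ
  refine ⟨g * w, Subgroup.mem_centralizer_singleton_iff.mpr ?_, by
    rw [map_mul, MonoidHom.mem_ker.mp w.2, mul_one]⟩
  have h : a * (w : H) * t⁻¹ = w := congrArg Subtype.val hw
  calc g * (w : H) * t = g * (a * (w : H) * t⁻¹) * t := by rw [h]
    _ = t * (g * w) := by rw [ha]; group

variable [Finite C] {L : Local C} (hL : L.Spec)

section

include hL

omit [Finite C] in
theorem isPGroup_T (i : Bool) : IsPGroup 2 (L.T i) := L.S.2.to_le (hL.tle i)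

theorem eq_one_of_mem_oddCore {w : C} (hw : w ∈ (L.S : Subgroup C)) (hw' : w ∈ oddCore C) : w = 1 := by
  haveI : Fact (Nat.Prime 2) := ⟨Nat.prime_two⟩
  obtain ⟨k, hk⟩ := IsPGroup.iff_orderOf.mp L.S.2 ⟨w, hw⟩
  rw [Subgroup.orderOf_mk] at hk
  have h := Subgroup.orderOf_dvd_natCard _ hw'
  rw [hk] at h
  rcases Nat.eq_zero_or_pos k with rfl | hk0
  · exact orderOf_eq_one_iff.mp hk
  · exact absurd ((dvd_pow_self 2 hk0.ne').trans h)
      (Nat.prime_two.coprime_iff_not_dvd.mp (Nat.coprime_two_left.mpr odd_card_oddCore))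

/-- A conjugate in `S` of an element of `Z` is that element. -/
theorem z_fix {u g : C} (hu : u ∈ L.Z) (hg : g * u * g⁻¹ ∈ (L.S : Subgroup C)) : g * u * g⁻¹ = u :=
  mul_inv_eq_one.mp (eq_one_of_mem_oddCore hL (mul_mem hg (inv_mem (hL.tle false (hL.zle false hu))))
    (hL.zcent u hu g))

theorem h_two : 2 ≤ L.h := by
  obtain ⟨a, ha⟩ := hL.hpow
  rw [ha, pow_succ]
  have := Nat.one_le_two_pow (n := a)
  omega

theorem card_T_pos : 0 < Nat.card L.Z := Nat.card_pos

theorem z_relIndex : L.Z.relIndex (L.T (!L.b)) = 2 := by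
  have h := (L.Z.subgroupOf (L.T (!L.b))).card_mul_index
  rw [Nat.card_congr (Subgroup.subgroupOfEquivOfLe (hL.zle _)).toEquiv, ← Subgroup.relIndex, hL.cardnb,
    mul_comm 2] at h
  exact Nat.eq_of_mul_eq_mul_left Nat.card_pos h

theorem nb_decomp {e t : C} (he : e ∈ L.T (!L.b)) (he' : e ∉ L.Z) (ht : t ∈ L.T (!L.b)) :
    t ∈ L.Z ∨ e⁻¹ * t ∈ L.Z := by
  by_cases h : t ∈ L.Z
  · exact Or.inl h
  · right
    have := (Subgroup.mul_mem_iff_of_index_two (H := L.Z.subgroupOf (L.T (!L.b))) (z_relIndex hL)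
      (a := (⟨e, he⟩ : L.T (!L.b))⁻¹) (b := ⟨t, ht⟩)).mpr
      ⟨fun h' => absurd (by simpa [Subgroup.mem_subgroupOf] using h') he', fun h' => absurd h' h⟩
    simpa [Subgroup.mem_subgroupOf] using this

theorem b_relIndex : (L.T L.b).relIndex (L.S : Subgroup C) = 2 := by
  have h := ((L.T L.b).subgroupOf (L.S : Subgroup C)).card_mul_index
  rw [Nat.card_congr (Subgroup.subgroupOfEquivOfLe (hL.tle _)).toEquiv, ← Subgroup.relIndex, hL.cardb,
    hL.card, show 4 * L.h * Nat.card L.Z = 2 * L.h * Nat.card L.Z * 2 by ring] at h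
  exact Nat.eq_of_mul_eq_mul_left
    (Nat.mul_pos (by have := h_two hL; omega) (Nat.card_pos (α := L.Z))) h

omit [Finite C] in
theorem n_not_mem (i : Bool) : L.n i ∉ L.T i := by
  intro h
  obtain ⟨t, ht, htZ⟩ := hL.zne i
  exact htZ ((hL.nfix i t ht).mp (by rw [hL.tcomm i _ h _ ht, mul_inv_cancel_right]))

theorem S_decomp {s : C} (hs : s ∈ (L.S : Subgroup C)) (hsT : s ∉ L.T L.b) :
    (L.n L.b)⁻¹ * s ∈ L.T L.b := by
  have := (Subgroup.mul_mem_iff_of_index_two (H := (L.T L.b).subgroupOf (L.S : Subgroup C)) (b_relIndex hL)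
    (a := (⟨L.n L.b, hL.nmem _⟩ : (L.S : Subgroup C))⁻¹) (b := ⟨s, hs⟩)).mpr
    ⟨fun h' => absurd (by simpa [Subgroup.mem_subgroupOf] using h') (n_not_mem hL L.b),
      fun h' => absurd h' hsT⟩
  simpa [Subgroup.mem_subgroupOf] using this

omit [Finite C] in
theorem not_mem_nb {t : C} (ht : t ∈ L.T (!L.b)) (htZ : t ∉ L.Z) : t ∉ L.T L.b := fun h =>
  hL.sqne t h htZ t ht htZ rfl

/-- Centralisers in `S` of elements outside the rotations. -/
theorem card_centralizer_le {s : C} (hs : s ∈ (L.S : Subgroup C)) (hsT : s ∉ L.T L.b) (R : Subgroup C)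
    (hR : R ≤ (L.S : Subgroup C)) (hc : ∀ r ∈ R, r * s = s * r) : Nat.card R ≤ 2 * Nat.card L.Z := by
  have h := ((L.T L.b).subgroupOf R).card_mul_index
  have hi : (L.T L.b).relIndex R ≤ 2 := by
    rw [← b_relIndex hL]
    exact Nat.le_of_dvd (by rw [b_relIndex hL]; norm_num) (by
      haveI : ((L.T L.b).subgroupOf (L.S : Subgroup C)).Normal :=
        Subgroup.normal_of_index_eq_two (b_relIndex hL)
      have := Subgroup.relIndex_dvd_index_of_normal ((L.T L.b).subgroupOf (L.S : Subgroup C))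
        (R.subgroupOf (L.S : Subgroup C))
      rwa [Subgroup.relIndex_subgroupOf hR] at this)
  have hle : Nat.card ((L.T L.b).subgroupOf R) ≤ Nat.card L.Z := by
    refine Nat.card_le_card_of_injective
      (fun r : (L.T L.b).subgroupOf R => (⟨((r : R) : C), hL.move s hs hsT _ r.2 (hc _ (r : R).2).symm⟩ : L.Z)) ?_
    intro r r' e
    exact Subtype.ext (Subtype.ext (congrArg (fun z : L.Z => (z : C)) e))
  rw [← h, mul_comm]
  exact Nat.mul_le_mul hi hle

/-- The tori are Sylow subgroups of the centralisers of their noncentral elements. -/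
theorem T_maximal {i : Bool} {t : C} (ht : t ∈ L.T i) (htZ : t ∉ L.Z) (R : Subgroup C) (hR : IsPGroup 2 R)
    (hTR : L.T i ≤ R) (hc : ∀ r ∈ R, r * t = t * r) : R = L.T i := by
  haveI : Fact (Nat.Prime 2) := ⟨Nat.prime_two⟩
  refine (Subgroup.eq_of_le_of_card_ge hTR ?_).symm
  obtain ⟨P, hP⟩ := hR.exists_le_sylow
  obtain ⟨g, hg⟩ := MulAction.exists_smul_eq C P L.S
  have hmem : ∀ r ∈ R, g * r * g⁻¹ ∈ (L.S : Subgroup C) := fun r hr => by
    rw [← hg]
    exact Subgroup.smul_mem_pointwise_smul r (MulAut.conj g) _ (hP hr)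
  set R' := R.map (MulAut.conj g).toMonoidHom with hR'
  have hR'S : R' ≤ (L.S : Subgroup C) := by
    rintro _ ⟨r, hr, rfl⟩
    exact hmem r hr
  have hcard : Nat.card R' = Nat.card R := Subgroup.card_map_of_injective (MulAut.conj g).injective
  have hfix : ∀ u ∈ L.Z, g * u * g⁻¹ = u := fun u hu => z_fix hL hu (hmem u (hTR (hL.zle i hu)))
  set s := g * t * g⁻¹ with hs
  have hsS : s ∈ (L.S : Subgroup C) := hmem t (hTR ht)
  have hsc : ∀ r ∈ R', r * s = s * r := by
    rintro _ ⟨r, hr, rfl⟩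
    show g * r * g⁻¹ * (g * t * g⁻¹) = g * t * g⁻¹ * (g * r * g⁻¹)
    rw [conj_mul, conj_mul, hc r hr]
  have hsZ : s ∉ L.Z := fun h => htZ (by
    have e : g⁻¹ * s * g⁻¹⁻¹ = t := by rw [hs]; group
    have := z_fix hL h (g := g⁻¹) (by rw [e]; exact hL.tle i ht)
    rw [e] at this
    rwa [this])
  by_cases hsT : s ∈ L.T L.b
  · have hib : i = L.b := by
      by_contra hne
      obtain rfl : i = !L.b := Bool.eq_not.mpr hne
      have htt := (hL.inv t (hL.tle _ ht) (not_mem_nb hL ht htZ)).2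
      refine hL.sqne s hsT hsZ t ht htZ ?_
      rw [← hfix _ htt, hs, conj_mul]
    subst hib
    rw [← hcard]
    refine Subgroup.card_le_of_le fun r hr => ?_
    by_contra hrT
    exact hsZ (hL.move r (hR'S hr) hrT s hsT (hsc r hr))
  · refine (hcard ▸ card_centralizer_le hL hsS hsT R' hR'S hsc).trans ?_
    rcases Bool.eq_or_eq_not i L.b with rfl | rfl
    · rw [hL.cardb]
      exact Nat.mul_le_mul_right _ (by have := h_two hL; omega)
    · rw [hL.cardnb]

/-- Elements normalising a torus act on it as `1` or as `n`. -/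
theorem action_cases {i : Bool} {g : C} (hg : g ∈ Subgroup.normalizer (L.T i : Set C)) :
    (∀ t ∈ L.T i, g * t * g⁻¹ = t) ∨ ∀ t ∈ L.T i, g * t * g⁻¹ = L.n i * t * (L.n i)⁻¹ := by
  have hfix : ∀ {y : C}, y ∈ Subgroup.normalizer (L.T i : Set C) → ∀ u ∈ L.Z, y * u * y⁻¹ = u :=
    fun {y} hy u hu => z_fix hL hu (hL.tle i ((Subgroup.mem_normalizer_iff.mp hy u).mp (hL.zle i hu)))
  rcases Bool.eq_or_eq_not i L.b with rfl | rfl
  swap
  · -- the torus of a reflection
    obtain ⟨e, he, heZ⟩ := hL.zne (!L.b)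
    have hee : e * e ∈ L.Z := (hL.inv e (hL.tle _ he) (not_mem_nb hL he heZ)).2
    have key : ∀ y : C, y ∈ Subgroup.normalizer (L.T (!L.b) : Set C) →
        e⁻¹ * (y * e * y⁻¹) ∈ L.Z ∧ e⁻¹ * (y * e * y⁻¹) * (e⁻¹ * (y * e * y⁻¹)) = 1 := by
      intro y hy
      have hye : y * e * y⁻¹ ∈ L.T (!L.b) := (Subgroup.mem_normalizer_iff.mp hy e).mp he
      have h1 : e⁻¹ * (y * e * y⁻¹) ∈ L.Z := (nb_decomp hL he heZ hye).resolve_left fun h => heZ (by
        have e1 : y⁻¹ * (y * e * y⁻¹) * y⁻¹⁻¹ = e := by group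
        have := z_fix hL h (g := y⁻¹) (by rw [e1]; exact hL.tle _ he)
        rw [e1] at this
        rwa [this])
      refine ⟨h1, ?_⟩
      have hc := hL.tcomm _ _ hye _ (inv_mem he)
      calc e⁻¹ * (y * e * y⁻¹) * (e⁻¹ * (y * e * y⁻¹)) = e⁻¹ * (y * e * y⁻¹ * e⁻¹) * (y * e * y⁻¹) := by group
        _ = (e * e)⁻¹ * (y * (e * e) * y⁻¹) := by rw [hc]; group
        _ = 1 := by rw [hfix hy _ hee, inv_mul_cancel]
    have hnN : L.n (!L.b) ∈ Subgroup.normalizer (L.T (!L.b) : Set C) := by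
      rw [Subgroup.mem_normalizer_iff]
      intro t
      refine ⟨hL.nnorm _ t, fun ht => ?_⟩
      have h2 := hL.nnorm _ _ ht
      have hn2 := hL.nsq (!L.b)
      have e1 : t = (L.n (!L.b) * L.n (!L.b))⁻¹ * (L.n (!L.b) * (L.n (!L.b) * t * (L.n (!L.b))⁻¹) * (L.n (!L.b))⁻¹)
          * (L.n (!L.b) * L.n (!L.b)) := by group
      rw [e1]
      exact mul_mem (mul_mem (inv_mem hn2) h2) hn2
    obtain ⟨hu, hu2⟩ := key g hg
    obtain ⟨hv, hv2⟩ := key _ hnN
    have hv1 : e⁻¹ * (L.n (!L.b) * e * (L.n (!L.b))⁻¹) ≠ 1 := fun h =>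
      heZ ((hL.nfix _ e he).mp (inv_mul_eq_one.mp h).symm)
    have ext : ∀ y y' : C, y ∈ Subgroup.normalizer (L.T (!L.b) : Set C) →
        y' ∈ Subgroup.normalizer (L.T (!L.b) : Set C) → y * e * y⁻¹ = y' * e * y'⁻¹ →
        ∀ t ∈ L.T (!L.b), y * t * y⁻¹ = y' * t * y'⁻¹ := by
      intro y y' hy hy' hye t ht
      rcases nb_decomp hL he heZ ht with h | h
      · rw [hfix hy t h, hfix hy' t h]
      · calc y * t * y⁻¹ = y * e * y⁻¹ * (y * (e⁻¹ * t) * y⁻¹) := by group
          _ = y' * e * y'⁻¹ * (y' * (e⁻¹ * t) * y'⁻¹) := by rw [hye, hfix hy _ h, hfix hy' _ h]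
          _ = y' * t * y'⁻¹ := by group
    by_cases hu1 : e⁻¹ * (g * e * g⁻¹) = 1
    · left
      intro t ht
      have := ext g 1 hg (one_mem _) (by rw [← inv_mul_eq_one.mp hu1]; group) t ht
      simpa using this
    · right
      exact ext g _ hg hnN (mul_left_cancel (hL.zuniq _ hu _ hv hu2 hv2 hu1 hv1))
  · -- the torus of rotations
    haveI : Fact (Nat.Prime 2) := ⟨Nat.prime_two⟩
    set N := Subgroup.normalizer (L.T L.b : Set C) with hN
    have hSN : (L.S : Subgroup C) ≤ N := by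
      intro s hs
      rw [hN, Subgroup.mem_normalizer_iff]
      have hn : ((L.T L.b).subgroupOf (L.S : Subgroup C)).Normal :=
        Subgroup.normal_of_index_eq_two (b_relIndex hL)
      intro t
      refine ⟨fun ht => ?_, fun ht => ?_⟩
      · simpa [Subgroup.mem_subgroupOf] using hn.conj_mem ⟨t, hL.tle _ ht⟩ ht ⟨s, hs⟩
      · have := hn.conj_mem ⟨_, hL.tle _ ht⟩ ht (⟨s, hs⟩ : (L.S : Subgroup C))⁻¹
        simpa [Subgroup.mem_subgroupOf, mul_assoc] using this
    let ψ := Subgroup.normalizerMonoidHom (L.T L.b)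
    have hP : IsPGroup 2 ψ.range := by
      rintro ⟨_, y, rfl⟩
      obtain ⟨a, r, hr, he⟩ := Nat.exists_eq_two_pow_mul_odd (orderOf_pos (y : C)).ne'
      refine ⟨a, Subtype.ext ?_⟩
      show ψ y ^ 2 ^ a = 1
      rw [← map_pow, ← MonoidHom.mem_ker, Subgroup.normalizerMonoidHom_ker, Subgroup.mem_subgroupOf,
        SubgroupClass.coe_pow]
      refine CfsgLib.LocalFusion.mem_centralizer_of_fix (hL.tcomm _) (isPGroup_T hL _) (pow_mem y.2 _)
        (Odd.of_dvd_nat hr (orderOf_dvd_of_pow_eq_one (by rw [← pow_mul, ← he, pow_orderOf_eq_one]))) ?_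
      intro q hq hqq
      set w := (y : C) ^ 2 ^ a with hw
      have hwN : w ∈ N := pow_mem y.2 _
      have hqw : w * q * w⁻¹ ∈ L.T L.b := (Subgroup.mem_normalizer_iff.mp hwN q).mp hq
      have hz : ∀ p ∈ L.T L.b, p * p = 1 → p ∈ L.Z ∨ (L.x ^ L.h)⁻¹ * p ∈ L.Z := by
        intro p hp hpp
        obtain ⟨m, hm⟩ := hL.gen p hp
        have hm2 : L.x ^ (2 * m) ∈ L.Z := by
          have hc := hL.tcomm _ _ hp _ (inv_mem (pow_mem hL.xmem m))
          have e1 : (L.x ^ m)⁻¹ * p * ((L.x ^ m)⁻¹ * p) = (L.x ^ (2 * m))⁻¹ := by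
            calc (L.x ^ m)⁻¹ * p * ((L.x ^ m)⁻¹ * p) = (L.x ^ m)⁻¹ * (p * (L.x ^ m)⁻¹) * p := by group
              _ = (L.x ^ m)⁻¹ * (L.x ^ m)⁻¹ * (p * p) := by rw [hc]; group
              _ = _ := by rw [hpp, mul_one, ← mul_inv_rev, ← pow_add, two_mul]
          exact inv_mem_iff.mp (e1 ▸ mul_mem hm hm)
        have hdvd : L.h ∣ m := by
          have h1 : L.x ^ (2 * m % (2 * L.h)) ∈ L.Z := by
            rw [← Nat.mod_add_div (2 * m) (2 * L.h), pow_add, pow_mul] at hm2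
            exact (Subgroup.mul_mem_cancel_right _ (pow_mem hL.xpow _)).mp hm2
          by_contra hnd
          refine hL.xlow _ ?_ (Nat.mod_lt _ (by have := h_two hL; omega)) h1
          refine Nat.pos_of_ne_zero fun h0 => hnd ?_
          have := Nat.dvd_of_mod_eq_zero h0
          exact (Nat.mul_dvd_mul_iff_left two_pos).mp this
        obtain ⟨l, rfl⟩ := hdvd
        obtain ⟨l', rfl | rfl⟩ := Nat.even_or_odd' l
        · left
          rw [show L.h * (2 * l') = 2 * L.h * l' by ring, pow_mul] at hm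
          exact (Subgroup.mul_mem_cancel_left _ (inv_mem (pow_mem hL.xpow _))).mp hm
        · right
          rw [show L.h * (2 * l' + 1) = 2 * L.h * l' + L.h by ring, pow_add, mul_inv_rev, pow_mul] at hm
          have := mul_mem hm (pow_mem hL.xpow l')
          have hc := hL.tcomm _ _ (pow_mem (hL.zle _ hL.xpow) l') _ (inv_mem (pow_mem hL.xmem L.h))
          have hc2 := hL.tcomm _ _ hp _ (pow_mem (hL.zle _ hL.xpow) l')
          rwa [mul_assoc, hc2, ← mul_assoc, inv_mul_cancel_right] at this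
      have hodd : Odd (orderOf w) :=
        Odd.of_dvd_nat hr (orderOf_dvd_of_pow_eq_one (by rw [hw, ← pow_mul, ← he, pow_orderOf_eq_one]))
      rcases hz q hq hqq with hqZ | hqZ
      · exact hfix hwN q hqZ
      rcases hz _ hqw (by rw [conj_mul, hqq, mul_one, mul_inv_cancel]) with hqZ' | hqZ'
      · have e1 : w⁻¹ * (w * q * w⁻¹) * w⁻¹⁻¹ = q := by group
        have := z_fix hL hqZ' (g := w⁻¹) (by rw [e1]; exact hL.tle _ hq)
        rw [e1] at this
        rw [← this]
      · -- the two involutions outside `Z` differ by the involution of `Z`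
        set u := q⁻¹ * (w * q * w⁻¹) with hu
        have huZ : u ∈ L.Z := by
          have := mul_mem (inv_mem hqZ) hqZ'
          rwa [mul_inv_rev, inv_inv, mul_assoc, mul_inv_cancel_left] at this
        have hwu : w * u * w⁻¹ = u := hfix hwN u huZ
        have hit : ∀ j : ℕ, w ^ j * q * (w ^ j)⁻¹ = q * u ^ j := by
          intro j
          induction j with
          | zero => group
          | succ j ih =>
            calc w ^ (j + 1) * q * (w ^ (j + 1))⁻¹ = w ^ j * (q * u) * (w ^ j)⁻¹ := by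
                  rw [hu, mul_inv_cancel_left]; group
              _ = w ^ j * q * (w ^ j)⁻¹ * (w ^ j * u * (w ^ j)⁻¹) := by group
              _ = q * u ^ (j + 1) := by rw [ih, CfsgLib.LocalFusion.conj_pow_fix hwu, pow_succ, mul_assoc]
        have h1 := hit (orderOf w)
        rw [pow_orderOf_eq_one, one_mul, inv_one, mul_one, eq_comm, mul_eq_left] at h1
        obtain ⟨m, hm⟩ := IsPGroup.iff_orderOf.mp L.S.2 ⟨u, hL.tle _ (hL.zle L.b huZ)⟩
        rw [Subgroup.orderOf_mk] at hm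
        have h2 : orderOf u = 1 := Nat.eq_one_of_dvd_coprimes
          (Nat.Coprime.pow_left m hodd.coprime_two_left) hm.dvd (orderOf_dvd_of_pow_eq_one h1)
        exact ((inv_mul_eq_one (a := q)).mp (orderOf_eq_one_iff.mp h2)).symm
    have hcover : ∃ s ∈ (L.S : Subgroup C), ∀ t ∈ L.T L.b, g * t * g⁻¹ = s * t * s⁻¹ := by
      let P : Sylow 2 N := L.S.subtype hSN
      have htop : ((P.mapSurjective (f := ψ.rangeRestrict) ψ.rangeRestrict_surjective : Sylow 2 ψ.range) :
          Subgroup ψ.range) = ⊤ :=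
        ((P.mapSurjective (f := ψ.rangeRestrict) ψ.rangeRestrict_surjective).3
          (hP.to_subgroup ⊤) le_top).symm
      have : ψ.rangeRestrict ⟨g, hg⟩ ∈ ((P : Subgroup N)).map ψ.rangeRestrict := by
        rw [← Sylow.coe_mapSurjective ψ.rangeRestrict_surjective, htop]
        trivial
      obtain ⟨y, hy, hye⟩ := this
      refine ⟨(y : C), hy, fun t ht => ?_⟩
      have := congrArg (fun f : MulAut (L.T L.b) => ((f ⟨t, ht⟩ : L.T L.b) : C)) (congrArg Subtype.val hye)
      exact this.symm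
    obtain ⟨s, hs, hst⟩ := hcover
    by_cases hsT : s ∈ L.T L.b
    · left
      intro t ht
      rw [hst t ht, hL.tcomm _ _ hsT _ ht, mul_inv_cancel_right]
    · right
      intro t ht
      rw [hst t ht]
      have hd := S_decomp hL hs hsT
      calc s * t * s⁻¹ = L.n L.b * ((L.n L.b)⁻¹ * s * t * ((L.n L.b)⁻¹ * s)⁻¹) * (L.n L.b)⁻¹ := by group
        _ = _ := by rw [hL.tcomm _ _ hd _ ht, mul_inv_cancel_right]

/-- The centraliser of a noncentral torus element has a normal complement to the torus. -/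
theorem cent {i : Bool} {t : C} (ht : t ∈ L.T i) (htZ : t ∉ L.Z) :
    ∃ K : Subgroup (Subgroup.centralizer ({t} : Set C)),
      K.Normal ∧ ¬ 2 ∣ Nat.card K ∧ K.index = Nat.card (L.T i) := by
  haveI : Fact (Nat.Prime 2) := ⟨Nat.prime_two⟩
  set H := Subgroup.centralizer ({t} : Set C) with hH
  have hTH : L.T i ≤ H := fun a ha => Subgroup.mem_centralizer_singleton_iff.mpr (hL.tcomm i a ha t ht)
  let P : Sylow 2 H :=
    { toSubgroup := (L.T i).subgroupOf H
      isPGroup' := (isPGroup_T hL i).comap_of_injective H.subtype H.subtype_injective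
      is_maximal' := fun {Q} hQ hle => by
        have hmap : Q.map H.subtype = L.T i := T_maximal hL ht htZ _ (hQ.map _)
          (fun a ha => ⟨⟨a, hTH ha⟩, hle ha, rfl⟩) (by
            rintro _ ⟨q, -, rfl⟩
            exact Subgroup.mem_centralizer_singleton_iff.mp q.2)
        rw [← Subgroup.comap_map_eq_self_of_injective H.subtype_injective Q, hmap]
        rfl }
  have hN : Subgroup.normalizer ((P : Subgroup H) : Set H) ≤ Subgroup.centralizer ((P : Subgroup H) : Set H) := by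
    intro g hg
    have hgN : (g : C) ∈ Subgroup.normalizer (L.T i : Set C) := by
      rw [Subgroup.mem_normalizer_iff]
      intro a
      constructor
      · intro ha
        exact (Subgroup.mem_normalizer_iff.mp hg ⟨a, hTH ha⟩).mp ha
      · intro ha
        have haH : a ∈ H := by
          have := mul_mem (mul_mem (inv_mem g.2) (hTH ha)) g.2
          rwa [show (g : C)⁻¹ * ((g : C) * a * (g : C)⁻¹) * (g : C) = a by group] at this
        exact (Subgroup.mem_normalizer_iff.mp hg ⟨a, haH⟩).mpr ha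
    refine Subgroup.mem_centralizer_iff.mpr fun a ha => Subtype.ext ?_
    rcases action_cases hL hgN with h | h
    · exact (mul_inv_eq_iff_eq_mul.mp (h _ ha)).symm
    · exfalso
      refine htZ ((hL.nfix i t ht).mp ?_)
      rw [← h t ht, Subgroup.mem_centralizer_singleton_iff.mp g.2, mul_inv_cancel_right]
  refine ⟨(MonoidHom.transferSylow P hN).ker, inferInstance, MonoidHom.not_dvd_card_ker_transferSylow P hN, ?_⟩
  rw [(MonoidHom.ker_transferSylow_isComplement' P hN).symm.index_eq_card]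
  exact Nat.card_congr (Subgroup.subgroupOfEquivOfLe hTH).toEquiv

/-- Fusion inside a torus. -/
theorem uniq {i : Bool} {t t' : C} (ht : t ∈ L.T i) (htZ : t ∉ L.Z) (ht' : t' ∈ L.T i) (ht'Z : t' ∉ L.Z)
    (hc : IsConj t t') : t' = t ∨ t' = L.n i * t * (L.n i)⁻¹ := by
  haveI : Fact (Nat.Prime 2) := ⟨Nat.prime_two⟩
  obtain ⟨g, hg⟩ := isConj_iff.mp hc
  set H := Subgroup.centralizer ({t'} : Set C) with hH
  have mem_H : ∀ {a : C}, a ∈ H ↔ a * t' = t' * a := Subgroup.mem_centralizer_singleton_iff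
  set A := (L.T i).map (MulAut.conj g).toMonoidHom with hA
  have hAH : A ≤ H := by
    rintro _ ⟨a, ha, rfl⟩
    refine mem_H.mpr ?_
    show g * a * g⁻¹ * t' = t' * (g * a * g⁻¹)
    rw [← hg, conj_mul, conj_mul, hL.tcomm i a ha t ht]
  have hTH : L.T i ≤ H := fun a ha => mem_H.mpr (hL.tcomm i a ha t' ht')
  let P : Sylow 2 H :=
    { toSubgroup := (L.T i).subgroupOf H
      isPGroup' := (isPGroup_T hL i).comap_of_injective H.subtype H.subtype_injective
      is_maximal' := fun {Q} hQ hle => by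
        have hmap : Q.map H.subtype = L.T i := T_maximal hL ht' ht'Z _ (hQ.map _)
          (fun a ha => ⟨⟨a, hTH ha⟩, hle ha, rfl⟩) (by
            rintro _ ⟨q, -, rfl⟩
            exact mem_H.mp q.2)
        rw [← Subgroup.comap_map_eq_self_of_injective H.subtype_injective Q, hmap]
        rfl }
  have hA2 : IsPGroup 2 (A.subgroupOf H) :=
    ((isPGroup_T hL i).map _).comap_of_injective H.subtype H.subtype_injective
  obtain ⟨Q, hQ⟩ := hA2.exists_le_sylow
  obtain ⟨k, hk⟩ := MulAction.exists_smul_eq H Q P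
  have hmap : ∀ a ∈ L.T i, (k : C) * g * a * ((k : C) * g)⁻¹ ∈ L.T i := by
    intro a ha
    have h1 : k * ⟨g * a * g⁻¹, hAH ⟨a, ha, rfl⟩⟩ * k⁻¹ ∈ (P : Subgroup H) := by
      rw [← hk]
      exact Subgroup.smul_mem_pointwise_smul _ (MulAut.conj k) _ (hQ ⟨a, ha, rfl⟩)
    have h2 : (k : C) * (g * a * g⁻¹) * (k : C)⁻¹ ∈ L.T i := h1
    rwa [show (k : C) * g * a * ((k : C) * g)⁻¹ = (k : C) * (g * a * g⁻¹) * (k : C)⁻¹ by group]
  have hkN : (k : C) * g ∈ Subgroup.normalizer (L.T i : Set C) :=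
    Subgroup.mem_normalizer_fintype hmap
  have hkt : (k : C) * g * t * ((k : C) * g)⁻¹ = t' := by
    rw [show (k : C) * g * t * ((k : C) * g)⁻¹ = (k : C) * (g * t * g⁻¹) * (k : C)⁻¹ by group, hg,
      mem_H.mp k.2, mul_inv_cancel_right]
  rcases action_cases hL hkN with h | h
  · exact Or.inl (hkt.symm.trans (h t ht))
  · exact Or.inr (hkt.symm.trans (h t ht))

end

end CfsgLib.BrauerOrder
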