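import Cfsg.Agent.Lib.BrauerOrder.LinePoints
import Cfsg.Agent.Lib.BrauerOrder.Local
import Mathlib.GroupTheory.GroupAction.ConjAct
import Mathlib.GroupTheory.GroupAction.Quotient

/-!
# The projective line of `C / O(C)`

The Sylow `p`-subgroups of the normal `SL₂(q)` in `C / O(C)`: a noncentral torus element fixes at most two
points, and the two tori have opposite signs by the orbit count on a Sylow `2`-subgroup.
-/

set_option autoImplicit false
set_option linter.unusedSectionVars false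
set_option linter.style.haveILetI false

namespace CfsgLib.BrauerOrder

open Cfsg Subgroup
open scoped Pointwise

universe u v

namespace Line

variable {C : Type u} [Group C] [Finite C] {N : Subgroup (C ⧸ oddCore C)} [N.Normal]

/-- Conjugation on the normal subgroup. -/
noncomputable def act (N : Subgroup (C ⧸ oddCore C)) [N.Normal] : C →* MulAut N :=
  MulAut.conjNormal.comp (QuotientGroup.mk' (oddCore C))

theorem act_apply (c : C) (m : N) :
    ((act N c) m : C ⧸ oddCore C) = (c : C ⧸ oddCore C) * (m : C ⧸ oddCore C) * (c : C ⧸ oddCore C)⁻¹ := rfl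

theorem act_eq_one {c : C} (h : ∀ m : N, (c : C ⧸ oddCore C) * m = m * (c : C ⧸ oddCore C)) : act N c = 1 :=
  MulEquiv.ext fun m => Subtype.ext (by
    rw [act_apply, h, mul_inv_cancel_right]
    rfl)

theorem act_odd {o : C} (ho : o ∈ oddCore C) : act N o = 1 :=
  act_eq_one fun m => by rw [(QuotientGroup.eq_one_iff o).mpr ho, one_mul, mul_one]

theorem act_conj {c : C} (hc : (c : C ⧸ oddCore C) ∈ N) :
    act N c = MulAut.conj (⟨(c : C ⧸ oddCore C), hc⟩ : N) :=
  MulEquiv.ext fun _ => Subtype.ext rfl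

variable (N) (p : ℕ)

/-- The number of fixed points. -/
noncomputable def fx (t : C) : ℕ := Nat.card (MulAction.fixedBy (Sylow p N) (act N t))

variable {N} {p}

theorem fx_act {s t : C} (h : act N s = act N t) : fx N p s = fx N p t := by
  rw [fx, fx, h]

theorem fx_conj (g t : C) : fx N p (g * t * g⁻¹) = fx N p t := by
  refine (Nat.card_congr ((MulAction.toPerm (act N g)).subtypeEquiv fun P => ?_)).symm
  show act N t • P = P ↔ act N (g * t * g⁻¹) • (act N g • P) = act N g • P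
  rw [← mul_smul, map_mul, map_mul, map_inv, inv_mul_cancel_right, mul_smul, smul_left_cancel_iff]

theorem fx_isConj {s t : C} (h : IsConj s t) : fx N p t = fx N p s := by
  obtain ⟨g, rfl⟩ := isConj_iff.mp h
  exact fx_conj g s

variable {L : Local C} (hL : L.Spec)

include hL

theorem act_z {u : C} (hu : u ∈ L.Z) : act N u = 1 :=
  act_eq_one fun m => by
    obtain ⟨g, hg⟩ := QuotientGroup.mk_surjective (m : C ⧸ oddCore C)
    have h := (QuotientGroup.eq_one_iff _).mpr (hL.zcent u hu g)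
    rw [QuotientGroup.mk_mul, QuotientGroup.mk_mul, QuotientGroup.mk_mul, QuotientGroup.mk_inv,
      QuotientGroup.mk_inv, mul_inv_eq_one, mul_inv_eq_iff_eq_mul] at h
    rw [← hg, h]

theorem eq_of_conj_z {s g : C} (hs : s ∈ (L.S : Subgroup C)) (h : g * s * g⁻¹ ∈ L.Z) : s ∈ L.Z := by
  have e : g⁻¹ * (g * s * g⁻¹) * g⁻¹⁻¹ = s := by group
  have h2 := z_fix hL h (g := g⁻¹) (by rw [e]; exact hs)
  rw [e] at h2
  rwa [h2]

/-- Elements of odd order centralising a torus element lie in a subgroup of odd order. -/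
theorem exists_odd {i : Bool} {t : C} (ht : t ∈ L.T i) (htZ : t ∉ L.Z) :
    ∃ K : Subgroup (C ⧸ oddCore C), Odd (Nat.card K) ∧
      ∀ a, Odd (orderOf a) → a * (t : C ⧸ oddCore C) = (t : C ⧸ oddCore C) * a → a ∈ K := by
  haveI : Fact (Nat.Prime 2) := ⟨Nat.prime_two⟩
  obtain ⟨K, hK, hK2, hKi⟩ := cent hL ht htZ
  refine ⟨(K.map (centralizer ({t} : Set C)).subtype).map (QuotientGroup.mk' (oddCore C)), ?_, fun a ha hc => ?_⟩
  · exact Odd.of_dvd_nat (Nat.odd_iff.mpr (Nat.two_dvd_ne_zero.mp hK2))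
      ((card_map_dvd _ _).trans (card_map_dvd _ _))
  obtain ⟨g, rfl⟩ := QuotientGroup.mk'_surjective (oddCore C) a
  obtain ⟨k, hk⟩ := IsPGroup.iff_orderOf.mp L.S.2 ⟨t, hL.tle i ht⟩
  rw [Subgroup.orderOf_mk] at hk
  obtain ⟨c, hc', e⟩ := exists_lift_centralizer (QuotientGroup.mk' (oddCore C))
    (by rw [QuotientGroup.ker_mk']; exact CfsgLib.odd_card_oddCore) hk hc
  haveI := hK
  have hmem : (QuotientGroup.mk' (oddCore C) g) ^ Nat.card (L.T i) ∈
      (K.map (centralizer ({t} : Set C)).subtype).map (QuotientGroup.mk' (oddCore C)) :=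
    ⟨c ^ Nat.card (L.T i), ⟨(⟨c, hc'⟩ : centralizer ({t} : Set C)) ^ Nat.card (L.T i),
      hKi ▸ K.pow_index_mem _, rfl⟩, by rw [map_pow, e]⟩
  obtain ⟨m, hm⟩ := IsPGroup.iff_card.mp (isPGroup_T hL i)
  have hcop : (Nat.card (L.T i)).Coprime (orderOf (QuotientGroup.mk' (oddCore C) g)) := by
    rw [hm]; exact (Nat.coprime_two_left.mpr ha).pow_left m
  obtain ⟨b, hb⟩ := exists_pow_eq_self_of_coprime hcop
  rw [← hb]
  exact pow_mem hmem b

variable {F : Type v} [Field F] [Fintype F] [hp : Fact p.Prime] {n : ℕ} (hF : Fintype.card F = p ^ n)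
  (hn : n ≠ 0) (hodd : Odd (Fintype.card F)) (e : N ≃* Matrix.SpecialLinearGroup (Fin 2) F)

include hF hn hodd e

theorem not_three {i : Bool} {t : C} (ht : t ∈ L.T i) (htZ : t ∉ L.Z) {a b c : Sylow p N} (hab : a ≠ b)
    (hac : a ≠ c) (hbc : b ≠ c) (ha : act N t • a = a) (hb : act N t • b = b) (hc : act N t • c = c) :
    False := by
  obtain ⟨K, hK, hKmem⟩ := exists_odd hL ht htZ
  obtain ⟨g, hgU, hgV⟩ := exists_map_pair e hF hn hab
  obtain ⟨s, hs, hgc⟩ : ∃ s : F, s ≠ 0 ∧ g • pt e hF hn s = c := by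
    rcases exists_pt e hF hn (g⁻¹ • c) with h | ⟨s, h⟩
    · exact absurd (hgU.symm.trans (inv_smul_eq_iff.mp h).symm) hac
    · refine ⟨s, fun h0 => ?_, (inv_smul_eq_iff.mp h).symm⟩
      rw [h0, pt_zero] at h
      exact hbc (hgV.symm.trans (inv_smul_eq_iff.mp h).symm)
  set α : MulAut N := (MulAut.conj g)⁻¹ * act N t * MulAut.conj g with hα
  have hfix : ∀ P : Sylow p N, ∀ Q : Sylow p N, g • P = Q → act N t • Q = Q → α • P = P := by
    intro P Q e1 e2
    have e1' : MulAut.conj g • P = Q := e1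
    rw [hα, mul_smul, mul_smul, e1', e2, inv_smul_eq_iff, e1']
  obtain ⟨hu, hv⟩ := fix_three e hF hn (hfix _ _ hgU ha) (hfix _ _ hgV hb) hs (hfix _ _ hgc hc)
  have key : ∀ m : N, α m = m → Odd (orderOf m) → ((MulAut.conj g m : N) : C ⧸ oddCore C) ∈ K := by
    intro m hm ho
    refine hKmem _ ?_ ?_
    · rwa [Subgroup.orderOf_coe, MulEquiv.orderOf_eq]
    · have h1 : act N t (MulAut.conj g m) = MulAut.conj g m := by
        rw [hα, MulAut.mul_apply, MulAut.mul_apply] at hm
        have h0 := congrArg (MulAut.conj g) hm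
        rwa [MulAut.apply_inv_self] at h0
      have h2 := congrArg Subtype.val h1
      rw [act_apply, mul_inv_eq_iff_eq_mul] at h2
      exact h2.symm
  have hord : ∀ (P : Subgroup N) (m : N), m ∈ P → Nat.card P = Fintype.card F → Odd (orderOf m) :=
    fun P m hm hP => Odd.of_dvd_nat hodd (hP ▸ Subgroup.orderOf_dvd_natCard _ hm)
  set w : N := uN e s * (vN e s⁻¹)⁻¹ * uN e s with hw
  have hwK : ((MulAut.conj g w : N) : C ⧸ oddCore C) ∈ K := by
    rw [hw, map_mul, map_mul, map_inv, Subgroup.coe_mul, Subgroup.coe_mul, Subgroup.coe_inv]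
    have h1 := key _ hu (hord _ _ (uN_mem e s) (card_subU e))
    have h2 := key _ hv (hord _ _ (vN_mem e _) (card_subV e))
    exact mul_mem (mul_mem h1 (inv_mem h2)) h1
  have hww : (e (w * w)).1 = -1 := by
    rw [hw, vN_neg, map_mul, map_mul, map_mul, e_uN, e_vN]
    ext i j
    fin_cases i <;> fin_cases j <;>
      simp [CfsgLib.PSL2.coe_uSL, CfsgLib.PSL2.coe_vSL, Matrix.mul_apply, Fin.sum_univ_two, hs]
  have h4 : w ^ 4 = 1 := by
    refine e.injective (Subtype.ext ?_)
    rw [show w ^ 4 = w * w * (w * w) by simp [pow_succ, mul_assoc], map_mul, Matrix.SpecialLinearGroup.coe_mul, hww, map_one,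
      Matrix.SpecialLinearGroup.coe_one, neg_mul_neg, mul_one]
  have hw1 : w ≠ 1 := fun h => by
    rw [h, mul_one, map_one, Matrix.SpecialLinearGroup.coe_one] at hww
    have h00 := congrFun (congrFun hww 0) 0
    simp at h00
    have h2 : ((2 : ℕ) : F) = 0 := by push_cast; linear_combination h00
    haveI : CharP F p := charP_of_card_eq_prime_pow hF
    rw [CharP.cast_eq_zero_iff F p] at h2
    rw [(Nat.prime_dvd_prime_iff_eq hp.out Nat.prime_two).mp h2] at hF
    exact absurd hodd (by rw [hF]; exact Nat.not_odd_iff_even.mpr (Nat.even_pow.mpr ⟨even_two, hn⟩))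
  refine hw1 ((MulAut.conj g).map_eq_one_iff.mp (Subtype.ext (orderOf_eq_one_iff.mp ?_)))
  have hord4 : orderOf ((MulAut.conj g w : N) : C ⧸ oddCore C) ∣ 4 :=
    orderOf_dvd_of_pow_eq_one (by rw [← Subgroup.coe_pow, ← map_pow, h4, map_one]; rfl)
  exact Nat.eq_one_of_dvd_coprimes
    (show (4 : ℕ).Coprime (Nat.card K) from (Nat.coprime_two_left.mpr hK).pow_left 2) hord4
    (Subgroup.orderOf_dvd_natCard _ hwK)

theorem two_lt_card : 2 < Fintype.card F := by
  have h1 := Fintype.one_lt_card (α := F)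
  obtain ⟨k, hk⟩ := hodd
  omega

theorem card_line : Nat.card (Sylow p N) = Fintype.card F + 1 := card_points e hF hn

theorem fx_one {t : C} (h : act N t = 1) : fx N p t = Fintype.card F + 1 := by
  rw [fx, h, ← card_line hL hF hn hodd e]
  exact Nat.card_congr (Equiv.subtypeUnivEquiv fun P => one_smul _ P)

theorem fx_le_two {i : Bool} {t : C} (ht : t ∈ L.T i) (htZ : t ∉ L.Z) : fx N p t ≤ 2 := by
  by_contra hlt
  rw [fx, Nat.card_coe_set_eq, not_le, Set.two_lt_ncard_iff (Set.toFinite _)] at hlt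
  obtain ⟨a, b, c, ha, hb, hc, hab, hac, hbc⟩ := hlt
  exact not_three hL hF hn hodd e ht htZ hab hac hbc ha hb hc

/-- A noncentral element of the Sylow subgroup fixes no point or two. -/
theorem fx_cases {s : C} (hs : s ∈ (L.S : Subgroup C)) (hsZ : s ∉ L.Z) : fx N p s = 0 ∨ fx N p s = 2 := by
  haveI : Fact (Nat.Prime 2) := ⟨Nat.prime_two⟩
  obtain ⟨k, hk⟩ := IsPGroup.iff_orderOf.mp L.S.2 ⟨s, hs⟩
  rw [Subgroup.orderOf_mk] at hk
  obtain ⟨t, hconj, ht⟩ := hL.exh s ⟨k, hk⟩
  obtain ⟨g, hg⟩ := isConj_iff.mp hconj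
  have htZ : t ∉ L.Z := fun h => hsZ (eq_of_conj_z hL hs (g := g) (by rw [hg]; exact h))
  have hle : fx N p s ≤ 2 := by
    rw [← fx_isConj hconj]
    rcases ht with h | h | h
    · exact absurd h htZ
    · exact fx_le_two hL hF hn hodd e h htZ
    · exact fx_le_two hL hF hn hodd e h htZ
  have hP : IsPGroup 2 (zpowers (act N s)) := by
    obtain ⟨j, -, hj⟩ := (Nat.dvd_prime_pow Nat.prime_two).mp (hk ▸ orderOf_map_dvd (act N) s)
    exact IsPGroup.of_card (n := j) (by rw [Nat.card_zpowers, hj])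
  have hmod := hP.card_modEq_card_fixedPoints (Sylow p N)
  have hfp : MulAction.fixedPoints (zpowers (act N s)) (Sylow p N) = MulAction.fixedBy (Sylow p N) (act N s) := by
    ext P
    refine ⟨fun h => h ⟨_, mem_zpowers _⟩, fun h => fun x => ?_⟩
    obtain ⟨m, hm⟩ := mem_zpowers_iff.mp x.2
    show (x : MulAut N) • P = P
    rw [← hm]
    exact Subgroup.zpow_mem (MulAction.stabilizer (MulAut N) P) (show act N s ∈ MulAction.stabilizer (MulAut N) P from h) m
  rw [hfp, card_line hL hF hn hodd e] at hmod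
  have h2 : fx N p s % 2 = (Fintype.card F + 1) % 2 := hmod.symm
  obtain ⟨j, hj⟩ := hodd
  omega

theorem not_three_S {s : C} (hs : s ∈ (L.S : Subgroup C)) (hsZ : s ∉ L.Z) {a b c : Sylow p N} (hab : a ≠ b)
    (hac : a ≠ c) (hbc : b ≠ c) (ha : act N s • a = a) (hb : act N s • b = b) (hc : act N s • c = c) :
    False := by
  have h : 2 < fx N p s := by
    rw [fx, Nat.card_coe_set_eq, Set.two_lt_ncard_iff (Set.toFinite _)]
    exact ⟨a, b, c, ha, hb, hc, hab, hac, hbc⟩
  rcases fx_cases hL hF hn hodd e hs hsZ with h1 | h1 <;> omega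

theorem r_not_mem : L.x ^ L.h ∉ L.Z :=
  hL.xlow _ (by have := h_two hL; omega) (by have := h_two hL; omega)

/-- The rotations outside `Z` fix as many points as `x ^ h`. -/
theorem fx_rot {t : C} (ht : t ∈ L.T L.b) (htZ : t ∉ L.Z) : fx N p t = fx N p (L.x ^ L.h) := by
  set r := L.x ^ L.h with hr
  have hh := h_two hL
  have hrT : r ∈ L.T L.b := pow_mem hL.xmem _
  have hrS := hL.tle _ hrT
  have hrZ := r_not_mem hL hF hn hodd e
  have hr2 : r * r ∈ L.Z := by rw [hr, ← pow_add, ← two_mul]; exact hL.xpow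
  obtain ⟨i, hi⟩ := hL.gen t ht
  have hti : act N t = act N L.x ^ i := by
    rw [show t = L.x ^ i * ((L.x ^ i)⁻¹ * t) by group, map_mul, act_z hL hi, mul_one, map_pow]
  have hx2h : act N L.x ^ (2 * L.h) = 1 := by rw [← map_pow]; exact act_z hL hL.xpow
  -- a power of `t` acts as `r`
  have hpow : ∃ m : ℕ, act N r = act N t ^ m := by
    have hi0 : i % (2 * L.h) ≠ 0 := fun h0 => htZ (by
      have h1 : L.x ^ i ∈ L.Z := by
        rw [← Nat.mod_add_div i (2 * L.h), h0, zero_add, pow_mul]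
        exact pow_mem hL.xpow _
      have := mul_mem h1 hi
      rwa [mul_inv_cancel_left] at this)
    obtain ⟨a, ha⟩ := hL.hpow
    obtain ⟨c, o, ho, hco⟩ := Nat.exists_eq_two_pow_mul_odd hi0
    obtain ⟨o', rfl⟩ := ho
    have hc : c ≤ a + 1 := by
      have h1 : 2 ^ c < 2 ^ (a + 1 + 1) := by
        calc 2 ^ c ≤ 2 ^ c * (2 * o' + 1) := Nat.le_mul_of_pos_right _ (by omega)
          _ = i % (2 * L.h) := hco.symm
          _ < 2 * L.h := Nat.mod_lt _ (by omega)
          _ = 2 ^ (a + 1 + 1) := by rw [ha]; ring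
      exact Nat.le_of_lt_succ ((Nat.pow_lt_pow_iff_right (by norm_num)).mp h1)
    refine ⟨2 ^ (a + 1 - c), ?_⟩
    have hm : i * 2 ^ (a + 1 - c) = L.h + 2 * L.h * (o' + i / (2 * L.h) * 2 ^ (a + 1 - c)) := by
      have h2 : 2 ^ c * 2 ^ (a + 1 - c) = L.h := by rw [ha, ← pow_add]; congr 1; omega
      calc i * 2 ^ (a + 1 - c) = (i % (2 * L.h) + 2 * L.h * (i / (2 * L.h))) * 2 ^ (a + 1 - c) := by
            rw [Nat.mod_add_div]
        _ = 2 ^ c * 2 ^ (a + 1 - c) * (2 * o' + 1) + 2 * L.h * (i / (2 * L.h) * 2 ^ (a + 1 - c)) := by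
            rw [hco]; ring
        _ = _ := by rw [h2]; ring
    rw [hti, ← pow_mul, hm, pow_add, pow_mul, hx2h, one_pow, mul_one, hr, map_pow]
  obtain ⟨m, hm⟩ := hpow
  have hsub : MulAction.fixedBy (Sylow p N) (act N t) ⊆ MulAction.fixedBy (Sylow p N) (act N r) := fun P hP => by
    show act N r • P = P
    rw [hm]
    exact Subgroup.pow_mem (MulAction.stabilizer (MulAut N) P) hP m
  have hle : fx N p t ≤ fx N p r := Nat.card_mono (Set.toFinite _) hsub
  rcases fx_cases hL hF hn hodd e hrS hrZ with h0 | h2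
  · omega
  -- the rotations fix both fixed points of `r`
  suffices hx : ∀ a ∈ MulAction.fixedBy (Sylow p N) (act N r), act N L.x • a = a by
    have hge : fx N p r ≤ fx N p t := Nat.card_mono (Set.toFinite _) fun a ha => by
      show act N t • a = a
      rw [hti]
      exact Subgroup.pow_mem (MulAction.stabilizer (MulAut N) a) (hx a ha) i
    omega
  intro a ha
  by_contra hne
  set b := act N L.x • a with hbdef
  have hb : act N r • b = b := by
    rw [hbdef, ← mul_smul, ← map_mul, hr, ← pow_succ, pow_succ', map_mul, mul_smul]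
    exact congrArg _ ha
  have hcard : (MulAction.fixedBy (Sylow p N) (act N r)) = {a, b} := by
    refine (Set.eq_of_subset_of_ncard_le (Set.insert_subset_iff.mpr ⟨ha, Set.singleton_subset_iff.mpr hb⟩) ?_).symm
    rw [Set.ncard_pair (Ne.symm hne), ← Nat.card_coe_set_eq]
    exact h2.le
  have hpair : ∀ P, act N r • P = P → P = a ∨ P = b := fun P hP => by
    have : P ∈ ({a, b} : Set (Sylow p N)) := hcard ▸ hP
    exact this
  have hbx : act N L.x • b = a := by
    have h1 : act N r • act N L.x • b = act N L.x • b := by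
      rw [← mul_smul, ← map_mul, hr, ← pow_succ, pow_succ', map_mul, mul_smul]
      exact congrArg _ hb
    refine (hpair _ h1).resolve_right fun h => hne ?_
    have h' : act N L.x • b = act N L.x • a := h
    exact smul_left_cancel _ h'
  -- a reflection fixing `a`
  have hperm : ∀ s ∈ (L.S : Subgroup C), s ∉ L.T L.b → ∀ P : Sylow p N, act N r • P = P → act N r • act N s • P = act N s • P := by
    intro s hs hsT P hP
    have h1 : act N s * act N L.x * (act N s)⁻¹ = (act N L.x)⁻¹ := by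
      have h := act_z (N := N) hL (hL.inv s hs hsT).1
      rw [map_mul, map_mul, map_mul, map_inv] at h
      exact eq_inv_of_mul_eq_one_left h
    have h3 : act N s * act N r * (act N s)⁻¹ = (act N r)⁻¹ := by
      rw [hr, map_pow, ← conj_pow, h1, inv_pow]
    have h4 : act N s * act N r = (act N r)⁻¹ * act N s := by rw [← h3]; group
    have h5 : act N s • P = (act N r)⁻¹ • act N s • P := by
      conv_lhs => rw [← hP]
      rw [← mul_smul, ← mul_smul, h4]
    exact eq_inv_smul_iff.mp h5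
  have hnS := hL.nmem L.b
  have hnT := n_not_mem hL L.b
  obtain ⟨s, hs, hsT, hsa⟩ : ∃ s ∈ (L.S : Subgroup C), s ∉ L.T L.b ∧ act N s • a = a := by
    rcases hpair _ (hperm _ hnS hnT a ha) with h | h
    · exact ⟨_, hnS, hnT, h⟩
    · refine ⟨L.x * L.n L.b, mul_mem (hL.tle _ hL.xmem) hnS, fun h' => hnT ?_, ?_⟩
      · simpa using mul_mem (inv_mem hL.xmem) h'
      · rw [map_mul, mul_smul, h, hbx]
  have hsb : act N s • b = b := (hpair _ (hperm s hs hsT b hb)).resolve_left fun h =>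
    hne (smul_left_cancel (act N s) (h.trans hsa.symm))
  have hsZ : s ∉ L.Z := fun h => hsT (hL.zle _ h)
  obtain ⟨g, hgU, hgV⟩ := exists_map_pair e hF hn (Ne.symm hne)
  have hinv : ∀ y : C, y ∈ (L.S : Subgroup C) → y ∉ L.Z → y * y ∈ L.Z → act N y • a = a → act N y • b = b →
      ((MulAut.conj g)⁻¹ * act N y * MulAut.conj g) (uN e 1) = uN e (-1) := by
    intro y hy hyZ hyy hya hyb
    set α := (MulAut.conj g)⁻¹ * act N y * MulAut.conj g with hα
    have hfix : ∀ P : Sylow p N, (act N y • (g • P) = g • P) → α • P = P := fun P hP => by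
      rw [hα, mul_smul, mul_smul, inv_smul_eq_iff]
      exact hP
    have hαU := hfix _ (by rw [hgU, hya])
    have hαV := hfix _ (by rw [hgV, hyb])
    refine inverts e hF hn (fun z => ?_) hαU hαV (fun t' ht' => ?_) 1
    · have h1 : α * α = 1 := by
        rw [hα, show (MulAut.conj g)⁻¹ * act N y * MulAut.conj g * ((MulAut.conj g)⁻¹ * act N y * MulAut.conj g) =
          (MulAut.conj g)⁻¹ * (act N y * act N y) * MulAut.conj g by group, ← map_mul, act_z hL hyy, mul_one,
          inv_mul_cancel]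
      exact DFunLike.congr_fun h1 z
    · by_contra ht0
      refine not_three_S hL hF hn hodd e hy hyZ (Ne.symm hne) (c := g • pt e hF hn t') ?_ ?_ hya hyb ?_
      · rw [← hgU, Ne, smul_left_cancel_iff]
        exact (pt_ne_U e hF hn t').symm
      · rw [← hgV, Ne, smul_left_cancel_iff, ← pt_zero e hF hn]
        exact fun h => ht0 (pt_injective e hF hn h).symm
      · rw [hα, mul_smul, mul_smul, inv_smul_eq_iff] at ht'
        exact ht'
  have hsr : s * r ∉ L.Z := fun h => hsT (by simpa using mul_mem (hL.zle L.b h) (inv_mem hrT))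
  have h1 : ((MulAut.conj g)⁻¹ * act N (s * r) * MulAut.conj g) (uN e 1) = uN e 1 := by
    have e1 := hinv r hrS hrZ hr2 ha hb
    have e2 := hinv s hs hsZ (hL.inv s hs hsT).2 hsa hsb
    rw [show (MulAut.conj g)⁻¹ * act N (s * r) * MulAut.conj g = ((MulAut.conj g)⁻¹ * act N s * MulAut.conj g) *
      ((MulAut.conj g)⁻¹ * act N r * MulAut.conj g) by rw [map_mul]; group, MulAut.mul_apply, e1, ← uN_neg,
      map_inv, e2, uN_neg, neg_neg]
  have hac : act N (s * r) • a = a := by rw [map_mul, mul_smul, show act N r • a = a from ha, hsa]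
  have hbc : act N (s * r) • b = b := by rw [map_mul, mul_smul, hb, hsb]
  refine not_three_S hL hF hn hodd e (mul_mem hs hrS) hsr (Ne.symm hne) (c := g • pt e hF hn 1) ?_ ?_ hac hbc ?_
  · rw [← hgU, Ne, smul_left_cancel_iff]
    exact (pt_ne_U e hF hn 1).symm
  · rw [← hgV, Ne, smul_left_cancel_iff, ← pt_zero e hF hn]
    exact fun h => one_ne_zero (pt_injective e hF hn h).symm
  · set β := (MulAut.conj g)⁻¹ * act N (s * r) * MulAut.conj g with hβ
    have hβV : β • sylV e hF hn = sylV e hF hn := by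
      rw [hβ, mul_smul, mul_smul, inv_smul_eq_iff]
      show act N (s * r) • (g • sylV e hF hn) = g • sylV e hF hn
      rw [hgV, hbc]
    have h2 : β • pt e hF hn 1 = pt e hF hn 1 := by rw [pt, aut_smul, h1, hβV]
    rw [hβ, mul_smul, mul_smul, inv_smul_eq_iff] at h2
    exact h2

section K2

variable {K2 : Subgroup C}
  (hQZ : ((L.S : Subgroup C) ⊓ N.comap (QuotientGroup.mk' (oddCore C))) ⊔ L.Z = K2)

include hQZ

theorem exists_decomp {s : C} (hs : s ∈ K2) :
    ∃ q₀ ∈ (L.S : Subgroup C) ⊓ N.comap (QuotientGroup.mk' (oddCore C)), ∃ u ∈ L.Z, q₀ * u = s := by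
  rw [← hQZ, ← SetLike.mem_coe, coe_mul_of_left_le_normalizer_right] at hs
  · obtain ⟨q₀, hq, u, hu, rfl⟩ := hs
    exact ⟨q₀, hq, u, hu, rfl⟩
  · intro y hy
    refine mem_normalizer_iff.mpr fun z => ⟨fun hz => ?_, fun hz => ?_⟩
    · rwa [hL.zS z hz y hy.1, mul_inv_cancel_right]
    · have e1 : y * z = y * z * y⁻¹ * y := by group
      rw [← hL.zS _ hz y hy.1] at e1
      rwa [mul_left_cancel e1]

/-- Reflections in `K2` fix two points exactly if `-1` is a square. -/
theorem fx_inside {s : C} (hs : s ∈ (L.S : Subgroup C)) (hsT : s ∉ L.T L.b) (hsK : s ∈ K2) :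
    fx N p s = if Fintype.card F % 4 = 3 then 0 else 2 := by
  obtain ⟨q₀, ⟨hqS, hqN⟩, u, hu, hqu⟩ := exists_decomp hL hF hn hodd e hQZ hsK
  have hqT : q₀ ∉ L.T L.b := fun h => hsT (hqu ▸ mul_mem h (hL.zle _ hu))
  have hqZ : q₀ ∉ L.Z := fun h => hqT (hL.zle _ h)
  have hfs : fx N p s = fx N p q₀ := fx_act (by rw [← hqu, map_mul, act_z hL hu, mul_one])
  set m : N := ⟨(q₀ : C ⧸ oddCore C), hqN⟩ with hm
  have hcases := fx_cases hL hF hn hodd e hqS hqZ
  have hm2c : ∀ x, m * m * x = x * (m * m) := fun x => Subtype.ext (by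
    have h := DFunLike.congr_fun (act_z (N := N) hL (hL.inv q₀ hqS hqT).2) x
    have h' := congrArg Subtype.val h
    rw [act_apply, mul_inv_eq_iff_eq_mul] at h'
    exact h')
  have h20 : (2 : F) ≠ 0 := fun h => by
    haveI : CharP F p := charP_of_card_eq_prime_pow hF
    have h' : ((2 : ℕ) : F) = 0 := by exact_mod_cast h
    rw [CharP.cast_eq_zero_iff F p] at h'
    rw [(Nat.prime_dvd_prime_iff_eq hp.out Nat.prime_two).mp h'] at hF
    exact absurd hodd (by rw [hF]; exact Nat.not_odd_iff_even.mpr (Nat.even_pow.mpr ⟨even_two, hn⟩))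
  have hm2 : m * m ≠ 1 := fun h => by
    have h1 : act N q₀ = 1 := by
      rw [act_conj hqN]
      exact MulEquiv.ext fun x => by
        show m * x * m⁻¹ = x
        rw [commute_of_sq e h20 h x, mul_inv_cancel_right]
    rw [fx_one hL hF hn hodd e h1] at hcases
    have := two_lt_card hL hF hn hodd e
    omega
  have hiff := fix_four e hF hn (g := m) (coe_eq_neg_one e hm2 hm2c)
  have hact : ∀ P : Sylow p N, act N q₀ • P = m • P := fun P => by rw [act_conj hqN]; rfl
  rw [hfs]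
  split_ifs with h3
  · refine hcases.resolve_right fun h2 => ?_
    obtain ⟨P, hP⟩ : Nonempty (MulAction.fixedBy (Sylow p N) (act N q₀)) := by
      refine (Nat.card_pos_iff.mp ?_).1
      show 0 < fx N p q₀
      omega
    exact absurd h3 (hiff.mp ⟨P, (hact P).symm.trans hP⟩)
  · refine hcases.resolve_left fun h0 => ?_
    obtain ⟨P, hP⟩ := hiff.mpr h3
    have : IsEmpty (MulAction.fixedBy (Sylow p N) (act N q₀)) :=
      Finite.card_eq_zero_iff.mp h0
    exact this.false ⟨P, (hact P).trans hP⟩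

/-- Reflections outside `K2` are conjugate into the second torus. -/
theorem fx_outside (k2S : K2 ≤ (L.S : Subgroup C)) (k2 : K2.relIndex (L.S : Subgroup C) = 2) {e₀ : C}
    (he₀ : e₀ ∈ L.T (!L.b)) (he₀Z : e₀ ∉ L.Z) {s : C} (hs : s ∈ (L.S : Subgroup C)) (hsT : s ∉ L.T L.b)
    (hsK : s ∉ K2) : fx N p s = fx N p e₀ := by
  haveI : Fact (Nat.Prime 2) := ⟨Nat.prime_two⟩
  obtain ⟨k, hk⟩ := IsPGroup.iff_orderOf.mp L.S.2 ⟨s, hs⟩
  rw [Subgroup.orderOf_mk] at hk
  obtain ⟨t, hconj, ht⟩ := hL.exh s ⟨k, hk⟩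
  obtain ⟨g, hg⟩ := isConj_iff.mp hconj
  have hsZ : s ∉ L.Z := fun h => hsT (hL.zle _ h)
  have htZ : t ∉ L.Z := fun h => hsZ (eq_of_conj_z hL hs (g := g) (by rw [hg]; exact h))
  obtain ⟨i, hti⟩ : ∃ i, t ∈ L.T i := by
    rcases ht with h | h | h
    · exact absurd h htZ
    · exact ⟨_, h⟩
    · exact ⟨_, h⟩
  rw [← fx_isConj hconj]
  rcases Bool.eq_or_eq_not i L.b with rfl | rfl
  swap
  · rcases nb_decomp hL he₀ he₀Z hti with h | h
    · exact absurd h htZ
    · refine fx_act ?_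
      rw [show t = e₀ * (e₀⁻¹ * t) by group, map_mul, act_z hL h, mul_one]
  exfalso
  have hss := (hL.inv s hs hsT).2
  have htt : t * t ∈ L.Z := by
    have h : g * (s * s) * g⁻¹ = t * t := by rw [← hg]; group
    have := z_fix hL hss (g := g) (by rw [h]; exact hL.tle _ (mul_mem hti hti))
    rw [← h, this]; exact hss
  -- `t` lies in `K2`
  obtain ⟨j, hj⟩ := hL.gen t hti
  have hx2j : L.x ^ (2 * j) ∈ L.Z := by
    have hc : Commute (L.x ^ j) ((L.x ^ j)⁻¹ * t) :=
      hL.tcomm _ _ (pow_mem hL.xmem j) _ (hL.zle _ hj)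
    have e1 : t * t = L.x ^ (2 * j) * (((L.x ^ j)⁻¹ * t) * ((L.x ^ j)⁻¹ * t)) := by
      have e := hc.mul_pow 2
      rw [mul_inv_cancel_left, ← pow_mul, mul_comm j 2] at e
      rw [← pow_two, ← pow_two, e]
    rw [e1] at htt
    exact (Subgroup.mul_mem_cancel_right _ (mul_mem hj hj)).mp htt
  obtain ⟨l, hl⟩ : L.h ∣ j := by
    by_contra hnd
    refine hL.xlow (2 * j % (2 * L.h)) ?_ (Nat.mod_lt _ (by have := h_two hL; omega)) ?_
    · refine Nat.pos_of_ne_zero fun h0 => hnd ?_
      exact (Nat.mul_dvd_mul_iff_left two_pos).mp (Nat.dvd_of_mod_eq_zero h0)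
    · rw [← Nat.mod_add_div (2 * j) (2 * L.h), pow_add, pow_mul] at hx2j
      exact (Subgroup.mul_mem_cancel_right _ (pow_mem hL.xpow _)).mp hx2j
  have htK : t ∈ K2 := by
    obtain ⟨a, ha⟩ := hL.hpow
    have hx2 : L.x * L.x ∈ K2 := mul_self_mem_of_index_two (H := K2.subgroupOf (L.S : Subgroup C)) k2
      ⟨L.x, hL.tle _ hL.xmem⟩
    have hev : L.x ^ j ∈ K2 := by
      rw [hl, ha, pow_succ', mul_assoc, pow_mul, pow_two]
      exact pow_mem hx2 _
    have := mul_mem hev (hQZ ▸ mem_sup_right hj : (L.x ^ j)⁻¹ * t ∈ K2)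
    rwa [mul_inv_cancel_left] at this
  obtain ⟨q₀, ⟨-, hqN⟩, u, hu, hqu⟩ := exists_decomp hL hF hn hodd e hQZ htK
  refine hsK (hQZ ▸ ?_)
  have h1 : s * u⁻¹ ∈ (L.S : Subgroup C) ⊓ N.comap (QuotientGroup.mk' (oddCore C)) := by
    refine Subgroup.mem_inf.mpr ⟨mul_mem hs (inv_mem (hL.tle _ (hL.zle L.b hu))), ?_⟩
    have es : s = g⁻¹ * t * g := by rw [← hg]; group
    have e1 : s * u⁻¹ = g⁻¹ * q₀ * g⁻¹⁻¹ * (g⁻¹ * u * g⁻¹⁻¹ * u⁻¹) := by rw [es, ← hqu]; group
    rw [e1]
    refine mul_mem ((inferInstance : (N.comap (QuotientGroup.mk' (oddCore C))).Normal).conj_mem _ hqN _) ?_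
    show ((g⁻¹ * u * g⁻¹⁻¹ * u⁻¹ : C) : C ⧸ oddCore C) ∈ N
    rw [(QuotientGroup.eq_one_iff _).mpr (hL.zcent u hu g⁻¹)]
    exact one_mem _
  have h2 := mul_mem (mem_sup_left (T := L.Z) h1) (mem_sup_right hu)
  rwa [inv_mul_cancel_right] at h2

end K2

end Line

open Line in
/-- The action on the projective line and the signs of the tori. -/
theorem exists_line {C : Type u} [Group C] [Finite C] (L : Local C) (hL : L.Spec) (K2 : Subgroup C)
    (k2S : K2 ≤ (L.S : Subgroup C)) (k2 : K2.relIndex (L.S : Subgroup C) = 2) (xK2 : L.x ∉ K2)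
    {p : ℕ} [Fact p.Prime] (hp : p ≠ 2) (n : ℕ) (hn : 1 ≤ n) (F : Type v) [Field F] [Fintype F]
    (hF : Fintype.card F = p ^ n) (N : Subgroup (C ⧸ oddCore C)) [N.Normal]
    (e : N ≃* Matrix.SpecialLinearGroup (Fin 2) F)
    (hQZ : ((L.S : Subgroup C) ⊓ N.comap (QuotientGroup.mk' (oddCore C))) ⊔ L.Z = K2)
    (hexact : 2 ^ padicValNat 2 ((p ^ n) ^ 2 - 1) * Nat.card L.Z = Nat.card (L.S : Subgroup C)) :
    ∃ (Ω : Type u) (_ : MulAction C Ω) (σ : Bool → ℤ), (∀ o ∈ oddCore C, ∀ a : Ω, o • a = a) ∧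
      (∀ u ∈ L.Z, ∀ a : Ω, u • a = a) ∧ Nat.card Ω = p ^ n + 1 ∧
      (∀ a b c e : Ω, a ≠ b → c ≠ e → ∃ g : C, g • a = c ∧ g • b = e) ∧ (∀ i, σ i = 1 ∨ σ i = -1) ∧
      σ false = -σ true ∧
      ∀ i, ∀ t ∈ L.T i, t ∉ L.Z → (Nat.card (MulAction.fixedBy Ω t) : ℤ) = 1 + σ i := by
  classical
  haveI : Fact (Nat.Prime 2) := ⟨Nat.prime_two⟩
  have hn0 : n ≠ 0 := by omega
  have hodd : Odd (Fintype.card F) := by
    rw [hF]; exact ((Fact.out : p.Prime).odd_of_ne_two hp).pow
  letI : MulAction C (Sylow p N) := MulAction.compHom _ (act N)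
  obtain ⟨e₀, he₀, he₀Z⟩ := hL.zne (!L.b)
  have hh := h_two hL
  set r := L.x ^ L.h with hr
  have hfix : ∀ i, ∀ t ∈ L.T i, t ∉ L.Z → fx N p t = if i = L.b then fx N p r else fx N p e₀ := by
    intro i t ht htZ
    rcases Bool.eq_or_eq_not i L.b with rfl | rfl
    · rw [if_pos rfl]; exact fx_rot hL hF hn0 hodd e ht htZ
    · rw [if_neg (by cases L.b <;> simp)]
      rcases nb_decomp hL he₀ he₀Z ht with h | h
      · exact absurd h htZ
      · exact fx_act (by rw [show t = e₀ * (e₀⁻¹ * t) by group, map_mul, act_z hL h, mul_one])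
  have he₀S := hL.tle _ he₀
  have hB := fx_cases hL hF hn0 hodd e (hL.tle _ (pow_mem hL.xmem L.h)) (r_not_mem hL hF hn0 hodd e)
  have hE := fx_cases hL hF hn0 hodd e he₀S he₀Z
  rw [← hr] at hB
  -- the orbit count on the Sylow subgroup
  have hsum : fx N p r + fx N p e₀ = 2 := by
    haveI := Fintype.ofFinite (L.S : Subgroup C)
    haveI := Fintype.ofFinite (Sylow p N)
    set K := K2.subgroupOf (L.S : Subgroup C) with hK
    set T := (L.T L.b).subgroupOf (L.S : Subgroup C) with hT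
    set Z := L.Z.subgroupOf (L.S : Subgroup C) with hZ
    let B : ℤ := fx N p r
    let E : ℤ := fx N p e₀
    let A : ℤ := Fintype.card F + 1
    let D : ℤ := if Fintype.card F % 4 = 3 then 0 else 2
    have hf : ∀ s : (L.S : Subgroup C), (fx N p (s : C) : ℤ) = E + (D - E) * (if s ∈ K then 1 else 0) +
        (B - E) * (if s ∈ T then 1 else 0) + (E - D) * (if s ∈ K ⊓ T then 1 else 0) +
        (A - B) * (if s ∈ Z then 1 else 0) := by
      intro s
      by_cases hsZ : s ∈ Z
      · have hsT : s ∈ T := hL.zle _ hsZ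
        have hsK : s ∈ K := (hQZ ▸ mem_sup_right hsZ : (s : C) ∈ K2)
        rw [if_pos hsK, if_pos hsT, if_pos ⟨hsK, hsT⟩, if_pos hsZ, fx_one (t := (s : C)) hL hF hn0 hodd e (act_z (u := (s : C)) hL hsZ)]
        push_cast
        simp only [A]
        ring
      have hsZ' : (s : C) ∉ L.Z := hsZ
      by_cases hsT : s ∈ T
      · rw [fx_rot (t := (s : C)) hL hF hn0 hodd e hsT hsZ', if_pos hsT, if_neg hsZ]
        by_cases hsK : s ∈ K
        · rw [if_pos hsK, if_pos ⟨hsK, hsT⟩]; simp only [B, r]; ring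
        · rw [if_neg hsK, if_neg fun h => hsK (Subgroup.mem_inf.mp h).1]; simp only [B, r]; ring
      · rw [if_neg hsT, if_neg fun h => hsT (Subgroup.mem_inf.mp h).2, if_neg hsZ]
        by_cases hsK : s ∈ K
        · rw [if_pos hsK, fx_inside (s := (s : C)) hL hF hn0 hodd e hQZ s.2 hsT hsK]
          simp only [D]
          push_cast
          ring
        · rw [if_neg hsK, fx_outside (s := (s : C)) hL hF hn0 hodd e hQZ k2S k2 he₀ he₀Z s.2 hsT hsK]
          simp only [E]
          ring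
    have hind : ∀ H : Subgroup (L.S : Subgroup C),
        (∑ s : (L.S : Subgroup C), (if s ∈ H then (1 : ℤ) else 0)) = Nat.card H := by
      intro H
      rw [Finset.sum_boole, Nat.card_eq_fintype_card, Fintype.card_subtype]
    have hcZ : Nat.card Z = Nat.card L.Z :=
      Nat.card_congr (subgroupOfEquivOfLe ((hL.zle L.b).trans (hL.tle _))).toEquiv
    have hcT : Nat.card T = 2 * L.h * Nat.card L.Z :=
      (Nat.card_congr (subgroupOfEquivOfLe (hL.tle _)).toEquiv).trans hL.cardb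
    have hcS : Nat.card (L.S : Subgroup C) = 4 * L.h * Nat.card L.Z := hL.card
    have hKi : K.index = 2 := k2
    have hcK : Nat.card K = 2 * L.h * Nat.card L.Z := by
      have h := K.card_mul_index
      rw [hKi, hcS] at h
      linarith
    haveI : K.Normal := normal_of_index_eq_two hKi
    have hKT : K.relIndex T = 2 := by
      have h := hKi ▸ relIndex_dvd_index_of_normal K T
      refine ((Nat.dvd_prime Nat.prime_two).mp h).resolve_left fun h1 => xK2 ?_
      exact (relIndex_eq_one.mp h1) (show (⟨L.x, hL.tle _ hL.xmem⟩ : (L.S : Subgroup C)) ∈ T from hL.xmem)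
    have hcKT : Nat.card (K ⊓ T : Subgroup (L.S : Subgroup C)) = L.h * Nat.card L.Z := by
      have h := ((K ⊓ T).subgroupOf T).card_mul_index
      rw [Nat.card_congr (subgroupOfEquivOfLe inf_le_right).toEquiv, ← relIndex, inf_relIndex_right, hKT,
        hcT] at h
      linarith
    have hburn : ∃ o : ℕ, (∑ s : (L.S : Subgroup C), (fx N p (s : C) : ℤ)) = o * Nat.card (L.S : Subgroup C) := by
      haveI := Fintype.ofFinite (MulAction.orbitRel.Quotient (L.S : Subgroup C) (Sylow p N))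
      refine ⟨Fintype.card (MulAction.orbitRel.Quotient (L.S : Subgroup C) (Sylow p N)), ?_⟩
      rw [Nat.card_eq_fintype_card, ← Nat.cast_mul,
        ← MulAction.sum_card_fixedBy_eq_card_orbits_mul_card_group, Nat.cast_sum]
      exact Finset.sum_congr rfl fun s _ => by rw [← Nat.card_eq_fintype_card]; rfl
    obtain ⟨o, ho⟩ := hburn
    rw [Finset.sum_congr rfl fun s _ => hf s] at ho
    simp only [Finset.sum_add_distrib, ← Finset.mul_sum, hind, Finset.sum_const, Finset.card_univ,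
      nsmul_eq_mul] at ho
    rw [← Nat.card_eq_fintype_card, hcZ, hcT, hcK, hcKT, hcS] at ho
    have hzpos : (Nat.card L.Z : ℤ) ≠ 0 := by exact_mod_cast (Nat.card_pos (α := L.Z)).ne'
    have heq : (L.h : ℤ) * (E + D + 2 * B) + A - B = 4 * L.h * o := by
      refine mul_right_cancel₀ hzpos ?_
      push_cast at ho ⊢
      linear_combination ho
    -- the exact power of two
    obtain ⟨a, ha⟩ := hL.hpow
    set v := padicValNat 2 ((p ^ n) ^ 2 - 1) with hv
    have hv2 : 2 ^ v = 4 * L.h := by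
      rw [hcS] at hexact
      exact Nat.eq_of_mul_eq_mul_right Nat.card_pos hexact
    have hq0 : (p ^ n) ^ 2 - 1 ≠ 0 := by
      have h3 := two_lt_card hL hF hn0 hodd e
      rw [hF] at h3
      have : 2 ^ 2 ≤ (p ^ n) ^ 2 := Nat.pow_le_pow_left h3.le 2
      omega
    have hd1 : 4 * L.h ∣ Fintype.card F ^ 2 - 1 := by rw [← hv2, hF, hv]; exact pow_padicValNat_dvd
    have hd2 : ¬ 8 * L.h ∣ Fintype.card F ^ 2 - 1 := by
      rw [show 8 * L.h = 2 ^ (v + 1) by rw [pow_succ, hv2]; ring, hF, hv]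
      exact pow_succ_padicValNat_not_dvd hq0
    -- `q ∓ 1 = 2 h l` with `l` odd
    have hl : ∀ k : ℕ, Fintype.card F ^ 2 - 1 = 8 * (k * (2 * k + 1)) ∨
        Fintype.card F ^ 2 - 1 = 8 * (k * (2 * k - 1)) ∧ 1 ≤ k → ∃ l, 2 * k = L.h * (2 * l + 1) := by
      intro k hk
      obtain ⟨w, hw, hwodd⟩ : ∃ w, Fintype.card F ^ 2 - 1 = 8 * (k * w) ∧ Odd w := by
        rcases hk with h | ⟨h, h1⟩
        · exact ⟨_, h, odd_two_mul_add_one k⟩
        · exact ⟨_, h, ⟨k - 1, by omega⟩⟩
      rw [hw] at hd1 hd2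
      have h1 : L.h ∣ 2 * k := by
        refine (Nat.Coprime.dvd_of_dvd_mul_right ?_
          ((Nat.mul_dvd_mul_iff_left (show 0 < 4 by norm_num)).mp
            (show 4 * L.h ∣ 4 * (2 * k * w) by convert hd1 using 1; ring)))
        rw [ha]; exact (Nat.coprime_two_left.mpr hwodd).pow_left _
      obtain ⟨m, hm⟩ := h1
      rcases Nat.even_or_odd' m with ⟨l, rfl | rfl⟩
      · exact absurd ⟨l * w, by rw [show k = L.h * l by linarith]; ring⟩ hd2
      · exact ⟨l, hm⟩
    have hB' : B = 0 ∨ B = 2 := by simp only [B]; omega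
    have hE' : E = 0 ∨ E = 2 := by simp only [E]; omega
    suffices B + E = 2 by simp only [B, E] at this; omega
    have hhZ : (2 : ℤ) ≤ L.h := by exact_mod_cast hh
    have small : ∀ X c : ℤ, (L.h : ℤ) * X = c → c = 0 ∧ X = 0 ∨ c ≠ 0 ∧ (L.h : ℤ) ∣ c := fun X c h => by
      rcases eq_or_ne c 0 with rfl | hc
      · exact Or.inl ⟨rfl, (mul_eq_zero.mp h).resolve_left (by omega)⟩
      · exact Or.inr ⟨hc, X, h.symm⟩
    obtain ⟨k, hk | hk⟩ : ∃ k, Fintype.card F = 4 * k + 1 ∨ Fintype.card F = 4 * k + 3 :=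
      ⟨Fintype.card F / 4, by obtain ⟨j, hj⟩ := hodd; omega⟩
    · obtain ⟨l, hkl⟩ := hl k (Or.inl (by
        rw [hk, show (4 * k + 1) ^ 2 = 8 * (k * (2 * k + 1)) + 1 by ring, Nat.add_sub_cancel]))
      have hD : D = 2 := if_neg (by omega)
      have hA : A = 2 * ((L.h : ℤ) * (2 * l + 1)) + 2 := by
        simp only [A, hk]; push_cast
        have : (2 * k : ℤ) = L.h * (2 * l + 1) := by exact_mod_cast hkl
        linear_combination 2 * this
      rw [hD, hA] at heq
      rcases small (E + 2 + 2 * B + 2 * (2 * l + 1) - 4 * o) (B - 2) (by linear_combination heq) with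
        ⟨h1, h2⟩ | ⟨h1, h2⟩
      · omega
      · have h2' : (L.h : ℤ) ∣ 2 - B := by rw [← neg_sub B 2]; exact dvd_neg.mpr h2
        have h3 := Int.le_of_dvd (by omega) h2'
        have h4 : (L.h : ℤ) = 2 := by omega
        rw [h4] at heq
        omega
    · obtain ⟨l, hkl⟩ := hl (k + 1) (Or.inr ⟨by
        rw [hk, show (4 * k + 3) ^ 2 = 8 * ((k + 1) * (2 * k + 1)) + 1 by ring, Nat.add_sub_cancel]
        congr 2, by omega⟩)
      have hD : D = 0 := if_pos (by omega)
      have hA : A = 2 * ((L.h : ℤ) * (2 * l + 1)) := by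
        simp only [A, hk]; push_cast
        have : (2 * (k + 1) : ℤ) = L.h * (2 * l + 1) := by exact_mod_cast hkl
        linear_combination 2 * this
      rw [hD, hA] at heq
      rcases small (E + 2 * B + 2 * (2 * l + 1) - 4 * o) B (by linear_combination heq) with
        ⟨h1, h2⟩ | ⟨h1, h2⟩
      · omega
      · have h3 := Int.le_of_dvd (by omega : (0 : ℤ) < B) h2
        have h4 : (L.h : ℤ) = 2 := by omega
        rw [h4] at heq
        omega
  refine ⟨Sylow p N, inferInstance, fun i => (if i = L.b then (fx N p r : ℤ) else fx N p e₀) - 1, ?_, ?_, ?_, ?_,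
    ?_, ?_, ?_⟩
  · intro o ho P
    show act N o • P = P
    rw [act_odd ho, one_smul]
  · intro u hu P
    show act N u • P = P
    rw [act_z hL hu, one_smul]
  · rw [card_line hL hF hn0 hodd e, hF]
  · intro a b c d hab hcd
    obtain ⟨g₁, h1, h2⟩ := exists_map_pair e hF hn0 hab
    obtain ⟨g₂, h3, h4⟩ := exists_map_pair e hF hn0 hcd
    obtain ⟨x, hx⟩ := QuotientGroup.mk_surjective ((g₂ * g₁⁻¹ : N) : C ⧸ oddCore C)
    have hact : ∀ P : Sylow p N, act N x • P = (g₂ * g₁⁻¹) • P := fun P => by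
      rw [act_conj (c := x) (by rw [hx]; exact (g₂ * g₁⁻¹).2), show (⟨(x : C ⧸ oddCore C), _⟩ : N) = g₂ * g₁⁻¹ from
        Subtype.ext hx]
      rfl
    refine ⟨x, ?_, ?_⟩
    · show act N x • a = c
      rw [hact, ← h1, mul_smul, inv_smul_smul, h3]
    · show act N x • b = d
      rw [hact, ← h2, mul_smul, inv_smul_smul, h4]
  · intro i
    cases i <;> cases L.b <;> simp <;> omega
  · cases L.b <;> simp <;> omega
  · intro i t ht htZ
    show (fx N p t : ℤ) = _
    rw [hfix i t ht htZ]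
    by_cases h : i = L.b <;> simp [h]

end CfsgLib.BrauerOrder
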