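import Cfsg.Agent.Lib.BrauerOrder.TwoBasic
import Cfsg.Agent.Lib.SLCard
import Cfsg.Agent.S0261
import Cfsg.Agent.S0268
import Mathlib.NumberTheory.Padics.PadicVal.Basic
import Mathlib.GroupTheory.Perm.Sign

/-!
# The Sylow subgroup of the normal `SL₂(q)` and the linear character `lam`

`sylow_part` locates the Sylow `2`-subgroup of the normal `SL₂(q)` of `C/O(C)` in `S`; `exists_lam` gives the
linear character of order two which restricts to the sign of `K2`.
-/

set_option autoImplicit false

namespace CfsgLib.BrauerOrder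

open Cfsg

universe u v

variable {C : Type u} [Group C] [Finite C] {F : Type v} [Field F] [Fintype F]

/-- A Sylow subgroup meets a normal subgroup in a Sylow subgroup of it, here for the preimage of `SL₂(q)`. -/
theorem sylow_part (L : Local C) (hL : L.Spec) (hodd : Odd (Fintype.card F))
    (N : Subgroup (C ⧸ oddCore C)) [N.Normal] (e : N ≃* Matrix.SpecialLinearGroup (Fin 2) F) :
    let Q := (L.S : Subgroup C) ⊓ N.comap (QuotientGroup.mk' (oddCore C))
    (∀ s ∈ (L.S : Subgroup C), ∀ q ∈ Q, s * q * s⁻¹ ∈ Q) ∧ (∃ a ∈ Q, ∃ b ∈ Q, a * b ≠ b * a) ∧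
      (∀ a ∈ Q, ∀ b ∈ Q, a * a = 1 → b * b = 1 → a ≠ 1 → b ≠ 1 → a = b) ∧
      Nat.card Q = 2 ^ padicValNat 2 (Fintype.card F ^ 2 - 1) := by
  intro Q
  haveI : Fact (Nat.Prime 2) := ⟨Nat.prime_two⟩
  set O := oddCore C with hO
  set M := N.comap (QuotientGroup.mk' O) with hM
  -- the map to `SL₂`
  let f : Q →* Matrix.SpecialLinearGroup (Fin 2) F :=
    { toFun := fun s => e ⟨QuotientGroup.mk' O (s : C), s.2.2⟩
      map_one' := by
        rw [← map_one e]
        exact congrArg e (Subtype.ext (map_one (QuotientGroup.mk' O)))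
      map_mul' := fun a b => by
        rw [← map_mul e]
        exact congrArg e (Subtype.ext (map_mul (QuotientGroup.mk' O) (a : C) b)) }
  have hf : Function.Injective f := by
    rw [injective_iff_map_eq_one]
    intro s hs
    have h1 : QuotientGroup.mk' O (s : C) = 1 :=
      congrArg Subtype.val (e.injective (hs.trans (map_one e).symm))
    exact Subtype.ext (eq_one_of_mem_oddCore hL s.2.1 ((QuotientGroup.eq_one_iff _).mp h1))
  -- the image is a Sylow subgroup
  have hQ2 : IsPGroup 2 Q := L.S.2.to_le inf_le_left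
  have hrange : IsPGroup 2 f.range := hQ2.of_surjective f.rangeRestrict f.rangeRestrict_surjective
  obtain ⟨P, hP⟩ := hrange.exists_le_sylow
  have hcard : Nat.card Q = Nat.card (P : Subgroup (Matrix.SpecialLinearGroup (Fin 2) F)) := by
    refine le_antisymm ?_ ?_
    · rw [Nat.card_congr (MonoidHom.ofInjective hf).toEquiv]
      exact Subgroup.card_le_of_le hP
    -- a 2-subgroup of `M` covering `P`, moved into `S`
    let π : M →* Matrix.SpecialLinearGroup (Fin 2) F :=
      { toFun := fun s => e ⟨QuotientGroup.mk' O (s : C), s.2⟩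
        map_one' := by
          rw [← map_one e]
          exact congrArg e (Subtype.ext (map_one (QuotientGroup.mk' O)))
        map_mul' := fun a b => by
          rw [← map_mul e]
          exact congrArg e (Subtype.ext (map_mul (QuotientGroup.mk' O) (a : C) b)) }
    have hπ : Function.Surjective π := fun y => by
      obtain ⟨c, hc⟩ := QuotientGroup.mk'_surjective O (e.symm y : C ⧸ O)
      refine ⟨⟨c, by rw [hM, Subgroup.mem_comap, hc]; exact (e.symm y).2⟩, ?_⟩
      exact (congrArg e (Subtype.ext hc)).trans (e.apply_symm_apply y)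
    let R₀ : Sylow 2 M := default
    let R := ((R₀ : Subgroup M)).map M.subtype
    have hR2 : IsPGroup 2 R := R₀.2.map _
    obtain ⟨T, hT⟩ := hR2.exists_le_sylow
    obtain ⟨g, hg⟩ := MulAction.exists_smul_eq C T L.S
    have hRQ : R.map (MulAut.conj g).toMonoidHom ≤ Q := by
      rintro _ ⟨r, hr, rfl⟩
      refine ⟨?_, ?_⟩
      · rw [← hg]
        exact Subgroup.smul_mem_pointwise_smul r (MulAut.conj g) _ (hT hr)
      · obtain ⟨r', -, rfl⟩ := hr
        exact (inferInstance : M.Normal).conj_mem _ r'.2 g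
    have h2 : Nat.card (P : Subgroup (Matrix.SpecialLinearGroup (Fin 2) F)) ≤ Nat.card (R₀ : Subgroup M) := by
      rw [← Nat.card_congr ((R₀.mapSurjective hπ).equiv P).toEquiv, Sylow.coe_mapSurjective]
      exact Nat.le_of_dvd Nat.card_pos (Subgroup.card_map_dvd _ _)
    refine h2.trans (le_trans (le_of_eq ?_) (Subgroup.card_le_of_le hRQ))
    rw [Subgroup.card_map_of_injective (MulAut.conj g).injective,
      Subgroup.card_map_of_injective M.subtype_injective]
  have hPr : f.range = (P : Subgroup (Matrix.SpecialLinearGroup (Fin 2) F)) :=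
    Subgroup.eq_of_le_of_card_ge hP (by rw [← Nat.card_congr (MonoidHom.ofInjective hf).toEquiv, hcard])
  refine ⟨fun s (hs : s ∈ (L.S : Subgroup C)) q hq => ⟨(L.S : Subgroup C).mul_mem ((L.S : Subgroup C).mul_mem hs (hq.1 : q ∈ (L.S : Subgroup C))) ((L.S : Subgroup C).inv_mem hs), (inferInstance : M.Normal).conj_mem q hq.2 s⟩,
    ?_, ?_, ?_⟩
  · obtain ⟨k, hk, ⟨eP⟩⟩ := Cfsg.Agent.S0261.result hodd P
    obtain ⟨a, ha⟩ : (eP.symm (QuaternionGroup.a 1) : Matrix.SpecialLinearGroup (Fin 2) F) ∈ f.range := by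
      rw [hPr]; exact (eP.symm _).2
    obtain ⟨b, hb⟩ : (eP.symm (QuaternionGroup.xa 0) : Matrix.SpecialLinearGroup (Fin 2) F) ∈ f.range := by
      rw [hPr]; exact (eP.symm _).2
    refine ⟨a, a.2, b, b.2, fun h => ?_⟩
    have h1 : f (a * b) = f (b * a) := congrArg f (Subtype.ext h)
    rw [map_mul, map_mul, ha, hb, ← Subgroup.coe_mul, ← Subgroup.coe_mul, ← map_mul, ← map_mul] at h1
    have h2 := eP.symm.injective (Subtype.ext h1)
    simp only [QuaternionGroup.a_mul_xa, QuaternionGroup.xa_mul_a, QuaternionGroup.xa.injEq] at h2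
    have h3 : ((2 : ℕ) : ZMod (2 * 2 ^ k)) = 0 := by
      push_cast
      linear_combination -h2
    rw [ZMod.natCast_eq_zero_iff] at h3
    have := Nat.le_of_dvd two_pos h3
    have : 2 ≤ 2 ^ k := Nat.le_self_pow (by omega) 2
    omega
  · intro a ha b hb h1 h2 h3 h4
    have key : ∀ c : Q, (c : C) * c = 1 → (c : C) ≠ 1 →
        (f c : Matrix (Fin 2) (Fin 2) F) = -1 := fun c hc hc1 =>
      Cfsg.Agent.S0268.result hodd _ (fun e1 => hc1 (congrArg Subtype.val (hf (e1.trans (map_one f).symm))))
        (by rw [← map_mul, show c * c = 1 from Subtype.ext hc, map_one])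
    have h5 : f ⟨a, ha⟩ = f ⟨b, hb⟩ := Subtype.ext ((key ⟨a, ha⟩ h1 h3).trans (key ⟨b, hb⟩ h2 h4).symm)
    exact congrArg Subtype.val (hf h5)
  · have hq : 2 ≤ Fintype.card F := Fintype.one_lt_card
    rw [hcard, P.card_eq_multiplicity, CfsgLib.SLCard.card_SL_two, Nat.factorization_def _ Nat.prime_two]
    congr 1
    have h4 : 4 ≤ Fintype.card F ^ 2 := by
      calc 4 = 2 ^ 2 := rfl
        _ ≤ _ := Nat.pow_le_pow_left hq 2
    rw [padicValNat.mul (by omega) (by omega), padicValNat.eq_zero_of_not_dvd, zero_add]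
    obtain ⟨r, hr⟩ := hodd
    omega

open Classical in
/-- The sign character of `K2` extends to the group. -/
theorem exists_lam (L : Local C) (hL : L.Spec) (K2 : Subgroup C) (k2 : K2.relIndex (L.S : Subgroup C) = 2)
    (N : Subgroup (C ⧸ oddCore C)) [N.Normal]
    (hQZ : ((L.S : Subgroup C) ⊓ N.comap (QuotientGroup.mk' (oddCore C))) ⊔ L.Z = K2) :
    ∃ lam : C →* ℂˣ, (∀ c, lam c * lam c = 1) ∧
      ∀ s ∈ (L.S : Subgroup C), lam s = if s ∈ K2 then 1 else -1 := by
  haveI : Fact (Nat.Prime 2) := ⟨Nat.prime_two⟩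
  set O := oddCore C with hO
  set M := N.comap (QuotientGroup.mk' O) with hM
  have hOM : O ≤ M := fun o ho => by
    rw [hM, Subgroup.mem_comap, QuotientGroup.mk'_apply, (QuotientGroup.eq_one_iff o).mpr ho]
    exact one_mem N
  haveI hZO : (L.Z ⊔ O).Normal := by
    refine ⟨fun w hw g => ?_⟩
    obtain ⟨u, hu, o, ho, rfl⟩ := Subgroup.mem_sup_of_normal_right.mp hw
    rw [show g * (u * o) * g⁻¹ = g * u * g⁻¹ * u⁻¹ * (u * (g * o * g⁻¹)) by group]
    exact mul_mem (Subgroup.mem_sup_right (hL.zcent u hu g))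
      (Subgroup.mul_mem_sup hu ((inferInstance : O.Normal).conj_mem o ho g))
  set R := M ⊔ (L.Z ⊔ O) with hR
  -- the quotient has a Sylow subgroup of order two, the image of `S`
  have hRS : ∀ s ∈ (L.S : Subgroup C), s ∈ R ↔ s ∈ K2 := by
    intro s hs
    constructor
    · intro h
      have hR' : R = M ⊔ L.Z := by
        rw [hR, sup_comm L.Z O, ← sup_assoc, sup_eq_left.mpr hOM]
      rw [hR'] at h
      obtain ⟨a, ha, u, hu, rfl⟩ := Subgroup.mem_sup_of_normal_left.mp h
      rw [← hQZ]
      refine Subgroup.mul_mem_sup ⟨?_, ha⟩ hu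
      have := mul_mem hs (inv_mem (hL.tle false (hL.zle false hu)))
      rwa [mul_inv_cancel_right] at this
    · intro h
      rw [← hQZ] at h
      refine (sup_le ?_ ?_ : _ ≤ R) h
      · exact inf_le_right.trans le_sup_left
      · exact le_sup_left.trans le_sup_right
  let π := QuotientGroup.mk' R
  let P : Sylow 2 (C ⧸ R) := L.S.mapSurjective (QuotientGroup.mk'_surjective R)
  have hPc : Nat.card (P : Subgroup (C ⧸ R)) = 2 := by
    rw [Sylow.coe_mapSurjective, show (L.S : Subgroup C).map π = (π.comp (L.S : Subgroup C).subtype).range by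
        rw [MonoidHom.range_comp, Subgroup.range_subtype],
      ← Subgroup.index_ker, show (π.comp (L.S : Subgroup C).subtype).ker = K2.subgroupOf (L.S : Subgroup C) by
        ext s
        rw [MonoidHom.mem_ker, Subgroup.mem_subgroupOf]
        exact (QuotientGroup.eq_one_iff (s : C)).trans (hRS s s.2)]
    exact k2
  -- regular permutations
  set Y := C ⧸ R
  haveI := Fintype.ofFinite Y
  have hodd2 : ∀ y : Y, y * y = 1 → y ≠ 1 → Equiv.Perm.sign (MulAction.toPermHom Y Y y) = -1 := by
    intro y hy hy1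
    have hY : Nat.card Y = 2 * (P : Subgroup (C ⧸ R)).index := by
      rw [← (P : Subgroup (C ⧸ R)).card_mul_index, hPc]
    set σ := MulAction.toPermHom Y Y y with hσ
    have hap : ∀ a : Y, σ a = y * a := fun a => rfl
    have hσ2 : σ ^ 2 = 1 := Equiv.ext fun a => by
      rw [sq, Equiv.Perm.mul_apply, hap, hap, ← mul_assoc, hy, one_mul]
      rfl
    haveI : IsEmpty (Function.fixedPoints σ) := ⟨fun a => hy1 (mul_eq_right.mp ((hap a).symm.trans a.2))⟩
    rw [Equiv.Perm.sign_of_pow_two_eq_one hσ2, Fintype.card_eq_zero (α := Function.fixedPoints σ), Nat.sub_zero,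
      ← Nat.card_eq_fintype_card, hY, Nat.mul_div_cancel_left _ two_pos]
    refine Odd.neg_one_pow ?_
    rw [← Nat.not_even_iff_odd, even_iff_two_dvd]
    exact P.not_dvd_index
  let lam : C →* ℂˣ :=
    ((Units.map (Int.castRingHom ℂ).toMonoidHom).comp (Equiv.Perm.sign.comp (MulAction.toPermHom Y Y))).comp π
  refine ⟨lam, fun c => ?_, fun s hs => ?_⟩
  · show Units.map _ _ * Units.map _ _ = (1 : ℂˣ)
    rw [← map_mul, Int.units_mul_self, map_one]
  · split_ifs with h
    · show Units.map _ (Equiv.Perm.sign (MulAction.toPermHom Y Y (π s))) = (1 : ℂˣ)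
      rw [show π s = 1 from (QuotientGroup.eq_one_iff s).mpr ((hRS s hs).mpr h), map_one, map_one, map_one]
    · show Units.map _ (Equiv.Perm.sign (MulAction.toPermHom Y Y (π s))) = (-1 : ℂˣ)
      rw [hodd2 (π s) ?_ ?_]
      · ext
        simp
      · rw [← map_mul]
        refine (QuotientGroup.eq_one_iff _).mpr ((hRS _ (mul_mem hs hs)).mpr ?_)
        have := (Subgroup.mul_mem_iff_of_index_two (H := K2.subgroupOf (L.S : Subgroup C)) k2
          (a := ⟨s, hs⟩) (b := ⟨s, hs⟩)).mpr Iff.rfl
        simpa [Subgroup.mem_subgroupOf] using this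
      · exact fun e => h ((hRS s hs).mp ((QuotientGroup.eq_one_iff s).mp e))

end CfsgLib.BrauerOrder
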