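import Cfsg.Agent.Lib.BrauerOrder.TwoWreathed
import Cfsg.Agent.Lib.BrauerOrder.Quot
import Cfsg.Agent.Lib.BrauerOrder.Line

/-!
# The system of Brauer's order formula exists
-/

set_option autoImplicit false

namespace CfsgLib.BrauerOrder

open Cfsg

universe u v

/-- The local data, with the core as the odd core. -/
theorem exists_sys_core {G : Type u} [Group G] [Fintype G] [IsSimpleGroup G] (hG : ¬ IsMulCommutative G)
    (S : Sylow 2 G) (hS : IsQuasiDihedral (S : Subgroup G) ∨ IsWreathed (S : Subgroup G))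
    (z : G) [Fintype ↥(Subgroup.centralizer ({z} : Set G))] (hz : orderOf z = 2) (hzS : z ∈ S)
    (hzc : ∀ s ∈ (S : Subgroup G), s * z = z * s)
    (U : Subgroup G) (hUS : U ≤ S) (hU : IsKleinFour U)
    (hUn : IsWreathed (S : Subgroup G) → ∀ s ∈ (S : Subgroup G), ∀ t ∈ U, s * t * s⁻¹ ∈ U)
    {p : ℕ} [Fact p.Prime] (hp : p ≠ 2) (n : ℕ) (hn : 1 ≤ n) (F : Type v) [Field F] [Fintype F]
    (hF : Fintype.card F = p ^ n)
    (hL : ∃ N : Subgroup (↥(Subgroup.centralizer ({z} : Set G)) ⧸ oddCore ↥(Subgroup.centralizer ({z} : Set G))),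
      N.Normal ∧ Nonempty (↥N ≃* Matrix.SpecialLinearGroup (Fin 2) F)) :
    ∃ (Ω : Type u) (_ : MulAction ↥(Subgroup.centralizer ({z} : Set G)) Ω) (D : Sys G z),
      D.core.O = oddCore _ ∧ D.Spec Ω ∧ D.core.q = p ^ n ∧
        Nat.card ↥(Subgroup.centralizer (U : Set G)) =
          Nat.card ↥(Subgroup.centralizer ({(D.w : G), z} : Set G)) ∧
        padicValNat 2 (Nat.card G) = padicValNat 2 (Nat.card ↥(Subgroup.centralizer ({z} : Set G))) ∧
        (IsQuasiDihedral (S : Subgroup G) ∧ Nat.card D.core.Z = 2 ∨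
          IsWreathed (S : Subgroup G) ∧ 4 ≤ Nat.card D.core.Z) := by
  classical
  haveI : Fact (Nat.Prime 2) := ⟨Nat.prime_two⟩
  have hpr : p.Prime := Fact.out
  have hodd : Odd (Fintype.card F) := hF ▸ (hpr.odd_of_ne_two hp).pow
  obtain ⟨D₂, h2⟩ : ∃ D : TwoData z, D.Spec U S := by
    rcases hS with h | h
    · exact exists_twoData_qd hG S h z hz hzS hzc U hUS hU
    · exact exists_twoData_wreathed hG S h z hz hzS hzc U hUS hU (hUn h)
  set L := D₂.L with hLdef
  have hLs : L.Spec := h2.loc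
  obtain ⟨N, hN, ⟨e⟩⟩ := hL
  haveI := hN
  obtain ⟨hnorm, hnc, huniq, hcardQ⟩ := sylow_part L hLs hodd N e
  obtain ⟨hQZ, hQc⟩ := h2.quat _ inf_le_left hnorm hnc huniq
  obtain ⟨lam, hlam2, hlamS⟩ := exists_lam L hLs D₂.K2 h2.k2 N hQZ
  have hexact : 2 ^ padicValNat 2 ((p ^ n) ^ 2 - 1) * Nat.card L.Z =
      Nat.card (L.S : Subgroup ↥(Subgroup.centralizer ({z} : Set G))) := by
    rw [← hF, ← hcardQ]
    exact hQc
  obtain ⟨Ω, hΩ, σ, hO, hZ, hcard, htwo, hsgn, hsgne, hfix⟩ :=
    exists_line L hLs D₂.K2 h2.k2S h2.k2 h2.xK2 hp n hn F hF N e hQZ hexact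
  let core : Core ↥(Subgroup.centralizer ({z} : Set G)) :=
    { S := L.S, Z := L.Z, O := oddCore _, T := L.T, n := L.n, σ := σ, q := p ^ n }
  have hZK : L.Z ≤ D₂.K2 := hQZ ▸ le_sup_right
  have hone : ∀ u ∈ L.Z, lam u = 1 := fun u hu => by
    rw [hlamS u (hLs.tle false (hLs.zle false hu)), if_pos (hZK hu)]
  have hcore : core.Spec Ω :=
    { onorm := inferInstance
      oodd := CfsgLib.odd_card_oddCore
      otriv := hO
      zle := hLs.zle
      zne := hLs.zne
      tle := hLs.tle
      tcomm := hLs.tcomm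
      zS := hLs.zS
      zcent := hLs.zcent
      ztriv := hZ
      qlb := by
        show 3 ≤ p ^ n
        calc 3 ≤ p := by have := hpr.two_le; omega
          _ ≤ p ^ n := Nat.le_self_pow (by omega) p
      card := hcard
      two := htwo
      nmem := hLs.nmem
      nnorm := hLs.nnorm
      nsq := hLs.nsq
      nfix := hLs.nfix
      sgn := hsgn
      sgnne := hsgne
      fix := hfix
      cent := fun _ _ ht htZ => cent hLs ht htZ
      exh := hLs.exh
      uniq := fun _ _ ht htZ _ ht' ht'Z hc => uniq hLs ht htZ ht' ht'Z hc }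
  refine ⟨Ω, hΩ, { core := core, zc := D₂.zc, w := D₂.w, lam := lam, τ0 := D₂.τ0, θ := D₂.θ }, rfl, ?_, rfl,
    by rw [h2.cardC], ?_, ?_⟩
  · refine
      { core := hcore
        rot := ⟨L.b, L.x, L.h, ?_⟩
        zord := hz
        zcv := h2.zcv
        zcZ := h2.zcZ
        zonly := h2.zonly
        wT := h2.wT
        wZ := h2.wZ
        wsq := h2.wsq
        nw := h2.nw
        invU := h2.invU
        powN := h2.powN
        cardU := h2.cardU
        aut := h2.aut
        lamsq := hlam2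
        lamz := hone _ h2.zcZ
        lamU := ?_
        lamN := ?_
        tau0ne := h2.tau0ne
        tau0sq := h2.tau0sq
        tau0mul := ?_
        tau0line := h2.tau0line
        thne := h2.thne
        thfix := ?_
        extra := ?_ }
    · exact
        { hpow := hLs.hpow
          xmem := hLs.xmem
          xpow := hLs.xpow
          xlow := hLs.xlow
          card := hLs.card
          gen := hLs.gen
          inv := hLs.inv
          exact := hexact
          lamx := by rw [hlamS _ (hLs.tle _ hLs.xmem), if_neg h2.xK2]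
          lamZ := hone
          lamsq := hlam2 }
    · obtain ⟨t, ht, htK⟩ := h2.uK2
      exact ⟨t, ht, by rw [hlamS t (hLs.tle _ ht), if_neg htK]⟩
    · obtain ⟨t, ht, htK⟩ := h2.nK2
      exact ⟨t, ht, by rw [hlamS t (hLs.tle _ ht), if_neg htK]⟩
    · intro t
      exact (h2.tau0mul t).trans (hlamS _ (hLs.tle true t.2)).symm
    · intro μ hμ
      exact congrArg Units.val (h2.thfix μ hμ)
    · rcases h2.extra with h | ⟨μ, μ', hne, h1, h1', hsq, hsq'⟩
      · exact Or.inl h
      · have key : ∀ ν : ↥(L.T false) →* ℂˣ, ν * ν ≠ 1 → ν ≠ 1 ∧ ν ≠ lam.comp (L.T false).subtype := fun ν hν =>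
          ⟨fun h => hν (by rw [h]; exact MonoidHom.ext fun _ => one_mul _), fun h => hν (MonoidHom.ext fun t => by
            rw [MonoidHom.mul_apply, h, MonoidHom.one_apply]; exact hlam2 _)⟩
        exact Or.inr ⟨μ, μ', hne, h1, h1', (key μ hsq).1, (key μ' hsq').1, (key μ hsq).2, (key μ' hsq').2⟩
  · have hSC : (S : Subgroup G) ≤ Subgroup.centralizer ({z} : Set G) := fun s hs =>
      Subgroup.mem_centralizer_singleton_iff.mpr (hzc s hs)
    rw [← (Subgroup.centralizer ({z} : Set G)).card_mul_index,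
      padicValNat.mul Nat.card_pos.ne' Subgroup.index_ne_zero_of_finite,
      padicValNat.eq_zero_of_not_dvd (fun h => S.not_dvd_index (h.trans (Subgroup.index_dvd_of_le hSC))), add_zero]
  · rcases h2.shape with h | h
    · exact Or.inl h
    · exact Or.inr h

/-- The local data of a simple group with quasi-dihedral or wreathed Sylow `2`-subgroup and an involution
centraliser of `SL₂(q)` type. -/
theorem exists_sys {G : Type u} [Group G] [Fintype G] [IsSimpleGroup G] (hG : ¬ IsMulCommutative G)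
    (S : Sylow 2 G) (hS : IsQuasiDihedral (S : Subgroup G) ∨ IsWreathed (S : Subgroup G))
    (z : G) [Fintype ↥(Subgroup.centralizer ({z} : Set G))] (hz : orderOf z = 2) (hzS : z ∈ S)
    (hzc : ∀ s ∈ (S : Subgroup G), s * z = z * s)
    (U : Subgroup G) (hUS : U ≤ S) (hU : IsKleinFour U)
    (hUn : IsWreathed (S : Subgroup G) → ∀ s ∈ (S : Subgroup G), ∀ t ∈ U, s * t * s⁻¹ ∈ U)
    {p : ℕ} [Fact p.Prime] (hp : p ≠ 2) (n : ℕ) (hn : 1 ≤ n) (F : Type v) [Field F] [Fintype F]
    (hF : Fintype.card F = p ^ n)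
    (hL : ∃ N : Subgroup (↥(Subgroup.centralizer ({z} : Set G)) ⧸ oddCore ↥(Subgroup.centralizer ({z} : Set G))),
      N.Normal ∧ Nonempty (↥N ≃* Matrix.SpecialLinearGroup (Fin 2) F)) :
    ∃ (Ω : Type u) (_ : MulAction ↥(Subgroup.centralizer ({z} : Set G)) Ω) (D : Sys G z),
      D.Spec Ω ∧ D.core.q = p ^ n ∧
        Nat.card ↥(Subgroup.centralizer (U : Set G)) =
          Nat.card ↥(Subgroup.centralizer ({(D.w : G), z} : Set G)) ∧
        padicValNat 2 (Nat.card G) = padicValNat 2 (Nat.card ↥(Subgroup.centralizer ({z} : Set G))) ∧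
        (IsQuasiDihedral (S : Subgroup G) ∧ Nat.card D.core.Z = 2 ∨
          IsWreathed (S : Subgroup G) ∧ 4 ≤ Nat.card D.core.Z) := by
  obtain ⟨Ω, i, D, -, h⟩ := exists_sys_core hG S hS z hz hzS hzc U hUS hU hUn hp n hn F hF hL
  exact ⟨Ω, i, D, h⟩

end CfsgLib.BrauerOrder
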