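import Cfsg.Agent.Lib.BrauerOrder.Main
import Cfsg.Agent.Lib.BrauerOrder.Instance

/-!
# The order formula from the local hypotheses

* `formula_wreathed`: the formula for a wreathed Sylow subgroup; regularity is not needed.
* `vp_of_formula`: the formula gives the equality of the `p`-parts.
* `two_gap`: for a central part of order two the `2`-part of the four-group centraliser is smaller.
-/

set_option autoImplicit false
set_option linter.unusedSectionVars false
set_option linter.style.haveILetI false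

namespace CfsgLib.BrauerOrder

open Cfsg

universe u v

/-- A semidihedral group is not wreathed. -/
theorem not_qd_wreathed {S : Type u} [Group S] (hQ : IsQuasiDihedral S) (hW : IsWreathed S) : False := by
  obtain ⟨n, hn, hcard, X, -, hX, -, -⟩ := hQ
  obtain ⟨m, hm, hcard', x, y, w, hx, -, hdis, -, hwx⟩ := hW
  haveI : Finite S := Nat.finite_of_card_ne_zero (by rw [hcard]; positivity)
  set A := Subgroup.zpowers X
  have hA : A.index = 2 := by
    have h := A.card_mul_index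
    rw [Nat.card_zpowers, hX, hcard, pow_succ] at h
    exact Nat.eq_of_mul_eq_mul_left (by positivity) h
  haveI := Subgroup.normal_of_index_eq_two hA
  have hsq : ∀ a : S, a ^ 2 ∈ A := fun a => by rw [← hA]; exact Subgroup.pow_index_mem A a
  have hy : orderOf y = 2 ^ m := by
    rw [← hwx, orderOf_injective (MulAut.conj w).toMonoidHom (MulAut.conj w).injective x |>.symm] at *
    exact hx
  have hinv : ∀ {a : S}, orderOf a = 2 ^ m → a ^ 2 ^ (m - 1) ∈ A ∧ orderOf (a ^ 2 ^ (m - 1)) = 2 := by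
    intro a ha
    refine ⟨?_, ?_⟩
    · rw [show 2 ^ (m - 1) = 2 * 2 ^ (m - 2) by rw [← pow_succ']; congr 1; omega, pow_mul]
      exact pow_mem (hsq a) _
    · rw [orderOf_pow' _ (by positivity), ha, Nat.gcd_eq_right (Nat.pow_dvd_pow 2 (by omega)),
        Nat.pow_div (by omega) (by norm_num), show m - (m - 1) = 1 by omega, pow_one]
  obtain ⟨h1, o1⟩ := hinv hx
  obtain ⟨h2, o2⟩ := hinv hy
  obtain ⟨i, hi⟩ := (mem_powers_iff_mem_zpowers (x := X)).2 h1
  obtain ⟨j, hj⟩ := (mem_powers_iff_mem_zpowers (x := X)).2 h2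
  letI := Fintype.ofFinite S
  have e := invol_unique hi hj o1 o2
  have hb : x ^ 2 ^ (m - 1) ∈ Subgroup.zpowers x ⊓ Subgroup.zpowers y :=
    ⟨Subgroup.npow_mem_zpowers x _, e ▸ Subgroup.npow_mem_zpowers y _⟩
  rw [hdis, Subgroup.mem_bot] at hb
  rw [hb, orderOf_one] at o1
  omega

variable {G : Type u} [Group G] [Fintype G] {z : G} [Fintype (Cz z)] {Ω : Type v} [MulAction (Cz z) Ω]
  {D : Sys G z}

theorem formula_of_Spec [Finite Ω] [IsSimpleGroup G] (hD : D.Spec Ω) (h4 : 4 ≤ Nat.card D.core.Z) :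
    ∃ ε : ℤ, (ε = 1 ∨ ε = -1) ∧
      (Nat.card G : ℤ) * (Nat.card (Subgroup.centralizer ({(D.w : G), z} : Set G)) : ℤ) ^ 2 *
          ((D.core.q : ℤ) - ε) ^ 2 =
        (Nat.card (Cz z) : ℤ) ^ 3 * ((D.core.q : ℤ) ^ 2 - ε * (D.core.q : ℤ) + 1) := by
  have h := order_wreathed hD h4
  rw [Sys.Q] at h
  rcases hD.core.sgn true with e | e <;> rw [e] at h
  · exact ⟨-1, Or.inr rfl, by linear_combination h⟩
  · exact ⟨1, Or.inl rfl, by linear_combination h⟩

theorem vp_of_formula {p n g c u : ℕ} [hp : Fact p.Prime] (hn : 1 ≤ n) (hg : 0 < g) (hc : 0 < c)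
    (hu : 0 < u) {ε : ℤ} (hε : ε = 1 ∨ ε = -1)
    (h : (g : ℤ) * (u : ℤ) ^ 2 * ((p : ℤ) ^ n - ε) ^ 2 =
      (c : ℤ) ^ 3 * (((p : ℤ) ^ n) ^ 2 - ε * (p : ℤ) ^ n + 1)) :
    3 * padicValNat p c = padicValNat p g + 2 * padicValNat p u := by
  have hpd : (p : ℤ) ∣ (p : ℤ) ^ n := dvd_pow_self _ (by omega)
  have hn1 : ¬ (p : ℤ) ∣ 1 := fun hd => by
    have := hp.out.two_le
    have := Int.le_of_dvd one_pos hd
    omega
  have hA : ¬ (p : ℤ) ∣ (p : ℤ) ^ n - ε := fun hd => hn1 (by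
    rcases hε with e | e <;> rw [e] at hd
    · exact (dvd_sub_right hpd).1 hd
    · exact dvd_neg.1 ((dvd_sub_right hpd).1 hd))
  have hX : ¬ (p : ℤ) ∣ ((p : ℤ) ^ n) ^ 2 - ε * (p : ℤ) ^ n + 1 := fun hd => hn1 (by
    refine (dvd_add_right ?_).1 hd
    exact dvd_sub (dvd_pow hpd (by norm_num)) (hpd.mul_left ε))
  have hA0 : (p : ℤ) ^ n - ε ≠ 0 := fun e => hA (e ▸ dvd_zero _)
  have hX0 : ((p : ℤ) ^ n) ^ 2 - ε * (p : ℤ) ^ n + 1 ≠ 0 := fun e => hX (e ▸ dvd_zero _)
  have hg' : (g : ℤ) ≠ 0 := by omega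
  have hc' : (c : ℤ) ≠ 0 := by omega
  have hu' : (u : ℤ) ≠ 0 := by omega
  have h1 := congrArg (padicValInt p) h
  rw [padicValInt.mul (mul_ne_zero hg' (pow_ne_zero _ hu')) (pow_ne_zero _ hA0),
    padicValInt.mul hg' (pow_ne_zero _ hu'), padicValInt.mul (pow_ne_zero _ hc') hX0,
    padicValInt.eq_zero_of_not_dvd hX,
    padicValInt.eq_zero_of_not_dvd (fun hd => hA ((Nat.prime_iff_prime_int.1 hp.out).dvd_of_dvd_pow hd))] at h1
  have hpow : ∀ (x : ℕ) (k : ℕ), padicValInt p ((x : ℤ) ^ k) = k * padicValNat p x := fun x k => by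
    rw [← Nat.cast_pow, padicValInt.of_nat, padicValNat.pow]
  rw [hpow, hpow, padicValInt.of_nat] at h1
  omega

theorem two_gap (hD : D.Spec Ω) (h2 : Nat.card D.core.Z = 2) :
    padicValNat 2 (Nat.card (Subgroup.centralizer ({(D.w : G), z} : Set G))) <
      padicValNat 2 (Nat.card (Cz z)) := by
  haveI : Fact (Nat.Prime 2) := ⟨Nat.prime_two⟩
  obtain ⟨K, -, hK, hidx⟩ := hD.core.cent true D.w hD.wT hD.wZ
  obtain ⟨b, x, h, hr⟩ := hD.rot
  have hu : Nat.card (Subgroup.centralizer ({(D.w : G), z} : Set G)) = Nat.card K * 2 ^ 2 := by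
    rw [← card_cent_w, ← K.card_mul_index, hidx, hD.cardU, h2]
  obtain ⟨a, ha⟩ := hr.hpow
  have h16 : 2 ^ 4 ∣ Nat.card (Cz z) := by
    refine dvd_trans ?_ (Subgroup.card_subgroup_dvd_card (D.core.S : Subgroup (Cz z)))
    rw [hr.card, h2, ha]
    exact ⟨2 ^ a, by ring⟩
  have h4 := (padicValNat_dvd_iff_le Nat.card_pos.ne').1 h16
  rw [hu, padicValNat.mul Nat.card_pos.ne' (by norm_num), padicValNat.eq_zero_of_not_dvd hK,
    padicValNat.prime_pow]
  omega

end CfsgLib.BrauerOrder
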