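import Cfsg.Agent.Lib.BrauerOrder.GenSylow
import Cfsg.Agent.Lib.CharTheory.Brauer

/-!
# `R b τ` is a generalized character

Brauer's criterion.  An elementary subgroup is `P × Q` with `P` its 2-part; there `R` is the
restriction to `P` (generalized by the Sylow case) plus `s τ(p) (fix(q) - fix(1))` on the central
part `P₀` of `P`.  The average over `P` of the permutation character gives a generalized character
of `Q` equal to `(fix(q) - fix(1)) / |P : P₀|` up to a constant.
-/

set_option autoImplicit false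
set_option linter.unusedSectionVars false
set_option linter.style.haveILetI false

namespace CfsgLib.BrauerOrder

open Cfsg CfsgLib.CharTheory CfsgLib.Blocks.AbelianFree
open scoped ComplexConjugate

universe u v

variable {C : Type u} [Group C] [Fintype C] {Ω : Type v} [MulAction C Ω] [Finite Ω] {d : Core C}

/-- The average over one factor of a generalized character of a direct product. -/
theorem isGenChar_average {P Q : Type u} [Group P] [Fintype P] [Group Q] [Fintype Q]
    {θ : P × Q → ℂ} (hθ : IsGeneralizedCharacter (P × Q) θ) :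
    IsGeneralizedCharacter Q (fun q => (Nat.card P : ℂ)⁻¹ * ∑ p : P, θ (p, q)) := by
  classical
  have hcl := (isGenChar_iff_coeff_int.1 hθ).1
  refine isGenChar_iff_coeff_int.2 ⟨fun g k => ?_, fun ψ hψ => ?_⟩
  · refine congrArg ((Nat.card P : ℂ)⁻¹ * ·) (Finset.sum_congr rfl fun p _ => ?_)
    have := hcl (p, g) (1, k)
    simpa using this
  · obtain ⟨z, hz⟩ := classInner_genChar_int hθ
      (isGenChar_comp (isGenChar_of_char (isCharacter_of_irr hψ)) (MonoidHom.snd P Q))
    refine ⟨z, ?_⟩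
    rw [← hz, classInner, classInner, Fintype.sum_prod_type, Finset.sum_comm, Nat.card_prod,
      Nat.cast_mul, mul_inv, Finset.mul_sum, Finset.mul_sum]
    refine Finset.sum_congr rfl fun q _ => ?_
    simp only [MonoidHom.coe_snd, Finset.mul_sum, Finset.sum_mul]
    exact Finset.sum_congr rfl fun p _ => by ring

/-- The elements over the central part: their image in `C/O` is that of their representative. -/
theorem tau_ctype_mul (hd : d.Spec Ω) {p p' u u' : C} (_hu : u ∈ d.Z) (_hu' : u' ∈ d.Z)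
    (h : p * u⁻¹ ∈ d.O) (h' : p' * u'⁻¹ ∈ d.O) : p * p' * (u * u')⁻¹ ∈ d.O := by
  haveI := hd.onorm
  rw [show p * p' * (u * u')⁻¹ = p * (p' * u'⁻¹) * p⁻¹ * (p * u⁻¹) by group]
  exact mul_mem (hd.onorm.conj_mem _ h' p) h

/-- The values of `R` on a product of a 2-element and an odd element commuting with it. -/
theorem R_product (hd : d.Spec Ω) (b : Bool) (τ : ↥(d.T b) →* ℂˣ) {p w : C}
    (hp : ∃ k : ℕ, orderOf p = 2 ^ k) (hw : ¬ 2 ∣ orderOf w) (hc : Commute p w) :
    (∀ u ∈ d.Z, p * u⁻¹ ∈ d.O →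
      d.R Ω b τ (p * w) - d.R Ω b τ p = d.tv τ u * (d.σ b : ℂ) * (St Ω w - (d.q : ℂ)) ∧
      St Ω (p * w) = St Ω w) ∧
    ((∀ u ∈ d.Z, p * u⁻¹ ∉ d.O) →
      d.R Ω b τ (p * w) = d.R Ω b τ p ∧ St Ω (p * w) = St Ω p) := by
  have e1 : p2 (p * w) = p := p2_mul hp hc.symm hw
  have e2 : p2 p = p := by
    have := p2_mul hp (Commute.one_left p) (by simp)
    rwa [mul_one] at this
  constructor
  · intro u hu ho
    have htriv : ∀ a : Ω, p • a = a := fun a => by
      rw [show p = p * u⁻¹ * u by group, mul_smul, hd.ztriv u hu, hd.otriv _ ho]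
    have f1 : MulAction.fixedBy Ω (p * w) = MulAction.fixedBy Ω w := by
      ext a
      simp only [MulAction.mem_fixedBy, mul_smul, htriv]
    have f2 : St Ω p = (d.q : ℂ) := by
      have : MulAction.fixedBy Ω p = Set.univ := by ext a; simp [htriv a]
      rw [St, this, Nat.card_congr (Equiv.Set.univ Ω), hd.card]
      push_cast; ring
    refine ⟨?_, by simp only [St, f1]⟩
    rw [R_ctype hd b τ (g := p * w) hu (by rw [e1]; exact ho),
      R_ctype hd b τ (g := p) hu (by rw [e2]; exact ho), f2,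
      show St Ω (p * w) = St Ω w by simp only [St, f1]]
    ring
  · intro hno
    have hT : ∃ b', TType d b' p := by
      rcases types hd p with ⟨u, hu, ho⟩ | h | h
      · rw [e2] at ho; exact absurd ho (hno u hu)
      · exact ⟨false, h⟩
      · exact ⟨true, h⟩
    obtain ⟨b', h⟩ := hT
    have h' : TType d b' (p * w) := by
      obtain ⟨t, ht, hz, hcj⟩ := h
      exact ⟨t, ht, hz, by rw [e1]; rwa [e2] at hcj⟩
    refine ⟨?_, by rw [St_ttype hd h, St_ttype hd h']⟩
    by_cases hb : b' = b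
    · subst hb
      obtain ⟨t, ht, hz, hcj⟩ := h
      rw [e2] at hcj
      rw [R_ttype hd b' τ (g := p * w) ht hz (by rw [e1]; exact hcj),
        R_ttype hd b' τ (g := p) ht hz (by rw [e2]; exact hcj)]
    · have hb' : b' = !b := by cases b <;> cases b' <;> simp_all
      rw [R_other hd b τ (g := p * w) (hb' ▸ h'), R_other hd b τ (g := p) (hb' ▸ h)]

/-- `R b τ` is a generalized character. -/
theorem isGenChar_R (hd : d.Spec Ω) {lam : C →* ℂˣ} {b0 : Bool} {x : C} {h : ℕ}
    (hr : d.Rot lam b0 x h) (b : Bool) (τ : ↥(d.T b) →* ℂˣ) :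
    IsGeneralizedCharacter C (d.R Ω b τ) := by
  classical
  haveI : Fact (Nat.Prime 2) := ⟨Nat.prime_two⟩
  refine isGenChar_of_elementary (R_isClassFunction hd b τ) fun E r hrp hE => ?_
  obtain ⟨Q, ⟨k, hk, P, hP, hPQ⟩, hQc, -⟩ := exists_regular_part Nat.prime_two hrp hE
  have hcomm : ∀ (p : P) (q : Q), Commute (p : E) (q : E) := fun p q =>
    ((Subgroup.mem_centralizer_iff.1 (hPQ p.2)) _ q.2).symm
  have hQodd : ∀ q : Q, ¬ 2 ∣ orderOf ((q : E) : C) := by
    intro q h2
    rw [Subgroup.orderOf_coe, Subgroup.orderOf_coe] at h2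
    exact (Nat.prime_two.coprime_iff_not_dvd.1 hQc.symm) (h2.trans (orderOf_dvd_natCard q))
  have hPtwo : ∀ p : P, ∃ j : ℕ, orderOf ((p : E) : C) = 2 ^ j := by
    intro p
    obtain ⟨j, -, hj⟩ := (Nat.dvd_prime_pow Nat.prime_two).1 (hP ▸ orderOf_dvd_natCard p)
    exact ⟨j, by rw [Subgroup.orderOf_coe, Subgroup.orderOf_coe, hj]⟩
  have hinj : Function.Injective
      (MonoidHom.noncommCoprod P.subtype Q.subtype fun p q => hcomm p q) := by
    rw [← MonoidHom.ker_eq_bot_iff, eq_bot_iff]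
    rintro ⟨p, q⟩ hpq
    rw [MonoidHom.mem_ker] at hpq
    change (p : E) * (q : E) = 1 at hpq
    have hp1 : orderOf p ∣ Nat.card Q := by
      rw [← Subgroup.orderOf_coe, eq_inv_of_mul_eq_one_left hpq, orderOf_inv, Subgroup.orderOf_coe]
      exact orderOf_dvd_natCard q
    have hp2 : p = 1 := orderOf_eq_one_iff.1 (Nat.eq_one_of_dvd_coprimes
      ((hQc.pow_right k)) hp1 (hP ▸ orderOf_dvd_natCard p))
    subst hp2
    simp only [OneMemClass.coe_one, one_mul] at hpq
    exact Subgroup.mem_bot.2 (Prod.ext rfl (Subtype.ext hpq))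
  let φ : P × Q ≃* E := MulEquiv.ofBijective _ (hinj.bijective_of_nat_card_le (by
    rw [Nat.card_prod, hP, ← hk, Subgroup.index_mul_card]))
  suffices key : IsGeneralizedCharacter (P × Q)
      (fun e => d.R Ω b τ (((e.1 : E) : C) * ((e.2 : E) : C))) by
    have := isGenChar_comp key φ.symm.toMonoidHom
    convert this using 1
    funext e
    obtain ⟨⟨p, q⟩, rfl⟩ := φ.surjective e
    simp only [MulEquiv.coe_toMonoidHom, MulEquiv.symm_apply_apply]
    rfl
  set θ : P × Q → ℂ := fun e => d.R Ω b τ (((e.1 : E) : C) * ((e.2 : E) : C))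
  -- the restriction to `P`
  let jP : P →* C := E.subtype.comp P.subtype
  let jQ : Q →* C := E.subtype.comp Q.subtype
  have hRP : IsGeneralizedCharacter P (fun p => d.R Ω b τ (jP p)) := by
    have hp : IsPGroup 2 jP.range := (IsPGroup.of_card hP).of_surjective jP.rangeRestrict
      jP.rangeRestrict_surjective
    obtain ⟨T, hT⟩ := hp.exists_le_sylow
    obtain ⟨g, hg⟩ := MulAction.exists_smul_eq C T d.S
    have hmem : ∀ p : P, g * jP p * g⁻¹ ∈ (d.S : Subgroup C) := fun p => by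
      rw [← hg]
      exact Subgroup.smul_mem_pointwise_smul _ (MulAut.conj g) _ (hT ⟨p, rfl⟩)
    let f : P →* (d.S : Subgroup C) := ((MulAut.conj g).toMonoidHom.comp jP).codRestrict _ hmem
    have := isGenChar_comp (sylowGen hd hr b τ) f
    convert this using 1
    funext p
    exact (R_isClassFunction hd b τ (jP p) g).symm
  -- the central part of `P`
  haveI := hd.normal_N0
  set P0 : Subgroup P := d.N0.comap jP with hP0
  have hrep : ∀ p : P0, ∃ u ∈ d.Z, jP p * u⁻¹ ∈ d.O := by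
    intro p
    obtain ⟨u, hu, o, ho, e⟩ := hd.mem_N0.1 p.2
    exact ⟨u, hu, by rw [e]; exact hd.onorm.conj_mem o ho u⟩
  have hout : ∀ p : P, p ∉ P0 → ∀ u ∈ d.Z, jP p * u⁻¹ ∉ d.O := fun p hp u hu ho => hp (by
    show jP p ∈ d.N0
    rw [show jP p = jP p * u⁻¹ * u by group]
    exact mul_mem (Subgroup.mem_sup_right ho) (Subgroup.mem_sup_left hu))
  choose rep hrepZ hrepO using hrep
  let tw : P0 →* ℂˣ := MonoidHom.mk' (fun p => τ ⟨rep p, hd.zle b (hrepZ p)⟩) fun p p' => by
    rw [← map_mul]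
    refine congrArg τ (Subtype.ext (urep_unique hd (hrepZ _) (mul_mem (hrepZ p) (hrepZ p'))
      (hrepO _) ?_))
    exact tau_ctype_mul hd (hrepZ p) (hrepZ p') (hrepO p) (hrepO p')
  let F : P0 → ℂ := fun p => (tw p : ℂ)
  have hF : ∀ (p : P) (hp : p ∈ P0), indFun P0 F p = (P0.index : ℂ) * F ⟨p, hp⟩ := by
    intro p hp
    have hall : ∀ g : P, extendByZero P0 F (g⁻¹ * p * g) = F ⟨p, hp⟩ := by
      intro g
      haveI := hd.onorm
      have hm : g⁻¹ * p * g ∈ P0 := by
        show jP (g⁻¹ * p * g) ∈ d.N0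
        have := hd.normal_N0.conj_mem _ (show jP p ∈ d.N0 from hp) (jP g)⁻¹
        simpa using this
      rw [extendByZero_of_mem P0 F hm]
      show ((τ _ : ℂˣ) : ℂ) = ((τ _ : ℂˣ) : ℂ)
      refine congrArg _ (congrArg τ (Subtype.ext (urep_unique hd (hrepZ _) (hrepZ _) (hrepO _) ?_)))
      show jP (g⁻¹ * p * g) * (rep ⟨p, hp⟩)⁻¹ ∈ d.O
      have h1 := mul_mem (hd.onorm.conj_mem _ (hrepO ⟨p, hp⟩) (jP g)⁻¹)
        (hd.zcent _ (hrepZ ⟨p, hp⟩) (jP g)⁻¹)
      simpa [mul_assoc] using h1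
    have hne : (Nat.card P0 : ℂ) ≠ 0 := Nat.cast_ne_zero.2 Nat.card_pos.ne'
    simp only [indFun]
    rw [Finset.sum_congr rfl fun g _ => hall g, Finset.sum_const, Finset.card_univ, nsmul_eq_mul,
      ← Nat.card_eq_fintype_card, ← P0.index_mul_card, Nat.cast_mul]
    field_simp
  -- the average over `P`
  set A : Q → ℂ := fun q => (Nat.card P : ℂ)⁻¹ * ∑ p : P, St Ω (jP p * jQ q) with hA
  have hAgen : IsGeneralizedCharacter Q A := by
    refine isGenChar_average (θ := fun e : P × Q => St Ω (jP e.1 * jQ e.2)) ?_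
    exact isGenChar_St (MonoidHom.noncommCoprod jP jQ fun p q =>
      (hcomm p q).map E.subtype)
  have hpc : ∀ p q, Commute (jP p) (jQ q) := fun p q => (hcomm p q).map E.subtype
  have hAdiff : ∀ q : Q, (P0.index : ℂ) * (A q - A 1) = St Ω (jQ q) - (d.q : ℂ) := by
    intro q
    have hterm : ∀ p : P, St Ω (jP p * jQ q) - St Ω (jP p * jQ 1) =
        if p ∈ P0 then St Ω (jQ q) - (d.q : ℂ) else 0 := by
      intro p
      have h1 := R_product hd b τ (hPtwo p) (hQodd q) (hpc p q)
      have h2 := R_product hd b τ (hPtwo p) (hQodd 1) (hpc p 1)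
      split_ifs with hp
      · have e1 : St Ω (jQ (1 : Q)) = (d.q : ℂ) := by rw [map_one, St_one, hd.card]; push_cast; ring
        rw [← e1]
        exact congrArg₂ (· - ·) (h1.1 _ (hrepZ ⟨p, hp⟩) (hrepO ⟨p, hp⟩)).2
          (h2.1 _ (hrepZ ⟨p, hp⟩) (hrepO ⟨p, hp⟩)).2
      · rw [sub_eq_zero]
        exact (h1.2 (hout p hp)).2.trans (h2.2 (hout p hp)).2.symm
    simp only [hA]
    rw [← mul_sub, ← Finset.sum_sub_distrib, Finset.sum_congr rfl fun p _ => hterm p,
      ← Finset.sum_filter, Finset.sum_const, nsmul_eq_mul, ← Fintype.card_subtype,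
      ← Nat.card_eq_fintype_card]
    have hne : (Nat.card P0 : ℂ) ≠ 0 := Nat.cast_ne_zero.2 Nat.card_pos.ne'
    have hi : (P0.index : ℂ) ≠ 0 := Nat.cast_ne_zero.2 Subgroup.index_ne_zero_of_finite
    rw [show (Nat.card P : ℂ) = (P0.index : ℂ) * (Nat.card P0 : ℂ) by
      rw [← Nat.cast_mul, P0.index_mul_card]]
    field_simp
  obtain ⟨n, hn⟩ : ∃ n : ℤ, A 1 = (n : ℂ) := by
    obtain ⟨α, β, hα, hβ, e⟩ := hAgen
    refine ⟨(charDegree α : ℤ) - charDegree β, ?_⟩
    rw [e, Pi.sub_apply, ← CfsgLib.Blocks.charDegree_cast hα, ← CfsgLib.Blocks.charDegree_cast hβ]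
    push_cast
    rfl
  have e : θ = (fun e => d.R Ω b τ (jP ((MonoidHom.fst P Q) e))) +
      ((d.σ b : ℤ) : ℂ) • ((fun e => indFun P0 F ((MonoidHom.fst P Q) e)) *
        fun e => (A - (n : ℂ) • (fun _ => (1 : ℂ)) : Q → ℂ) ((MonoidHom.snd P Q) e)) := by
    funext ⟨p, q⟩
    simp only [Pi.add_apply, Pi.smul_apply, Pi.mul_apply, Pi.sub_apply, smul_eq_mul, mul_one,
      MonoidHom.coe_fst, MonoidHom.coe_snd]
    have h1 := R_product hd b τ (hPtwo p) (hQodd q) (hpc p q)
    by_cases hp : p ∈ P0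
    · have h2 := (h1.1 _ (hrepZ ⟨p, hp⟩) (hrepO ⟨p, hp⟩)).1
      rw [hF p hp, ← hn]
      rw [tv_mem τ (hd.zle b (hrepZ ⟨p, hp⟩)),
        ← show (P0.index : ℂ) * (A q - A 1) = St Ω ((q : E) : C) - (d.q : ℂ) from hAdiff q] at h2
      show d.R Ω b τ (jP p * jQ q) = _
      change d.R Ω b τ (jP p * jQ q) - d.R Ω b τ (jP p) = _ at h2
      rw [show F ⟨p, hp⟩ = (τ ⟨rep ⟨p, hp⟩, hd.zle b (hrepZ ⟨p, hp⟩)⟩ : ℂ) from rfl]
      linear_combination h2
    · have h0 : indFun P0 F p = 0 := indFun_eq_zero_of_not_isConj P0 F fun g hg => hp (by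
        have := hd.normal_N0.conj_mem _ (show jP (g⁻¹ * p * g) ∈ d.N0 from hg) (jP g)
        show jP p ∈ d.N0
        simpa [mul_assoc] using this)
      rw [h0, zero_mul, mul_zero, add_zero]
      exact (h1.2 (hout p hp)).1
  rw [e]
  exact isGenChar_add (isGenChar_comp hRP (MonoidHom.fst P Q))
    (isGenChar_intSmul _ (isGenChar_mul
      (isGenChar_comp (isGenChar_indFun P0
        (isGenChar_of_char (isCharacter_of_irr (isIrrCharacter_linear tw)))) (MonoidHom.fst P Q))
      (isGenChar_comp (isGenChar_sub hAgen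
        (isGenChar_intSmul n (isGenChar_of_char isCharacter_one))) (MonoidHom.snd P Q))))

end CfsgLib.BrauerOrder
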