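import Cfsg.Agent.Lib.BrauerOrder.Calc
import Cfsg.Agent.Lib.BrauerOrder.Block
import Cfsg.Agent.Lib.CharTheory.SmallPartitionChars
import Cfsg.Agent.Lib.CharTheory.Coherence

/-!
# The functions `R` on the Sylow subgroup

On `S`, whose quotient by `Z` is dihedral, `R b τ` is a sum of characters induced from the rotation
torus and from the two classes of reflection subgroups, plus an integral multiple of the character
induced from `Z`; the integrality comes from `R b 1 = 1 + σ St`.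
-/

set_option autoImplicit false
set_option linter.unusedSectionVars false
set_option linter.style.haveILetI false
set_option linter.unusedVariables false

namespace CfsgLib.BrauerOrder

open Cfsg CfsgLib.CharTheory CfsgLib.Blocks.AbelianFree
open scoped ComplexConjugate

universe u v

variable {C : Type u} [Group C] [Fintype C] {Ω : Type v} [MulAction C Ω] [Finite Ω] {d : Core C}
  {lam : C →* ℂˣ} {b0 : Bool} {x : C} {h : ℕ}

theorem isGenChar_comp {G H : Type u} [Group G] [Group H] {θ : G → ℂ}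
    (hθ : IsGeneralizedCharacter G θ) (f : H →* G) : IsGeneralizedCharacter H (fun k => θ (f k)) := by
  obtain ⟨a, b, ha, hb, rfl⟩ := hθ
  exact ⟨_, _, isCharacter_comp ha f, isCharacter_comp hb f, rfl⟩

theorem isGenChar_St {H : Type u} [Group H] [Finite H] (f : H →* C) :
    IsGeneralizedCharacter H (fun k => St Ω (f k)) := by
  have := Fintype.ofFinite Ω
  exact isGenChar_comp ⟨_, _, CfsgLib.SmallPartitionChars.isCharacter_fixChar (G := C) Ω, isCharacter_one, rfl⟩ f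

/-- Two 2-elements congruent modulo `O` are conjugate. -/
theorem conj_of_congr (hd : d.Spec Ω) {a a' : C} (ha : ∃ k : ℕ, orderOf a = 2 ^ k)
    (ha' : ∃ k : ℕ, orderOf a' = 2 ^ k) (h : a * a'⁻¹ ∈ d.O) : IsConj a a' := by
  classical
  haveI : Fact (Nat.Prime 2) := ⟨Nat.prime_two⟩
  haveI := hd.onorm
  set H : Subgroup C := Subgroup.zpowers a' ⊔ d.O with hH
  have haH : a ∈ H := by
    have := mul_mem (Subgroup.mem_sup_right (S := Subgroup.zpowers a') h)
      (Subgroup.mem_sup_left (T := d.O) (Subgroup.mem_zpowers a'))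
    rwa [inv_mul_cancel_right] at this
  have ha'H : a' ∈ H := Subgroup.mem_sup_left (Subgroup.mem_zpowers a')
  have hp : ∀ {c : C} (hc : c ∈ H), (∃ k : ℕ, orderOf c = 2 ^ k) →
      IsPGroup 2 (Subgroup.zpowers (⟨c, hc⟩ : H)) := by
    intro c hc hk
    obtain ⟨k, hk⟩ := hk
    exact IsPGroup.of_card (n := k) (by rw [Nat.card_zpowers, Subgroup.orderOf_mk, hk])
  obtain ⟨Sa, hSa⟩ := (hp haH ha).exists_le_sylow
  obtain ⟨Sb, hSb⟩ := (hp ha'H ha').exists_le_sylow
  obtain ⟨g, hg⟩ := MulAction.exists_smul_eq H Sa Sb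
  have hmem : g * ⟨a, haH⟩ * g⁻¹ ∈ (Sb : Subgroup H) := by
    rw [← hg]
    exact Subgroup.smul_mem_pointwise_smul _ (MulAut.conj g) _ (hSa (Subgroup.mem_zpowers _))
  -- in the quotient both images agree
  have hbar : ((((g : C) * a * (g : C)⁻¹ : C)) : C ⧸ d.O) = (a' : C ⧸ d.O) := by
    have e1 : (a : C ⧸ d.O) = (a' : C ⧸ d.O) := by
      rw [← mul_inv_eq_one, ← QuotientGroup.mk_inv, ← QuotientGroup.mk_mul,
        QuotientGroup.eq_one_iff]
      exact h
    obtain ⟨u, hu, o, ho, he⟩ : ∃ u ∈ Subgroup.zpowers a', ∃ o ∈ d.O, (g : C) = u * o := by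
      have hgH : (g : C) ∈ Subgroup.zpowers a' ⊔ d.O := g.2
      rw [← SetLike.mem_coe, Subgroup.mul_normal, Set.mem_mul] at hgH
      obtain ⟨u, hu, o, ho, e⟩ := hgH
      exact ⟨u, hu, o, ho, e.symm⟩
    obtain ⟨i, rfl⟩ := Subgroup.mem_zpowers_iff.1 hu
    have e2 : ((g : C) : C ⧸ d.O) = (a' : C ⧸ d.O) ^ i := by
      rw [he, QuotientGroup.mk_mul, (QuotientGroup.eq_one_iff o).2 ho, mul_one, QuotientGroup.mk_zpow]
    rw [QuotientGroup.mk_mul, QuotientGroup.mk_mul, QuotientGroup.mk_inv, e1, e2,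
      ← (Commute.self_zpow (a' : C ⧸ d.O) i).eq, mul_inv_cancel_right]
  set q : H := g * ⟨a, haH⟩ * g⁻¹ * (⟨a', ha'H⟩ : H)⁻¹
  have hqS : q ∈ (Sb : Subgroup H) := mul_mem hmem (inv_mem (hSb (Subgroup.mem_zpowers _)))
  have hqO : (q : C) ∈ d.O := by
    rw [← QuotientGroup.eq_one_iff]
    show ((((g : C) * a * (g : C)⁻¹) * a'⁻¹ : C) : C ⧸ d.O) = 1
    rw [QuotientGroup.mk_mul, QuotientGroup.mk_inv, hbar, mul_inv_cancel]
  obtain ⟨k, hk⟩ := IsPGroup.iff_orderOf.1 Sb.2 ⟨q, hqS⟩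
  rw [Subgroup.orderOf_mk, ← Subgroup.orderOf_coe] at hk
  have := odd_S_trivial hd hqO ⟨k, hk⟩
  exact isConj_iff.2 ⟨g, mul_inv_eq_one.1 this⟩

theorem ctype_mem_S (hd : d.Spec Ω) {s u : C} (hs : s ∈ (d.S : Subgroup C)) (hu : u ∈ d.Z)
    (h : s * u⁻¹ ∈ d.O) : s = u :=
  mul_inv_eq_one.1 (hd.S_inf_O (mul_mem hs (inv_mem (hd.zle_S hu))) h)

theorem p2_of_mem_S (hd : d.Spec Ω) {s : C} (hs : s ∈ (d.S : Subgroup C)) : p2 s = s := by
  haveI : Fact (Nat.Prime 2) := ⟨Nat.prime_two⟩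
  obtain ⟨k, hk⟩ := IsPGroup.iff_orderOf.1 d.S.2 ⟨s, hs⟩
  rw [Subgroup.orderOf_mk] at hk
  have := p2_mul ⟨k, hk⟩ (Commute.one_left s) (by simp)
  rwa [mul_one] at this

theorem R_Z (hd : d.Spec Ω) (b : Bool) (τ : ↥(d.T b) →* ℂˣ) {z : C} (hz : z ∈ d.Z) :
    d.R Ω b τ z = (τ ⟨z, hd.zle b hz⟩ : ℂ) * (1 + (d.σ b : ℂ) * (d.q : ℂ)) := by
  have h1 : p2 z * z⁻¹ ∈ d.O := by rw [p2_of_mem_S hd (hd.zle_S hz), mul_inv_cancel]; exact one_mem _
  rw [R_ctype hd b τ hz h1, tv_mem τ (hd.zle b hz)]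
  have h2 : MulAction.fixedBy Ω z = Set.univ := by ext a; simp [hd.ztriv z hz]
  rw [St, h2, Nat.card_congr (Equiv.Set.univ Ω), hd.card]
  push_cast
  ring

/-- For the trivial character, `R` is `1 + σ St`. -/
theorem R_one (hd : d.Spec Ω) (b : Bool) (g : C) :
    d.R Ω b 1 g = 1 + (d.σ b : ℂ) * St Ω g := by
  have hsq : ∀ b, (d.σ b : ℂ) * (d.σ b : ℂ) = 1 := fun b => by
    rcases hd.sgn b with e | e <;> simp [e]
  have hne : (d.σ false : ℂ) = -(d.σ true : ℂ) := by rw [hd.sgnne]; push_cast; rfl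
  rcases types hd g with ⟨u, hu, hc⟩ | h | h
  · rw [R_ctype hd b 1 hu hc, tv_mem 1 (hd.zle b hu)]; simp
  all_goals
    obtain ⟨t, ht, hz, hc⟩ := id h
    have hS := St_ttype hd h
  · cases b
    · rw [R_ttype hd false 1 ht hz hc, tv_mem 1 ht, tv_mem 1 (hd.nnorm false t ht), hS, hsq]; simp
    · rw [R_other hd true 1 (g := g) h, hS, hne]
      linear_combination hsq true
  · cases b
    · rw [R_other hd false 1 (g := g) h, hS, hne]
      linear_combination hsq true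
    · rw [R_ttype hd true 1 ht hz hc, tv_mem 1 ht, tv_mem 1 (hd.nnorm true t ht), hS, hsq]; simp

section Rot

variable (hd : d.Spec Ω) (hr : d.Rot lam b0 x h)
include hd hr

theorem h_pos : 0 < h := by
  obtain ⟨a, ha⟩ := hr.hpow
  rw [ha]
  positivity

theorem x_mem_S : x ∈ (d.S : Subgroup C) := hd.tle b0 hr.xmem

theorem pow_mem_Z_iff {i : ℕ} : x ^ i ∈ d.Z ↔ 2 * h ∣ i := by
  have hp := h_pos hd hr
  constructor
  · intro hi
    rw [Nat.dvd_iff_mod_eq_zero]
    by_contra hne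
    refine hr.xlow (i % (2 * h)) (Nat.pos_of_ne_zero hne) (Nat.mod_lt _ (by omega)) ?_
    have h3 : x ^ (2 * h * (i / (2 * h))) ∈ d.Z := by rw [pow_mul]; exact pow_mem hr.xpow _
    rw [← Nat.div_add_mod i (2 * h), pow_add] at hi
    exact (mul_mem_cancel_left h3).1 hi
  · rintro ⟨k, rfl⟩
    rw [pow_mul]
    exact pow_mem hr.xpow k

theorem gen_coset {t : C} (ht : t ∈ d.T b0) : ∃ i < 2 * h, ∃ z ∈ d.Z, t = x ^ i * z := by
  obtain ⟨i, hi⟩ := hr.gen t ht
  have hp := h_pos hd hr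
  refine ⟨i % (2 * h), Nat.mod_lt _ (by omega), (x ^ (i % (2 * h)))⁻¹ * t, ?_, by group⟩
  have h3 : x ^ (2 * h * (i / (2 * h))) ∈ d.Z := (pow_mem_Z_iff hd hr).2 (dvd_mul_right _ _)
  rw [← Nat.div_add_mod i (2 * h), pow_add, mul_inv_rev, mul_assoc] at hi
  have h4 := mul_mem h3 hi
  rwa [← mul_assoc, ← hd.zS _ h3 _ (inv_mem (pow_mem (x_mem_S hd hr) _)), mul_assoc,
    mul_inv_cancel_left] at h4

theorem card_T : Nat.card (d.T b0) = 2 * h * Nat.card d.Z := by
  have e : Fin (2 * h) × d.Z ≃ d.T b0 :=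
    Equiv.ofBijective (fun p => ⟨x ^ (p.1 : ℕ) * p.2, mul_mem (pow_mem hr.xmem _) (hd.zle b0 p.2.2)⟩)
      ⟨fun p p' e => by
        obtain ⟨⟨i, hi⟩, z⟩ := p
        obtain ⟨⟨i', hi'⟩, z'⟩ := p'
        have e' : x ^ i * (z : C) = x ^ i' * z' := congrArg Subtype.val e
        have key : i = i' := by
          rcases le_total i i' with hle | hle
          · obtain ⟨k, rfl⟩ := Nat.exists_eq_add_of_le hle
            have : x ^ k ∈ d.Z := by
              rw [pow_add, mul_assoc, mul_left_cancel_iff] at e'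
              rw [show x ^ k = (z : C) * (z' : C)⁻¹ by rw [e', mul_inv_cancel_right]]
              exact mul_mem z.2 (inv_mem z'.2)
            obtain ⟨l, rfl⟩ := (pow_mem_Z_iff hd hr).1 this
            rcases Nat.eq_zero_or_pos l with rfl | hl
            · simp
            · have := Nat.le_mul_of_pos_right (2 * h) hl
              omega
          · obtain ⟨k, rfl⟩ := Nat.exists_eq_add_of_le hle
            have : x ^ k ∈ d.Z := by
              rw [pow_add, mul_assoc, mul_left_cancel_iff] at e'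
              rw [show x ^ k = (z' : C) * (z : C)⁻¹ by rw [← e', mul_inv_cancel_right]]
              exact mul_mem z'.2 (inv_mem z.2)
            obtain ⟨l, rfl⟩ := (pow_mem_Z_iff hd hr).1 this
            rcases Nat.eq_zero_or_pos l with rfl | hl
            · simp
            · have := Nat.le_mul_of_pos_right (2 * h) hl
              omega
        subst key
        have := Subtype.ext (mul_left_cancel e')
        subst this
        rfl, fun t => by
        obtain ⟨i, hi, z, hz, e⟩ := gen_coset hd hr t.2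
        exact ⟨(⟨i, hi⟩, ⟨z, hz⟩), Subtype.ext e.symm⟩⟩
  rw [← Nat.card_congr e, Nat.card_prod, Nat.card_fin]

theorem index_two {u v : C} (hu : u ∈ (d.S : Subgroup C)) (hv : v ∈ (d.S : Subgroup C))
    (hu' : u ∉ d.T b0) (hv' : v ∉ d.T b0) : u⁻¹ * v ∈ d.T b0 := by
  have hc : ((d.T b0).subgroupOf (d.S : Subgroup C)).index = 2 := by
    have h1 := ((d.T b0).subgroupOf (d.S : Subgroup C)).index_mul_card
    rw [Nat.card_congr (Subgroup.subgroupOfEquivOfLe (hd.tle b0)).toEquiv, card_T hd hr, hr.card,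
      show 4 * h * Nat.card d.Z = 2 * (2 * h * Nat.card d.Z) by ring] at h1
    exact Nat.eq_of_mul_eq_mul_right (Nat.mul_pos (by have := h_pos hd hr; omega) Nat.card_pos) h1
  have h2 := Subgroup.mul_mem_iff_of_index_two hc (a := (⟨u, hu⟩ : (d.S : Subgroup C))⁻¹) (b := ⟨v, hv⟩)
  rw [inv_mem_iff] at h2
  simp only [Subgroup.mem_subgroupOf, Subgroup.coe_mul, Subgroup.coe_inv] at h2
  exact h2.2 (iff_of_false hu' hv')

theorem exists_refl : ∃ r ∈ (d.S : Subgroup C), r ∉ d.T b0 := by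
  by_contra! hc
  have h1 := Subgroup.card_le_of_le (show (d.S : Subgroup C) ≤ d.T b0 from hc)
  rw [card_T hd hr, hr.card] at h1
  have := h_pos hd hr
  have : 0 < h * Nat.card d.Z := Nat.mul_pos (h_pos hd hr) Nat.card_pos
  nlinarith

theorem refl_inv_pow {r : C} (hrS : r ∈ (d.S : Subgroup C)) (hrT : r ∉ d.T b0) (i : ℕ) :
    ∃ z ∈ d.Z, r * x ^ i * r⁻¹ = (x ^ i)⁻¹ * z := by
  induction i with
  | zero => exact ⟨1, one_mem _, by simp⟩
  | succ i ih =>
    obtain ⟨z, hz, e⟩ := ih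
    obtain ⟨h1, -⟩ := hr.inv r hrS hrT
    refine ⟨z * (r * x * r⁻¹ * x), mul_mem hz h1, ?_⟩
    have hxS := x_mem_S hd hr
    calc r * x ^ (i + 1) * r⁻¹ = r * x ^ i * r⁻¹ * ((r * x * r⁻¹ * x) * x⁻¹) := by
          rw [pow_succ]; group
      _ = (x ^ i)⁻¹ * z * (x⁻¹ * (r * x * r⁻¹ * x)) := by rw [e, hd.zS _ h1 _ (inv_mem hxS)]
      _ = (x ^ i)⁻¹ * (z * x⁻¹) * (r * x * r⁻¹ * x) := by group
      _ = (x ^ i)⁻¹ * (x⁻¹ * z) * (r * x * r⁻¹ * x) := by rw [hd.zS _ hz _ (inv_mem hxS)]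
      _ = _ := by rw [pow_succ']; group

/-- Conjugation of a reflection by a power of `x`. -/
theorem refl_conj_pow {r : C} (hrS : r ∈ (d.S : Subgroup C)) (hrT : r ∉ d.T b0) (i : ℕ) :
    ∃ z ∈ d.Z, (x ^ i)⁻¹ * r * x ^ i = r * x ^ (2 * i) * z := by
  obtain ⟨z, hz, e⟩ := refl_inv_pow hd hr hrS hrT i
  refine ⟨z⁻¹, inv_mem hz, ?_⟩
  have hxi : x ^ i ∈ (d.S : Subgroup C) := pow_mem (x_mem_S hd hr) i
  have e1 : (x ^ i)⁻¹ * r = r * x ^ i * z⁻¹ := by
    have e2 : r * x ^ i = (x ^ i)⁻¹ * z * r := by rw [← e]; group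
    rw [e2, mul_assoc ((x ^ i)⁻¹ * z) r, hd.zS _ (inv_mem hz) r hrS]
    group
  rw [e1, mul_assoc, ← hd.zS _ (inv_mem hz) _ hxi, ← mul_assoc, mul_assoc r, ← pow_add, ← two_mul]

/-- Every reflection is conjugate in `S` into `r Z` or `r x Z`. -/
theorem refl_class {r s : C} (hrS : r ∈ (d.S : Subgroup C)) (hrT : r ∉ d.T b0)
    (hsS : s ∈ (d.S : Subgroup C)) (hsT : s ∉ d.T b0) :
    ∃ u ∈ (d.S : Subgroup C), ∃ z ∈ d.Z, u⁻¹ * s * u = r * z ∨ u⁻¹ * s * u = r * x * z := by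
  obtain ⟨i, -, z, hz, e⟩ := gen_coset hd hr (index_two hd hr hrS hsS hrT hsT)
  have hs : s = r * (x ^ i * z) := by rw [← e]; group
  rcases Nat.even_or_odd' i with ⟨j, rfl | rfl⟩
  all_goals
    obtain ⟨z', hz', e'⟩ := refl_conj_pow hd hr hrS hrT j
    have hjS : x ^ j ∈ (d.S : Subgroup C) := pow_mem (x_mem_S hd hr) j
    refine ⟨(x ^ j)⁻¹, inv_mem hjS, z'⁻¹ * z, mul_mem (inv_mem hz') hz, ?_⟩
    have e2 : x ^ j * r * (x ^ j)⁻¹ * (x ^ (2 * j)) = r * z'⁻¹ := by
      have e3 : r * x ^ (2 * j) = (x ^ j)⁻¹ * r * x ^ j * z'⁻¹ := by rw [e']; group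
      calc x ^ j * r * (x ^ j)⁻¹ * x ^ (2 * j) = x ^ j * (r * x ^ j) := by rw [two_mul, pow_add]; group
        _ = x ^ j * (r * x ^ (2 * j) * (x ^ j)⁻¹) := by rw [two_mul, pow_add]; group
        _ = r * (x ^ j * z'⁻¹) * (x ^ j)⁻¹ := by rw [e3]; group
        _ = r * (z'⁻¹ * x ^ j) * (x ^ j)⁻¹ := by rw [hd.zS _ (inv_mem hz') _ hjS]
        _ = r * z'⁻¹ := by group
  · left
    calc ((x ^ j)⁻¹)⁻¹ * s * (x ^ j)⁻¹ = x ^ j * r * x ^ (2 * j) * (z * (x ^ j)⁻¹) := by rw [hs]; group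
      _ = x ^ j * r * x ^ (2 * j) * ((x ^ j)⁻¹ * z) := by rw [hd.zS _ hz _ (inv_mem hjS)]
      _ = x ^ j * r * (x ^ j)⁻¹ * x ^ (2 * j) * z := by rw [two_mul, pow_add]; group
      _ = _ := by rw [e2]; group
  · right
    calc ((x ^ j)⁻¹)⁻¹ * s * (x ^ j)⁻¹ = x ^ j * r * x ^ (2 * j + 1) * (z * (x ^ j)⁻¹) := by rw [hs]; group
      _ = x ^ j * r * x ^ (2 * j + 1) * ((x ^ j)⁻¹ * z) := by rw [hd.zS _ hz _ (inv_mem hjS)]
      _ = x ^ j * r * (x ^ j)⁻¹ * x ^ (2 * j) * x * z := by rw [pow_succ, two_mul, pow_add]; group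
      _ = r * (z'⁻¹ * x) * z := by rw [e2]; group
      _ = r * (x * z'⁻¹) * z := by rw [hd.zS _ (inv_mem hz') _ (x_mem_S hd hr)]
      _ = _ := by group

theorem inter_T {b : Bool} (hb : b ≠ b0) {t : C} (ht : t ∈ d.T b) (ht0 : t ∈ d.T b0) : t ∈ d.Z := by
  by_contra hz
  exact hb (ttype_unique hd (g := t) ⟨t, ht, hz, by rw [p2_of_mem_S hd (hd.tle b ht)]⟩
    ⟨t, ht0, hz, by rw [p2_of_mem_S hd (hd.tle b0 ht0)]⟩)

/-- The elements of `T b` of order two modulo `Z` form one coset. -/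
theorem invol_coset {b : Bool} {t t' : C} (ht : t ∈ d.T b) (ht' : t' ∈ d.T b) (hz : t ∉ d.Z)
    (hz' : t' ∉ d.Z) (h2 : t * t ∈ d.Z) (h2' : t' * t' ∈ d.Z) : t⁻¹ * t' ∈ d.Z := by
  by_cases hb : b = b0
  · subst hb
    have key : ∀ u ∈ d.T b, u ∉ d.Z → u * u ∈ d.Z → ∃ z ∈ d.Z, u = x ^ h * z := by
      intro u hu hun hu2
      obtain ⟨i, hi, z, hz, rfl⟩ := gen_coset hd hr hu
      refine ⟨z, hz, ?_⟩
      have hxi : x ^ i ∈ (d.S : Subgroup C) := pow_mem (x_mem_S hd hr) i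
      rw [show x ^ i * z * (x ^ i * z) = x ^ i * (z * x ^ i) * z by group, ← hd.zS _ hz _ hxi,
        show x ^ i * (x ^ i * z) * z = x ^ (2 * i) * (z * z) by rw [two_mul, pow_add]; group,
        mul_mem_cancel_right (mul_mem hz hz), pow_mem_Z_iff hd hr,
        Nat.mul_dvd_mul_iff_left two_pos] at hu2
      obtain ⟨k, rfl⟩ := hu2
      have hk : k = 1 := by
        rcases k with _ | _ | k
        · exact absurd (by simpa using hz) hun
        · rfl
        · exfalso; nlinarith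
      rw [hk, mul_one]
    obtain ⟨z, hzz, rfl⟩ := key t ht hz h2
    obtain ⟨z', hzz', rfl⟩ := key t' ht' hz' h2'
    rw [show (x ^ h * z)⁻¹ * (x ^ h * z') = z⁻¹ * z' by group]
    exact mul_mem (inv_mem hzz) hzz'
  · refine inter_T hd hr hb (mul_mem (inv_mem ht) ht') (index_two hd hr (hd.tle b ht) (hd.tle b ht')
      (fun h0 => hz (inter_T hd hr hb ht h0)) fun h0 => hz' (inter_T hd hr hb ht' h0))

theorem sylow_T {b : Bool} {t : C} (ht : t ∈ d.T b) (hz : t ∉ d.Z) {y : C}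
    (hy : ∃ k : ℕ, orderOf y = 2 ^ k) (hc : Commute y t) :
    ∃ k : C, Commute k t ∧ k * y * k⁻¹ ∈ d.T b := by
  classical
  haveI : Fact (Nat.Prime 2) := ⟨Nat.prime_two⟩
  set Ct := Subgroup.centralizer ({t} : Set C)
  obtain ⟨K, hKn, hK, hidx⟩ : ∃ K : Subgroup Ct,
      K.Normal ∧ ¬ 2 ∣ Nat.card K ∧ K.index = Nat.card (d.T b) := hd.cent b t ht hz
  have hle : d.T b ≤ Ct := fun v hv =>
    Subgroup.mem_centralizer_singleton_iff.2 (hd.tcomm b v hv t ht)
  have hp : IsPGroup 2 ((d.T b).subgroupOf Ct) :=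
    (d.S.2.to_le (hd.tle b)).of_equiv (Subgroup.subgroupOfEquivOfLe hle).symm
  obtain ⟨m, hm⟩ := card_T_pow hd b
  have hy' : y ∈ Ct := Subgroup.mem_centralizer_singleton_iff.2 hc.eq
  obtain ⟨j, hj⟩ := hy
  obtain ⟨P, hP⟩ := (IsPGroup.of_card (n := j)
    (by rw [Nat.card_zpowers, Subgroup.orderOf_mk, hj] :
      Nat.card (Subgroup.zpowers (⟨y, hy'⟩ : Ct)) = 2 ^ j)).exists_le_sylow
  obtain ⟨Q, hQ⟩ := hp.exists_le_sylow
  have hQe : (Q : Subgroup Ct) = (d.T b).subgroupOf Ct := by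
    refine (Subgroup.eq_of_le_of_card_ge hQ ?_).symm
    rw [Sylow.card_eq_multiplicity, ← K.index_mul_card, hidx,
      Nat.factorization_mul Nat.card_pos.ne' Nat.card_pos.ne', Finsupp.add_apply,
      Nat.factorization_eq_zero_of_not_dvd hK, add_zero,
      Nat.card_congr (Subgroup.subgroupOfEquivOfLe hle).toEquiv, hm,
      Nat.prime_two.factorization_pow, Finsupp.single_eq_same]
  obtain ⟨k, hk⟩ := MulAction.exists_smul_eq Ct P Q
  have hmem : k * ⟨y, hy'⟩ * k⁻¹ ∈ (Q : Subgroup Ct) := by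
    rw [← hk]
    exact Subgroup.smul_mem_pointwise_smul _ (MulAut.conj k) _ (hP (Subgroup.mem_zpowers _))
  rw [hQe, Subgroup.mem_subgroupOf] at hmem
  exact ⟨k, Subgroup.mem_centralizer_singleton_iff.1 k.2, hmem⟩

/-- A reflection fused into `T b` does not commute with `x ^ h`. -/
theorem refl_not_comm {r : C} (hrS : r ∈ (d.S : Subgroup C)) (hrT : r ∉ d.T b0) {b : Bool} {t : C}
    (ht : t ∈ d.T b) (hz : t ∉ d.Z) (hc : IsConj r t) : ¬ Commute (x ^ h) r := by
  intro hcomm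
  haveI := hd.normal_N0
  obtain ⟨g, hg⟩ := isConj_iff.1 hc
  have hp := h_pos hd hr
  have hyS : x ^ h ∈ (d.S : Subgroup C) := pow_mem (x_mem_S hd hr) h
  haveI : Fact (Nat.Prime 2) := ⟨Nat.prime_two⟩
  obtain ⟨j, hj⟩ := IsPGroup.iff_orderOf.1 d.S.2 ⟨x ^ h, hyS⟩
  rw [Subgroup.orderOf_mk] at hj
  have hc' : Commute (g * x ^ h * g⁻¹) t := by rw [← hg]; exact (Commute.conj_iff g).2 hcomm
  obtain ⟨k, hk, hmem⟩ := sylow_T hd hr ht hz ⟨j, by rw [CfsgLib.Blocks.conj_orderOf, hj]⟩ hc'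
  set m := k * g with hm
  have hy'' : k * (g * x ^ h * g⁻¹) * k⁻¹ = m * x ^ h * m⁻¹ := by rw [hm]; group
  rw [hy''] at hmem
  have hrm : m * r * m⁻¹ = t := by
    rw [hm, show k * g * r * (k * g)⁻¹ = k * (g * r * g⁻¹) * k⁻¹ by group, hg, hk.eq,
      mul_inv_cancel_right]
  have hN : ∀ {c : C}, m * c * m⁻¹ ∈ d.N0 → c ∈ d.N0 := fun {c} hc => by
    have := hd.normal_N0.conj_mem _ hc m⁻¹
    rwa [show m⁻¹ * (m * c * m⁻¹) * m⁻¹⁻¹ = c by group] at this
  have hyz : x ^ h ∉ d.Z := fun hmem' => by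
    obtain ⟨k', hk'⟩ := (pow_mem_Z_iff hd hr).1 hmem'
    rcases k' with _ | k'
    · omega
    · nlinarith
  have hrz : r * r ∈ d.Z := (hr.inv r hrS hrT).2
  have ht2 : t * t ∈ d.Z := by
    refine (hd.S_inf_N0 (mul_mem (hd.tle b ht) (hd.tle b ht))).1 ?_
    have := hd.normal_N0.conj_mem _ (Subgroup.mem_sup_left (T := d.O) hrz) m
    rwa [show m * (r * r) * m⁻¹ = (m * r * m⁻¹) * (m * r * m⁻¹) by group, hrm] at this
  have hy2 : (m * x ^ h * m⁻¹) * (m * x ^ h * m⁻¹) ∈ d.Z := by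
    refine (hd.S_inf_N0 (mul_mem (hd.tle b hmem) (hd.tle b hmem))).1 ?_
    rw [show (m * x ^ h * m⁻¹) * (m * x ^ h * m⁻¹) = m * x ^ (2 * h) * m⁻¹ by
      rw [two_mul, pow_add]; group]
    exact hd.normal_N0.conj_mem _ (Subgroup.mem_sup_left hr.xpow) m
  by_cases hY : m * x ^ h * m⁻¹ ∈ d.Z
  · exact hyz ((hd.S_inf_N0 hyS).1 (hN (Subgroup.mem_sup_left hY)))
  · have h1 := invol_coset hd hr ht hmem hz hY ht2 hy2
    rw [← hrm, show (m * r * m⁻¹)⁻¹ * (m * x ^ h * m⁻¹) = m * (r⁻¹ * x ^ h) * m⁻¹ by group] at h1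
    have h2 := (hd.S_inf_N0 (mul_mem (inv_mem hrS) hyS)).1 (hN (Subgroup.mem_sup_left h1))
    refine hrT ?_
    have h3 := mul_mem (pow_mem hr.xmem h) (inv_mem (hd.zle b0 h2))
    rwa [show x ^ h * (r⁻¹ * x ^ h)⁻¹ = r by group] at h3

/-- The reflection subgroup `Z ∪ r Z` inside `S`. -/
def reflSub {r : C} (hrS : r ∈ (d.S : Subgroup C)) (hrT : r ∉ d.T b0) :
    Subgroup (d.S : Subgroup C) where
  carrier := {u | (u : C) ∈ d.Z ∨ r⁻¹ * (u : C) ∈ d.Z}
  one_mem' := Or.inl (by simp)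
  mul_mem' {a c} ha hc := by
    rcases ha with ha | ha <;> rcases hc with hc | hc
    · exact Or.inl (by simpa using mul_mem ha hc)
    · refine Or.inr ?_
      have e : r⁻¹ * ((a : C) * c) = a * (r⁻¹ * c) := by
        rw [← mul_assoc, hd.zS _ ha _ (inv_mem hrS), mul_assoc]
      rw [Subgroup.coe_mul, e]
      exact mul_mem ha hc
    · refine Or.inr ?_
      rw [Subgroup.coe_mul, ← mul_assoc]
      exact mul_mem ha hc
    · refine Or.inl ?_
      have e : (a : C) * c = r * r * ((r⁻¹ * a) * (r⁻¹ * c)) := by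
        rw [← mul_assoc (r⁻¹ * (a : C)), ← hd.zS _ ha _ (inv_mem hrS)]
        group
      rw [Subgroup.coe_mul, e]
      exact mul_mem (hr.inv r hrS hrT).2 (mul_mem ha hc)
  inv_mem' {a} ha := by
    rcases ha with ha | ha
    · exact Or.inl (by simpa using ha)
    · refine Or.inr ?_
      have e : r⁻¹ * ((a⁻¹ : (d.S : Subgroup C)) : C) = (r * r)⁻¹ * (r⁻¹ * (a : C))⁻¹ := by
        have e1 := hd.zS _ (inv_mem ha) r⁻¹ (inv_mem hrS)
        calc r⁻¹ * ((a⁻¹ : (d.S : Subgroup C)) : C) = r⁻¹ * ((r⁻¹ * (a : C))⁻¹ * r⁻¹) := by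
              rw [Subgroup.coe_inv]; group
          _ = _ := by rw [← e1]; group
      rw [e]
      exact mul_mem (inv_mem (hr.inv r hrS hrT).2) (inv_mem ha)

theorem mem_reflSub {r : C} {hrS : r ∈ (d.S : Subgroup C)} {hrT : r ∉ d.T b0}
    {u : (d.S : Subgroup C)} :
    u ∈ reflSub hd hr hrS hrT ↔ (u : C) ∈ d.Z ∨ r⁻¹ * (u : C) ∈ d.Z := Iff.rfl

theorem card_reflSub {r : C} (hrS : r ∈ (d.S : Subgroup C)) (hrT : r ∉ d.T b0) :
    Nat.card (reflSub hd hr hrS hrT) = 2 * Nat.card d.Z := by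
  classical
  have hrz : r ∉ d.Z := fun hz => hrT (hd.zle b0 hz)
  have e : d.Z ⊕ d.Z ≃ reflSub hd hr hrS hrT :=
    Equiv.ofBijective (Sum.elim (fun z => ⟨⟨z, hd.zle_S z.2⟩, Or.inl z.2⟩)
      (fun z => ⟨⟨r * z, mul_mem hrS (hd.zle_S z.2)⟩, Or.inr (by simp)⟩))
      ⟨fun p p' e => by
        have e' := congrArg (fun q : reflSub hd hr hrS hrT => ((q : (d.S : Subgroup C)) : C)) e
        rcases p with z | z <;> rcases p' with z' | z' <;> simp only [Sum.elim_inl, Sum.elim_inr] at e'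
        · rw [Subtype.ext e']
        · exact absurd (by rw [eq_mul_inv_of_mul_eq e'.symm]; exact mul_mem z.2 (inv_mem z'.2)) hrz
        · exact absurd (by rw [eq_mul_inv_of_mul_eq e']; exact mul_mem z'.2 (inv_mem z.2)) hrz
        · rw [Subtype.ext (mul_left_cancel e')], fun q => by
        rcases q.2 with hq | hq
        · exact ⟨Sum.inl ⟨_, hq⟩, Subtype.ext (Subtype.ext rfl)⟩
        · exact ⟨Sum.inr ⟨_, hq⟩, Subtype.ext (Subtype.ext (mul_inv_cancel_left r _))⟩⟩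
  rw [← Nat.card_congr e, Nat.card_sum, two_mul]

/-- The part of `R b τ` carried by one class of reflections. -/
theorem refl_part {r : C} (hrS : r ∈ (d.S : Subgroup C)) (hrT : r ∉ d.T b0) (b : Bool) :
    ∃ N : ℂ, ∀ τ : ↥(d.T b) →* ℂˣ, ∃ f : ↥(d.S : Subgroup C) → ℂ,
      IsGeneralizedCharacter (d.S : Subgroup C) f ∧
      (∀ s : (d.S : Subgroup C), (hs : (s : C) ∈ d.Z) → f s = N * (τ ⟨s, hd.zle b hs⟩ : ℂ)) ∧
      (∀ s : (d.S : Subgroup C), r⁻¹ * (s : C) ∈ d.Z → f s = d.R Ω b τ s) ∧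
      ∀ s : (d.S : Subgroup C), (s : C) ∉ d.Z →
        (∀ u ∈ (d.S : Subgroup C), r⁻¹ * (u⁻¹ * s * u) ∉ d.Z) → f s = 0 := by
  classical
  have hrz : r ∉ d.Z := fun hz => hrT (hd.zle b0 hz)
  by_cases hT : TType d b r
  swap
  · refine ⟨0, fun τ => ⟨0, isGenChar_zero, fun s hs => by simp, fun s hs => ?_, fun _ _ _ => rfl⟩⟩
    obtain ⟨z, hz, e⟩ : ∃ z ∈ d.Z, (s : C) = r * z := ⟨_, hs, (mul_inv_cancel_left r _).symm⟩
    have hnT : TType d (!b) (s : C) := by
      have hns : (s : C) ∉ d.Z := fun hz' => hrz (by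
        rw [eq_mul_inv_of_mul_eq e.symm]; exact mul_mem hz' (inv_mem hz))
      have key : ¬ TType d b (s : C) := by
        rintro ⟨t, ht, htz, hc⟩
        rw [p2_of_mem_S hd s.2] at hc
        obtain ⟨g, hg⟩ := isConj_iff.1 hc
        refine hT ⟨t * z⁻¹, mul_mem ht (inv_mem (hd.zle b hz)), fun h' => htz ?_, ?_⟩
        · have := mul_mem h' hz
          rwa [inv_mul_cancel_right] at this
        rw [p2_of_mem_S hd hrS]
        refine (isConj_iff.2 ⟨g, rfl⟩ : IsConj r (g * r * g⁻¹)).trans (conj_of_congr hd ?_ ?_ ?_)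
        · haveI : Fact (Nat.Prime 2) := ⟨Nat.prime_two⟩
          obtain ⟨k, hk⟩ := IsPGroup.iff_orderOf.1 d.S.2 ⟨r, hrS⟩
          exact ⟨k, by rw [CfsgLib.Blocks.conj_orderOf, ← hk, Subgroup.orderOf_mk]⟩
        · exact two_of_mem hd (mul_mem ht (inv_mem (hd.zle b hz)))
        · haveI := hd.onorm
          rw [show g * r * g⁻¹ * (t * z⁻¹)⁻¹ = g * r * g⁻¹ * z * t⁻¹ by group, ← hg, e,
            show g * r * g⁻¹ * z * (g * (r * z) * g⁻¹)⁻¹ =
              g * r * (g⁻¹ * z * g * z⁻¹) * r⁻¹ * g⁻¹ by group]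
          have h1 := hd.zcent z hz g⁻¹
          rw [inv_inv] at h1
          rw [show g * r * (g⁻¹ * z * g * z⁻¹) * r⁻¹ * g⁻¹ =
            g * r * (g⁻¹ * z * g * z⁻¹) * (g * r)⁻¹ by group]
          exact hd.onorm.conj_mem _ h1 _
      rcases types hd (s : C) with hc | hc | hc
      · obtain ⟨u, hu, ho⟩ := hc
        rw [p2_of_mem_S hd s.2] at ho
        exact absurd (ctype_mem_S hd s.2 hu ho ▸ hu) hns
      all_goals cases b <;> first | exact hc | exact absurd hc key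
    rw [R_other hd b τ (g := (s : C)) hnT]
    rfl
  obtain ⟨t0, ht0, hz0, hc0⟩ := hT
  rw [p2_of_mem_S hd hrS] at hc0
  obtain ⟨g, hg⟩ := isConj_iff.1 hc0
  haveI := hd.onorm
  -- the translates
  have htrans : ∀ z ∈ d.Z, IsConj (r * z) (t0 * z) := by
    intro z hz
    haveI : Fact (Nat.Prime 2) := ⟨Nat.prime_two⟩
    refine (isConj_iff.2 ⟨g, rfl⟩ : IsConj (r * z) (g * (r * z) * g⁻¹)).trans (conj_of_congr hd ?_ ?_ ?_)
    · obtain ⟨k, hk⟩ := IsPGroup.iff_orderOf.1 d.S.2 ⟨r * z, mul_mem hrS (hd.zle_S hz)⟩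
      exact ⟨k, by rw [CfsgLib.Blocks.conj_orderOf, ← hk, Subgroup.orderOf_mk]⟩
    · exact two_of_mem hd (mul_mem ht0 (hd.zle b hz))
    · rw [← hg, show g * (r * z) * g⁻¹ * (g * r * g⁻¹ * z)⁻¹ =
        g * r * g⁻¹ * (g * z * g⁻¹ * z⁻¹) * (g * r * g⁻¹)⁻¹ by group]
      exact hd.onorm.conj_mem _ (hd.zcent z hz g) _
  have hsq : t0 * t0 = r * r := by
    haveI := hd.normal_N0
    have hrr := (hr.inv r hrS hrT).2
    refine ctype_mem_S hd (mul_mem (hd.tle b ht0) (hd.tle b ht0)) hrr ?_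
    rw [← hg, show g * r * g⁻¹ * (g * r * g⁻¹) * (r * r)⁻¹ = g * (r * r) * g⁻¹ * (r * r)⁻¹ by group]
    exact hd.zcent _ hrr g
  -- `c` from the conjugation by `x ^ h`
  set y := x ^ h with hy
  have hyS : y ∈ (d.S : Subgroup C) := pow_mem (x_mem_S hd hr) h
  obtain ⟨z1, hz1, e1⟩ := refl_conj_pow hd hr hrS hrT h
  set c := r⁻¹ * (y⁻¹ * r * y) with hc
  have hcZ : c ∈ d.Z := by
    rw [hc, e1, ← mul_assoc, ← mul_assoc, inv_mul_cancel, one_mul]
    exact mul_mem hr.xpow hz1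
  have hcne : c ≠ 1 := by
    intro hc1
    refine refl_not_comm hd hr hrS hrT ht0 hz0 hc0 ?_
    rw [hc, inv_mul_eq_one] at hc1
    show y * r = r * y
    nth_rewrite 1 [hc1]
    group
  have ht0c : d.n b * t0 * (d.n b)⁻¹ = t0 * c := by
    have h1 : IsConj t0 (t0 * c) := by
      refine hc0.symm.trans ((isConj_iff.2 ⟨y⁻¹, ?_⟩ : IsConj r (r * c)).trans (htrans c hcZ))
      rw [hc]; group
    have hn : t0 * c ∉ d.Z := fun h' => hz0 (by
      have := mul_mem h' (inv_mem hcZ)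
      rwa [mul_inv_cancel_right] at this)
    rcases hd.uniq b t0 ht0 hz0 _ (mul_mem ht0 (hd.zle b hcZ)) hn h1 with e | e
    · exact absurd (mul_eq_left.1 e) hcne
    · exact e.symm
  set H := reflSub hd hr hrS hrT
  refine ⟨(Nat.card (d.S : Subgroup C) : ℂ) / (Nat.card H : ℂ), fun τ => ?_⟩
  -- the linear character
  let ρf : H → ℂˣ := fun q => if hq : ((q : (d.S : Subgroup C)) : C) ∈ d.Z then
    τ ⟨_, hd.zle b hq⟩ else
    τ ⟨t0, ht0⟩ * τ ⟨r⁻¹ * ((q : (d.S : Subgroup C)) : C), hd.zle b (((mem_reflSub hd hr).1 q.2).resolve_left hq)⟩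
  have hρZ : ∀ (q : H) (hq : ((q : (d.S : Subgroup C)) : C) ∈ d.Z), ρf q = τ ⟨_, hd.zle b hq⟩ :=
    fun q hq => dif_pos hq
  have hρr : ∀ (q : H) (z : C) (hz : z ∈ d.Z), ((q : (d.S : Subgroup C)) : C) = r * z →
      ρf q = τ ⟨t0, ht0⟩ * τ ⟨z, hd.zle b hz⟩ := by
    intro q z hz e
    have hq : ((q : (d.S : Subgroup C)) : C) ∉ d.Z := fun hq => hrz (by
      rw [eq_mul_inv_of_mul_eq e.symm]; exact mul_mem hq (inv_mem hz))
    simp only [ρf, dif_neg hq]
    congr 2
    exact Subtype.ext ((congrArg (r⁻¹ * ·) e).trans (inv_mul_cancel_left r z))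
  have em : ∀ (a a' : C) (ha : a ∈ d.Z) (ha' : a' ∈ d.Z),
      τ ⟨a * a', hd.zle b (mul_mem ha ha')⟩ = τ ⟨a, hd.zle b ha⟩ * τ ⟨a', hd.zle b ha'⟩ :=
    fun a a' ha ha' => map_mul τ ⟨a, hd.zle b ha⟩ ⟨a', hd.zle b ha'⟩
  have hmul : ∀ q q' : H, ρf (q * q') = ρf q * ρf q' := by
    intro q q'
    rcases mem_reflSub hd hr |>.1 q.2 with hq | hq <;> rcases mem_reflSub hd hr |>.1 q'.2 with hq' | hq'
    · rw [hρZ q hq, hρZ q' hq', hρZ (q * q') (by simpa using mul_mem hq hq'), ← map_mul]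
      rfl
    · rw [hρZ q hq, hρr q' _ hq' (mul_inv_cancel_left r _).symm,
        hρr (q * q') (_ * (r⁻¹ * _)) (mul_mem hq hq') (by
          rw [← mul_assoc r, hd.zS _ hq r hrS, mul_assoc, mul_inv_cancel_left]; rfl),
        em _ _ hq hq', mul_left_comm]
    · rw [hρr q _ hq (mul_inv_cancel_left r _).symm, hρZ q' hq',
        hρr (q * q') ((r⁻¹ * _) * _) (mul_mem hq hq') (by
          rw [← mul_assoc r, mul_inv_cancel_left]; rfl),
        em _ _ hq hq', ← mul_assoc (τ _)]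
    · obtain ⟨a, ha, ea⟩ : ∃ a ∈ d.Z, ((q : (d.S : Subgroup C)) : C) = r * a :=
        ⟨_, hq, (mul_inv_cancel_left r _).symm⟩
      obtain ⟨a', ha', ea'⟩ : ∃ a ∈ d.Z, ((q' : (d.S : Subgroup C)) : C) = r * a :=
        ⟨_, hq', (mul_inv_cancel_left r _).symm⟩
      have e : (((q * q' : H) : (d.S : Subgroup C)) : C) = t0 * t0 * (a * a') := by
        show ((q : (d.S : Subgroup C)) : C) * ((q' : (d.S : Subgroup C)) : C) = _
        rw [ea, ea', hsq, show r * a * (r * a') = r * (a * r) * a' by group, ← hd.zS _ ha r hrS]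
        group
      rw [hρr q a ha ea, hρr q' a' ha' ea', hρZ (q * q') (by
        rw [e, hsq]; exact mul_mem (hr.inv r hrS hrT).2 (mul_mem ha ha')), mul_mul_mul_comm,
        ← map_mul, ← map_mul, ← map_mul]
      exact congrArg τ (Subtype.ext e)
  let ρ : H →* ℂˣ :=
    { toFun := ρf
      map_one' := by
        rw [hρZ 1 (by simp), ← map_one τ]
        exact congrArg τ (Subtype.ext rfl)
      map_mul' := hmul }
  set F : H → ℂ := fun q => (ρ q : ℂ)
  refine ⟨indFun H F, isGenChar_indFun H (isGenChar_of_char (isCharacter_of_irr (isIrrCharacter_linear ρ))),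
    fun s hs => ?_, fun s hs => ?_, fun s hs hno => ?_⟩
  · have hall : ∀ u : (d.S : Subgroup C),
        extendByZero H F (u⁻¹ * s * u) = (τ ⟨s, hd.zle b hs⟩ : ℂ) := by
      intro u
      have e : u⁻¹ * s * u = s := Subtype.ext (by
        show (u : C)⁻¹ * s * u = s
        rw [mul_assoc, ← hd.zS _ hs u u.2, inv_mul_cancel_left])
      rw [e, extendByZero_of_mem H F ((mem_reflSub hd hr).2 (Or.inl hs))]
      show ((ρf _ : ℂˣ) : ℂ) = _
      rw [hρZ _ hs]
    simp only [indFun, Finset.sum_congr rfl fun u _ => hall u, Finset.sum_const, Finset.card_univ,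
      nsmul_eq_mul, Nat.card_eq_fintype_card]
    ring
  · obtain ⟨z, hz, e⟩ : ∃ z ∈ d.Z, (s : C) = r * z := ⟨_, hs, (mul_inv_cancel_left r _).symm⟩
    have hsH : s ∈ H := (mem_reflSub hd hr).2 (Or.inr hs)
    let ys : (d.S : Subgroup C) := ⟨y, hyS⟩
    -- membership of conjugators
    have hval : ∀ u : (d.S : Subgroup C), extendByZero H F (u⁻¹ * s * u) =
        (if u ∈ H then (τ ⟨t0, ht0⟩ : ℂ) * (τ ⟨z, hd.zle b hz⟩ : ℂ) else 0) +
        if ys⁻¹ * u ∈ H then (τ ⟨t0, ht0⟩ : ℂ) * (τ ⟨c * z, hd.zle b (mul_mem hcZ hz)⟩ : ℂ) else 0 := by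
      intro u
      have hHcomm : ∀ k : (d.S : Subgroup C), k ∈ H → (k : C) * r = r * k := by
        intro k hk
        rcases (mem_reflSub hd hr).1 hk with hk | hk
        · exact (hd.zS _ hk r hrS).symm
        · have := hd.zS _ hk r hrS
          calc (k : C) * r = r * ((r⁻¹ * k) * r) := by group
            _ = r * (r * (r⁻¹ * k)) := by rw [this]
            _ = r * k := by group
      have hynH : ys ∉ H := by
        intro hh
        rcases (mem_reflSub hd hr).1 hh with hh | hh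
        · obtain ⟨k, hk⟩ := (pow_mem_Z_iff hd hr).1 hh
          have := h_pos hd hr
          rcases k with _ | k
          · omega
          · nlinarith
        · refine hrT ?_
          have h3 := mul_mem (pow_mem hr.xmem h) (inv_mem (hd.zle b0 hh))
          rwa [show x ^ h * (r⁻¹ * (ys : C))⁻¹ = r by show x ^ h * (r⁻¹ * x ^ h)⁻¹ = r; group] at h3
      by_cases hu : u ∈ H
      · have hu' : ys⁻¹ * u ∉ H := fun hh => hynH (by
          have := mul_mem hu (inv_mem hh)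
          rwa [show u * (ys⁻¹ * u)⁻¹ = ys by group] at this)
        have es : u⁻¹ * s * u = s := Subtype.ext (by
          show (u : C)⁻¹ * s * u = s
          rw [e, show (u : C)⁻¹ * (r * z) * u = (u : C)⁻¹ * r * (z * u) by group, ← hd.zS _ hz u u.2,
            show (u : C)⁻¹ * r * ((u : C) * z) = (u : C)⁻¹ * (r * u) * z by group, ← hHcomm u hu]
          group)
        rw [if_pos hu, if_neg hu', add_zero, es, extendByZero_of_mem H F hsH]
        show ((ρf _ : ℂˣ) : ℂ) = _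
        rw [hρr _ z hz e, Units.val_mul]
      rw [if_neg hu, zero_add]
      by_cases hu' : ys⁻¹ * u ∈ H
      · rw [if_pos hu']
        have es : ((u⁻¹ * s * u : (d.S : Subgroup C)) : C) = r * (c * z) := by
          set k : (d.S : Subgroup C) := ys⁻¹ * u with hk
          have hu2 : (u : C) = y * k := by
            show _ = y * (y⁻¹ * u)
            group
          show (u : C)⁻¹ * s * u = _
          rw [e, show (u : C)⁻¹ * (r * z) * u = (u : C)⁻¹ * r * (z * u) by group, ← hd.zS _ hz u u.2,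
            hu2, show (y * (k : C))⁻¹ * r * (y * k * z) = (k : C)⁻¹ * (y⁻¹ * r * y) * k * z by group,
            show y⁻¹ * r * y = r * c by rw [hc]; group,
            show (k : C)⁻¹ * (r * c) * k * z = (k : C)⁻¹ * r * (c * k) * z by group,
            ← hd.zS _ hcZ k k.2,
            show (k : C)⁻¹ * r * ((k : C) * c) * z = (k : C)⁻¹ * (r * k) * (c * z) by group,
            ← hHcomm k hu']
          group
        have hm : u⁻¹ * s * u ∈ H :=
          (mem_reflSub hd hr).2 (Or.inr (by rw [es, inv_mul_cancel_left]; exact mul_mem hcZ hz))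
        rw [extendByZero_of_mem H F hm]
        show ((ρf _ : ℂˣ) : ℂ) = _
        rw [hρr _ (c * z) (mul_mem hcZ hz) es, Units.val_mul]
      rw [if_neg hu', extendByZero_of_not_mem]
      intro hm
      rcases (mem_reflSub hd hr).1 hm with hm | hm
      · refine hrz ?_
        change (u : C)⁻¹ * s * u ∈ d.Z at hm
        have : (s : C) ∈ d.Z := by
          have h2 : (s : C) = (u : C) * ((u : C)⁻¹ * s * u) * (u : C)⁻¹ := by group
          rw [h2, hd.zS _ hm u u.2, mul_inv_cancel_right]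
          exact hm
        rw [eq_mul_inv_of_mul_eq e.symm]; exact mul_mem this (inv_mem hz)
      · -- a power of `x` centralising `r` modulo `Z`
        change r⁻¹ * ((u : C)⁻¹ * s * u) ∈ d.Z at hm
        rw [e, show (u : C)⁻¹ * (r * z) * u = (u : C)⁻¹ * r * (z * u) by group, ← hd.zS _ hz u u.2,
          show r⁻¹ * ((u : C)⁻¹ * r * ((u : C) * z)) = r⁻¹ * ((u : C)⁻¹ * r * u) * z by group,
          mul_mem_cancel_right hz] at hm
        have key : ∀ (v : C), v ∈ d.T b0 → r⁻¹ * (v⁻¹ * r * v) ∈ d.Z →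
            v ∈ d.Z ∨ y⁻¹ * v ∈ d.Z := by
          intro v hv hvm
          obtain ⟨i, hi, a, ha, rfl⟩ := gen_coset hd hr hv
          obtain ⟨z', hz', e'⟩ := refl_conj_pow hd hr hrS hrT i
          have hxi : x ^ i ∈ (d.S : Subgroup C) := pow_mem (x_mem_S hd hr) i
          rw [show (x ^ i * a)⁻¹ * r * (x ^ i * a) = a⁻¹ * (((x ^ i)⁻¹ * r * x ^ i) * a) by group,
            hd.zS a ha _ (mul_mem (mul_mem (inv_mem hxi) hrS) hxi), inv_mul_cancel_left, e',
            show r⁻¹ * (r * x ^ (2 * i) * z') = x ^ (2 * i) * z' by group,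
            mul_mem_cancel_right hz', pow_mem_Z_iff hd hr, Nat.mul_dvd_mul_iff_left two_pos] at hvm
          obtain ⟨k, rfl⟩ := hvm
          rcases k with _ | _ | k
          · exact Or.inl (by simpa using ha)
          · exact Or.inr (by simpa [hy] using ha)
          · exfalso; nlinarith
        by_cases huT : (u : C) ∈ d.T b0
        · rcases key _ huT hm with h' | h'
          · exact hu ((mem_reflSub hd hr).2 (Or.inl h'))
          · exact hu' ((mem_reflSub hd hr).2 (Or.inl h'))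
        · have hv := index_two hd hr hrS u.2 hrT huT
          have hm' : r⁻¹ * ((r⁻¹ * (u : C))⁻¹ * r * (r⁻¹ * u)) ∈ d.Z := by
            rwa [show (r⁻¹ * (u : C))⁻¹ * r * (r⁻¹ * u) = (u : C)⁻¹ * r * u by group]
          rcases key _ hv hm' with h' | h'
          · exact hu ((mem_reflSub hd hr).2 (Or.inr h'))
          · refine hu' ((mem_reflSub hd hr).2 (Or.inr ?_))
            show r⁻¹ * (y⁻¹ * (u : C)) ∈ d.Z
            obtain ⟨z', hz', e'⟩ := refl_inv_pow hd hr (inv_mem hrS)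
              (fun hh => hrT (by simpa using inv_mem hh)) h
            rw [inv_inv] at e'
            have e2 : r⁻¹ * y⁻¹ = z'⁻¹ * y * r⁻¹ := by
              rw [show r⁻¹ * y⁻¹ = (r⁻¹ * y * r)⁻¹ * r⁻¹ by group, hy, e']
              group
            rw [← mul_assoc, e2, show z'⁻¹ * y * r⁻¹ * (u : C) = z'⁻¹ * (y * (r⁻¹ * u)) by group]
            refine mul_mem (inv_mem hz') ?_
            have h2 : y * y ∈ d.Z := by rw [hy, ← pow_add, ← two_mul]; exact hr.xpow
            rw [show y * (r⁻¹ * (u : C)) = y * y * (y⁻¹ * (r⁻¹ * u)) by group]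
            exact mul_mem h2 h'
    have hcount : ∀ (a : (d.S : Subgroup C)) (w : ℂ),
        ∑ u : (d.S : Subgroup C), (if a * u ∈ H then w else 0) = (Nat.card H : ℂ) * w := by
      intro a w
      rw [← Finset.sum_filter, Finset.sum_const, nsmul_eq_mul, ← Fintype.card_subtype,
        ← Nat.card_eq_fintype_card]
      congr 2
      exact Nat.card_congr (Equiv.subtypeEquiv (Equiv.mulLeft a) fun u => Iff.rfl)
    have hH0 : (Nat.card H : ℂ) ≠ 0 := Nat.cast_ne_zero.2 Nat.card_pos.ne'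
    have h1 := hcount 1
    simp only [one_mul] at h1
    simp only [indFun]
    rw [Finset.sum_congr rfl fun u _ => hval u, Finset.sum_add_distrib, h1, hcount,
      ← mul_add, inv_mul_cancel_left₀ hH0]
    have hns : t0 * z ∉ d.Z := fun h' => hz0 (by
      have := mul_mem h' (inv_mem hz)
      rwa [mul_inv_cancel_right] at this)
    rw [R_ttype hd b τ (g := (s : C)) (mul_mem ht0 (hd.zle b hz)) hns
      (by rw [p2_of_mem_S hd s.2, e]; exact htrans z hz),
      show d.n b * (t0 * z) * (d.n b)⁻¹ = t0 * (c * z) by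
        rw [show d.n b * (t0 * z) * (d.n b)⁻¹ = d.n b * t0 * (z * (d.n b)⁻¹) by group,
          ← hd.zS _ hz _ (inv_mem (hd.nmem b)), ← mul_assoc, ht0c, mul_assoc],
      tv_mem τ (mul_mem ht0 (hd.zle b hz)), tv_mem τ (mul_mem ht0 (hd.zle b (mul_mem hcZ hz))),
      ← Units.val_mul, ← Units.val_mul, ← map_mul, ← map_mul]
    rfl
  · refine indFun_eq_zero_of_not_isConj H F fun u hu => ?_
    rcases (mem_reflSub hd hr).1 hu with hu | hu
    · refine hs ?_
      change (u : C)⁻¹ * s * u ∈ d.Z at hu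
      have h2 : (s : C) = (u : C) * ((u : C)⁻¹ * s * u) * (u : C)⁻¹ := by group
      rw [h2, hd.zS _ hu u u.2, mul_inv_cancel_right]
      exact hu
    · exact hno u u.2 hu

/-- The part of `R b τ` carried by the rotations. -/
theorem rot_part (b : Bool) : ∃ N : ℂ, ∀ τ : ↥(d.T b) →* ℂˣ, ∃ f : ↥(d.S : Subgroup C) → ℂ,
    IsGeneralizedCharacter (d.S : Subgroup C) f ∧
      (∀ s : (d.S : Subgroup C), (hs : (s : C) ∈ d.Z) → f s = N * (τ ⟨s, hd.zle b hs⟩ : ℂ)) ∧
      (∀ s : (d.S : Subgroup C), (s : C) ∈ d.T b0 → (s : C) ∉ d.Z → f s = d.R Ω b τ s) ∧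
      ∀ s : (d.S : Subgroup C), (s : C) ∉ d.T b0 → f s = 0 := by
  classical
  by_cases hb : b = b0
  swap
  · refine ⟨0, fun τ => ⟨0, isGenChar_zero, fun s hs => by simp, fun s hs hz => ?_, fun _ _ => rfl⟩⟩
    have hT : TType d (!b) (s : C) := by
      have hbb : (!b) = b0 := by cases b <;> cases b0 <;> simp_all
      rw [hbb]
      exact ⟨s, hs, hz, by rw [p2_of_mem_S hd s.2]⟩
    rw [R_other hd b τ (g := (s : C)) hT]
    rfl
  subst hb
  set T' := (d.T b).subgroupOf (d.S : Subgroup C) with hT'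
  refine ⟨(Nat.card (d.S : Subgroup C) : ℂ) / (Nat.card T' : ℂ), fun τ => ?_⟩
  let ρ : T' →* ℂˣ := τ.comp (Subgroup.subgroupOfEquivOfLe (hd.tle b)).toMonoidHom
  set F : T' → ℂ := fun q => (ρ q : ℂ)
  have hF : ∀ (w : (d.S : Subgroup C)) (hw : (w : C) ∈ d.T b),
      extendByZero T' F w = (τ ⟨w, hw⟩ : ℂ) := fun w hw => by
    rw [extendByZero_of_mem T' F (Subgroup.mem_subgroupOf.2 hw)]
    rfl
  refine ⟨indFun T' F, isGenChar_indFun T' (isGenChar_of_char (isCharacter_of_irr (isIrrCharacter_linear ρ))),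
    fun s hs => ?_, fun s hs hz => ?_, fun s hs => ?_⟩
  · have hall : ∀ u : (d.S : Subgroup C),
        extendByZero T' F (u⁻¹ * s * u) = (τ ⟨s, hd.zle b hs⟩ : ℂ) := by
      intro u
      have e : u⁻¹ * s * u = s := Subtype.ext (by
        show (u : C)⁻¹ * s * u = s
        rw [mul_assoc, ← hd.zS _ hs u u.2, inv_mul_cancel_left])
      rw [e, hF s (hd.zle b hs)]
    simp only [indFun, Finset.sum_congr rfl fun u _ => hall u, Finset.sum_const, Finset.card_univ,
      nsmul_eq_mul, Nat.card_eq_fintype_card]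
    ring
  · have hn : d.n b ∉ d.T b := fun hn => hz ((hd.nfix b s hs).1 (by
      rw [hd.tcomm b _ hn _ hs, mul_inv_cancel_right]))
    let ns : (d.S : Subgroup C) := ⟨d.n b, hd.nmem b⟩
    have hval : ∀ u : (d.S : Subgroup C), extendByZero T' F (u⁻¹ * s * u) =
        if (u : C) ∈ d.T b then (τ ⟨s, hs⟩ : ℂ) else (τ ⟨_, hd.nnorm b s hs⟩ : ℂ) := by
      intro u
      split_ifs with hu
      · have e : u⁻¹ * s * u = s := Subtype.ext (by
          show (u : C)⁻¹ * s * u = s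
          rw [mul_assoc, hd.tcomm b _ hs _ hu, inv_mul_cancel_left])
        rw [e, hF s hs]
      · have hw : d.n b * (u : C) ∈ d.T b := by
          have h1 := index_two hd hr (inv_mem (hd.nmem b)) u.2
            (fun hh => hn (by simpa using inv_mem hh)) hu
          rwa [inv_inv] at h1
        have e : ((u⁻¹ * s * u : (d.S : Subgroup C)) : C) = d.n b * s * (d.n b)⁻¹ := by
          show (u : C)⁻¹ * s * u = _
          rw [show (u : C)⁻¹ * s * u = (d.n b * (u : C))⁻¹ * ((d.n b * s * (d.n b)⁻¹) * (d.n b * u)) by group,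
            hd.tcomm b _ (hd.nnorm b s hs) _ hw, inv_mul_cancel_left]
        rw [hF _ (by rw [e]; exact hd.nnorm b s hs)]
        congr 3
    have hcount : ∀ (w : ℂ), ∑ u : (d.S : Subgroup C), (if (u : C) ∈ d.T b then w else 0) =
        (Nat.card T' : ℂ) * w := by
      intro w
      rw [← Finset.sum_filter, Finset.sum_const, nsmul_eq_mul, ← Fintype.card_subtype,
        ← Nat.card_eq_fintype_card]
      rfl
    have hS2 : (Nat.card (d.S : Subgroup C) : ℂ) = 2 * (Nat.card T' : ℂ) := by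
      rw [hT', Nat.card_congr (Subgroup.subgroupOfEquivOfLe (hd.tle b)).toEquiv, card_T hd hr, hr.card]
      push_cast
      ring
    have hT0 : (Nat.card T' : ℂ) ≠ 0 := Nat.cast_ne_zero.2 Nat.card_pos.ne'
    have hsum : ∀ (A B : ℂ), ∑ u : (d.S : Subgroup C), (if (u : C) ∈ d.T b then A else B) =
        (Nat.card T' : ℂ) * (A + B) := by
      intro A B
      rw [show (fun u : ↥(d.S : Subgroup C) => if (u : C) ∈ d.T b then A else B) =
        fun u : ↥(d.S : Subgroup C) => B + if (u : C) ∈ d.T b then (A - B) else 0 by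
          funext u; split_ifs <;> ring, Finset.sum_add_distrib, hcount, Finset.sum_const,
        Finset.card_univ, nsmul_eq_mul, ← Nat.card_eq_fintype_card, hS2]
      ring
    simp only [indFun]
    rw [Finset.sum_congr rfl fun u _ => hval u, hsum, inv_mul_cancel_left₀ hT0,
      R_ttype hd b τ (g := (s : C)) hs hz (by rw [p2_of_mem_S hd s.2]), tv_mem τ hs,
      tv_mem τ (hd.nnorm b s hs)]
  · refine indFun_eq_zero_of_not_isConj T' F fun u hu => hs ?_
    rw [Subgroup.mem_subgroupOf] at hu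
    change (u : C)⁻¹ * s * u ∈ d.T b at hu
    by_contra hs'
    by_cases huT : (u : C) ∈ d.T b
    · apply hs'
      have := mul_mem (mul_mem huT hu) (inv_mem huT)
      rwa [show (u : C) * ((u : C)⁻¹ * s * u) * (u : C)⁻¹ = s by group] at this
    · have h1 := index_two hd hr u.2 s.2 huT hs'
      have h2 := mul_mem (inv_mem h1) hu
      rw [show ((u : C)⁻¹ * s)⁻¹ * ((u : C)⁻¹ * s * u) = u by group] at h2
      exact huT h2

/-- The restrictions to `S` are generalized characters. -/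
theorem sylowGen : d.SylowGen Ω := by
  classical
  intro b τ
  obtain ⟨r, hrS, hrT⟩ := exists_refl hd hr
  have hrxT : r * x ∉ d.T b0 := fun hh => hrT (by
    simpa using mul_mem hh (inv_mem hr.xmem))
  have hrxS : r * x ∈ (d.S : Subgroup C) := mul_mem hrS (x_mem_S hd hr)
  obtain ⟨N1, h1⟩ := rot_part hd hr b
  obtain ⟨N2, h2⟩ := refl_part hd hr hrS hrT b
  obtain ⟨N3, h3⟩ := refl_part hd hr hrxS hrxT b
  set K : ℂ := 1 + (d.σ b : ℂ) * (d.q : ℂ) - (N1 + N2 + N3) with hK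
  have hR : ∀ τ : ↥(d.T b) →* ℂˣ, IsClassFunction (d.S : Subgroup C) (fun s => d.R Ω b τ s) :=
    fun τ g k => R_isClassFunction hd b τ g k
  -- the two reflection classes are different
  have hsep : ∀ s : C, (∃ u ∈ (d.S : Subgroup C), r⁻¹ * (u⁻¹ * s * u) ∈ d.Z) →
      (∃ u ∈ (d.S : Subgroup C), (r * x)⁻¹ * (u⁻¹ * s * u) ∈ d.Z) → False := by
    rintro s ⟨u, hu, hm⟩ ⟨u', hu', hm'⟩
    set v := u⁻¹ * u' with hv
    have hvS : v ∈ (d.S : Subgroup C) := mul_mem (inv_mem hu) hu'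
    have hw : r⁻¹ * (v⁻¹ * r * v) * x⁻¹ ∈ d.Z := by
      obtain ⟨a, ha, ea⟩ : ∃ a ∈ d.Z, u⁻¹ * s * u = r * a := ⟨_, hm, (mul_inv_cancel_left r _).symm⟩
      obtain ⟨a', ha', ea'⟩ : ∃ a ∈ d.Z, u'⁻¹ * s * u' = r * x * a :=
        ⟨_, hm', (mul_inv_cancel_left (r * x) _).symm⟩
      have e3 : v⁻¹ * (r * a) * v = r * x * a' := by rw [← ea, ← ea', hv]; group
      rw [show v⁻¹ * (r * a) * v = v⁻¹ * r * (a * v) by group, ← hd.zS _ ha v hvS,
        ← mul_assoc] at e3
      rw [eq_mul_inv_of_mul_eq e3,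
        show r⁻¹ * (r * x * a' * a⁻¹) * x⁻¹ = x * (a' * a⁻¹) * x⁻¹ by group,
        hd.zS _ (mul_mem ha' (inv_mem ha)) x (x_mem_S hd hr), mul_inv_cancel_right]
      exact mul_mem ha' (inv_mem ha)
    have key : ∀ w ∈ d.T b0, r⁻¹ * (w⁻¹ * r * w) * x⁻¹ ∈ d.Z → False := by
      intro w hwT hm0
      obtain ⟨i, -, a, ha, rfl⟩ := gen_coset hd hr hwT
      obtain ⟨z', hz', e'⟩ := refl_conj_pow hd hr hrS hrT i
      have hxi : x ^ i ∈ (d.S : Subgroup C) := pow_mem (x_mem_S hd hr) i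
      rw [show (x ^ i * a)⁻¹ * r * (x ^ i * a) = a⁻¹ * (((x ^ i)⁻¹ * r * x ^ i) * a) by group,
        hd.zS a ha _ (mul_mem (mul_mem (inv_mem hxi) hrS) hxi), inv_mul_cancel_left, e',
        show r⁻¹ * (r * x ^ (2 * i) * z') * x⁻¹ = x ^ (2 * i) * (z' * x⁻¹) by group,
        ← hd.zS _ hz' _ (inv_mem (x_mem_S hd hr)), ← mul_assoc, mul_mem_cancel_right hz'] at hm0
      have hp := h_pos hd hr
      rcases i with _ | j
      · have : x⁻¹ ∈ d.Z := by simpa using hm0
        have := (pow_mem_Z_iff hd hr (i := 1)).1 (by simpa using inv_mem this)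
        have := Nat.le_of_dvd one_pos this
        omega
      · rw [show 2 * (j + 1) = 2 * j + 1 + 1 by ring, pow_succ, mul_inv_cancel_right,
          pow_mem_Z_iff hd hr] at hm0
        have := (dvd_mul_right 2 h).trans hm0
        omega
    by_cases hvT : v ∈ d.T b0
    · exact key v hvT hw
    · refine key (r⁻¹ * v) (index_two hd hr hrS hvS hrT hvT) ?_
      rwa [show (r⁻¹ * v)⁻¹ * r * (r⁻¹ * v) = v⁻¹ * r * v by group]
  have hparts : ∀ τ : ↥(d.T b) →* ℂˣ, ∃ P : ↥(d.S : Subgroup C) → ℂ,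
      IsGeneralizedCharacter (d.S : Subgroup C) P ∧ ∀ s : (d.S : Subgroup C),
        d.R Ω b τ s - P s = if hs : (s : C) ∈ d.Z then K * (τ ⟨s, hd.zle b hs⟩ : ℂ) else 0 := by
    intro τ
    obtain ⟨f1, g1, a1, b1, c1⟩ := h1 τ
    obtain ⟨f2, g2, a2, b2, c2⟩ := h2 τ
    obtain ⟨f3, g3, a3, b3, c3⟩ := h3 τ
    refine ⟨f1 + f2 + f3, isGenChar_add (isGenChar_add g1 g2) g3, fun s => ?_⟩
    simp only [Pi.add_apply]
    by_cases hs : (s : C) ∈ d.Z
    · rw [dif_pos hs, a1 s hs, a2 s hs, a3 s hs, R_Z hd b τ hs, hK]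
      ring
    rw [dif_neg hs]
    -- conjugating inside `T`
    have hnorm : ∀ u ∈ (d.S : Subgroup C), ∀ w ∈ d.T b0, u⁻¹ * w * u ∈ d.T b0 := by
      intro u hu w hw
      by_cases huT : u ∈ d.T b0
      · exact mul_mem (mul_mem (inv_mem huT) hw) huT
      · have hwu : w * u ∉ d.T b0 := fun hh => huT (by
          have := mul_mem (inv_mem hw) hh
          rwa [inv_mul_cancel_left] at this)
        rw [mul_assoc]
        exact index_two hd hr hu (mul_mem (hd.tle b0 hw) hu) huT hwu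
    by_cases hsT : (s : C) ∈ d.T b0
    · have e2 : f2 s = 0 := c2 s hs fun u hu hm => hrT (by
        have h4 := mul_mem (hnorm u hu _ hsT) (inv_mem (hd.zle b0 hm))
        rwa [show u⁻¹ * (s : C) * u * (r⁻¹ * (u⁻¹ * s * u))⁻¹ = r by group] at h4)
      have e3 : f3 s = 0 := c3 s hs fun u hu hm => hrxT (by
        have h4 := mul_mem (hnorm u hu _ hsT) (inv_mem (hd.zle b0 hm))
        rwa [show u⁻¹ * (s : C) * u * ((r * x)⁻¹ * (u⁻¹ * s * u))⁻¹ = r * x by group] at h4)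
      rw [b1 s hsT hs, e2, e3]
      ring
    obtain ⟨u, hu, z, hz, hcase⟩ := refl_class hd hr hrS hrT s.2 hsT
    set us : (d.S : Subgroup C) := ⟨u, hu⟩
    have hcl : ∀ f : ↥(d.S : Subgroup C) → ℂ, IsClassFunction (d.S : Subgroup C) f →
        f (us⁻¹ * s * us) = f s := by
      intro f hf
      have := hf s us⁻¹
      rwa [inv_inv] at this
    rcases hcase with e | e
    · have hmem : r⁻¹ * ((us⁻¹ * s * us : (d.S : Subgroup C)) : C) ∈ d.Z := by
        show r⁻¹ * (u⁻¹ * (s : C) * u) ∈ d.Z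
        rw [e, inv_mul_cancel_left]; exact hz
      have e3 : f3 s = 0 := c3 s hs fun v hv hm => hsep s ⟨u, hu, hmem⟩ ⟨v, hv, hm⟩
      rw [c1 s hsT, e3, ← hcl f2 (isGenChar_iff_coeff_int.1 g2).1, b2 _ hmem, hcl _ (hR τ)]
      ring
    · have hmem : (r * x)⁻¹ * ((us⁻¹ * s * us : (d.S : Subgroup C)) : C) ∈ d.Z := by
        show (r * x)⁻¹ * (u⁻¹ * (s : C) * u) ∈ d.Z
        rw [e, inv_mul_cancel_left]; exact hz
      have e2 : f2 s = 0 := c2 s hs fun v hv hm => hsep s ⟨v, hv, hm⟩ ⟨u, hu, hmem⟩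
      rw [c1 s hsT, e2, ← hcl f3 (isGenChar_iff_coeff_int.1 g3).1, b3 _ hmem, hcl _ (hR τ)]
      ring
  -- integrality from the trivial character
  have hS0 : (Nat.card (d.S : Subgroup C) : ℂ) ≠ 0 := Nat.cast_ne_zero.2 Nat.card_pos.ne'
  have hZ0 : (Nat.card d.Z : ℂ) ≠ 0 := Nat.cast_ne_zero.2 Nat.card_pos.ne'
  obtain ⟨n, hn⟩ : ∃ n : ℤ, K * (Nat.card d.Z : ℂ) = (n : ℂ) * (Nat.card (d.S : Subgroup C) : ℂ) := by
    obtain ⟨P, hP, hPv⟩ := hparts 1
    have hgen : IsGeneralizedCharacter (d.S : Subgroup C) ((fun s : (d.S : Subgroup C) => d.R Ω b 1 s) - P) := by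
      refine isGenChar_sub ?_ hP
      have e : (fun s : (d.S : Subgroup C) => d.R Ω b 1 s) =
          (fun _ => 1) + ((d.σ b : ℤ) : ℂ) • (fun s : (d.S : Subgroup C) => St Ω ((d.S : Subgroup C).subtype s)) := by
        funext s
        simp [R_one hd b]
      rw [e]
      exact isGenChar_add (isGenChar_of_char isCharacter_one) (isGenChar_intSmul _ (isGenChar_St _))
    obtain ⟨n, hn⟩ := classInner_genChar_int hgen (isGenChar_of_char isCharacter_one)
    refine ⟨n, ?_⟩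
    rw [← hn, classInner]
    simp only [Pi.sub_apply, map_one, mul_one, hPv, MonoidHom.one_apply, Units.val_one,
      dite_eq_ite]
    rw [← Finset.sum_filter, Finset.sum_const, nsmul_eq_mul, ← Fintype.card_subtype,
      ← Nat.card_eq_fintype_card (α := {s : (d.S : Subgroup C) // (s : C) ∈ d.Z}),
      show Nat.card {s : (d.S : Subgroup C) // (s : C) ∈ d.Z} = Nat.card d.Z from
        Nat.card_congr (Subgroup.subgroupOfEquivOfLe hd.zle_S).toEquiv]
    field_simp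
  obtain ⟨P, hP, hPv⟩ := hparts τ
  set Z' := d.Z.subgroupOf (d.S : Subgroup C)
  let ρ : Z' →* ℂˣ := τ.comp ((Subgroup.inclusion (hd.zle b)).comp
    (Subgroup.subgroupOfEquivOfLe hd.zle_S).toMonoidHom)
  set F : Z' → ℂ := fun q => (ρ q : ℂ)
  have e : (fun s : (d.S : Subgroup C) => d.R Ω b τ s) = P + (n : ℂ) • indFun Z' F := by
    funext s
    simp only [Pi.add_apply, Pi.smul_apply, smul_eq_mul]
    have h4 := hPv s
    by_cases hs : (s : C) ∈ d.Z
    · rw [dif_pos hs] at h4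
      have hall : ∀ u : (d.S : Subgroup C),
          extendByZero Z' F (u⁻¹ * s * u) = (τ ⟨s, hd.zle b hs⟩ : ℂ) := by
        intro u
        have e : u⁻¹ * s * u = s := Subtype.ext (by
          show (u : C)⁻¹ * s * u = s
          rw [mul_assoc, ← hd.zS _ hs u u.2, inv_mul_cancel_left])
        rw [e, extendByZero_of_mem Z' F (Subgroup.mem_subgroupOf.2 hs)]
        rfl
      have hc : (Nat.card Z' : ℂ) = (Nat.card d.Z : ℂ) := by
        rw [Nat.card_congr (Subgroup.subgroupOfEquivOfLe hd.zle_S).toEquiv]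
      simp only [indFun]
      rw [Finset.sum_congr rfl fun u _ => hall u, Finset.sum_const, Finset.card_univ,
        nsmul_eq_mul, ← Nat.card_eq_fintype_card, hc]
      have hK' : K = (n : ℂ) * (Nat.card (d.S : Subgroup C) : ℂ) / (Nat.card d.Z : ℂ) := by
        rw [← hn]; field_simp
      rw [hK'] at h4
      field_simp at h4 ⊢
      linear_combination h4
    · rw [dif_neg hs, sub_eq_zero] at h4
      have h0 : indFun Z' F s = 0 := indFun_eq_zero_of_not_isConj Z' F fun u hu => hs (by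
        rw [Subgroup.mem_subgroupOf] at hu
        change (u : C)⁻¹ * s * u ∈ d.Z at hu
        have h2 : (s : C) = (u : C) * ((u : C)⁻¹ * s * u) * (u : C)⁻¹ := by group
        rw [h2, hd.zS _ hu u u.2, mul_inv_cancel_right]
        exact hu)
      rw [h0, mul_zero, add_zero]
      exact h4
  rw [e]
  exact isGenChar_add hP (isGenChar_intSmul _ (isGenChar_indFun Z'
    (isGenChar_of_char (isCharacter_of_irr (isIrrCharacter_linear ρ)))))

end Rot

end CfsgLib.BrauerOrder
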