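import Cfsg.Agent.Lib.BrauerOrder.Shapes
import Cfsg.Agent.Lib.CharTheory.TI
import Cfsg.Agent.Lib.Blocks.Principal

/-!
# Induction to the simple group: the isometry and the six characters
-/

set_option autoImplicit false
set_option linter.unusedSectionVars false
set_option linter.style.haveILetI false

namespace CfsgLib.BrauerOrder

open Cfsg CfsgLib.CharTheory CfsgLib.Blocks
open scoped ComplexConjugate

universe u v

section Gen

variable {G : Type u} [Group G] [Fintype G]

theorem signed_gen {a : G → ℂ} (ha : IsSignedIrr a) : IsGeneralizedCharacter G a := by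
  rcases ha with h | h
  · exact isGenChar_of_char (isCharacter_of_irr h)
  · simpa using isGenChar_neg (isGenChar_of_char (isCharacter_of_irr h))

theorem signed_degree {a : G → ℂ} (ha : IsSignedIrr a) : ∃ n : ℤ, n ≠ 0 ∧ a 1 = (n : ℂ) := by
  rcases ha with h | h
  · obtain ⟨d, hd, e⟩ := irr_degree_pos h
    exact ⟨(d : ℤ), by omega, by rw [e]; norm_cast⟩
  · obtain ⟨d, hd, e⟩ := irr_degree_pos h
    exact ⟨-(d : ℤ), by omega, by
      rw [Pi.neg_apply, neg_eq_iff_eq_neg] at e; rw [e]; norm_cast⟩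

theorem coeff_int {φ a : G → ℂ} (hφ : IsGeneralizedCharacter G φ) (ha : IsSignedIrr a) :
    ∃ n : ℤ, classInner φ a = (n : ℂ) := by
  rcases ha with h | h
  · exact (isGenChar_iff_coeff_int.mp hφ).2 a h
  · obtain ⟨n, hn⟩ := (isGenChar_iff_coeff_int.mp hφ).2 _ h
    rw [classInner_neg_right, neg_eq_iff_eq_neg] at hn
    exact ⟨-n, by rw [hn]; norm_cast⟩

theorem norm_int {φ : G → ℂ} (hφ : IsGeneralizedCharacter G φ) :
    ∃ n : ℕ, classInner φ φ = (n : ℂ) ∧ (n = 0 → φ = 0) := by
  obtain ⟨c, hθ, -, hn⟩ := classInner_self_eq_sum_sq hφ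
  have h0 : 0 ≤ ∑ ψ : IrrCharacter G, c ψ ^ 2 := Finset.sum_nonneg fun _ _ => sq_nonneg _
  refine ⟨(∑ ψ : IrrCharacter G, c ψ ^ 2).toNat, ?_, fun h => ?_⟩
  · rw [hn, show ((∑ ψ : IrrCharacter G, c ψ ^ 2).toNat : ℂ) =
      (((∑ ψ : IrrCharacter G, c ψ ^ 2).toNat : ℤ) : ℂ) by norm_cast, Int.toNat_of_nonneg h0]
  · have h1 : ∑ ψ : IrrCharacter G, c ψ ^ 2 = 0 := by omega
    rw [hθ]
    refine Finset.sum_eq_zero fun ψ hψ => ?_
    rw [pow_eq_zero_iff (n := 2) (by norm_num) |>.1 ((Finset.sum_eq_zero_iff_of_nonneg fun _ _ => sq_nonneg _).1 h1 ψ hψ)]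
    simp

/-- A generalized character of norm two is the sum of two signed irreducible characters. -/
theorem exists_two {φ : G → ℂ} (hφ : IsGeneralizedCharacter G φ) (hn : classInner φ φ = 2) :
    ∃ a b : G → ℂ, IsSignedIrr a ∧ IsSignedIrr b ∧ classInner a b = 0 ∧ φ = a + b := by
  obtain ⟨c, hθ, hc, hsq⟩ := classInner_self_eq_sum_sq hφ
  rw [hn] at hsq
  have hs : ∑ ψ : IrrCharacter G, c ψ ^ 2 = 2 := by exact_mod_cast hsq.symm
  obtain ⟨i, hi⟩ : ∃ i, c i ≠ 0 := by
    by_contra hall
    push Not at hall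
    simp [hall] at hs
  have hle : c i ^ 2 ≤ 2 := hs ▸ Finset.single_le_sum (fun ψ _ => sq_nonneg (c ψ)) (Finset.mem_univ i)
  have h1 : c i = 1 ∨ c i = -1 := by
    have : -2 < c i ∧ c i < 2 := ⟨by nlinarith, by nlinarith⟩
    omega
  set a : G → ℂ := (c i : ℂ) • (i : G → ℂ) with ha
  have hsa : IsSignedIrr a := by
    rcases h1 with e | e
    · exact Or.inl (by rw [ha, e, Int.cast_one, one_smul]; exact i.2)
    · exact Or.inr (by rw [ha, e, Int.cast_neg, Int.cast_one, neg_smul, one_smul, neg_neg]; exact i.2)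
  have hsq' : (c i : ℂ) * (c i : ℂ) = 1 := by rcases h1 with e | e <;> rw [e] <;> norm_num
  have hia : classInner φ a = 1 := by
    rw [ha, classInner_smul_right, hc i, map_intCast, hsq']
  have hai : classInner a φ = 1 := by rw [← classInner_comm, hia, map_one]
  have haa := classInner_self_signed hsa
  refine ⟨a, φ - a, hsa, irr_or_neg_of_norm_one (isGenChar_sub hφ (signed_gen hsa)) ?_, ?_, (add_sub_cancel a φ).symm⟩
  · rw [classInner_sub_left, classInner_sub_right, classInner_sub_right, hn, hia, hai, haa]; norm_num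
  · rw [classInner_sub_right, hai, haa, sub_self]

/-- A summand of a sum of two signed irreducible characters is orthogonal to what the sum is orthogonal to. -/
theorem orth_of_sum {a b e : G → ℂ} (ha : IsSignedIrr a) (he : IsSignedIrr e)
    (hab : classInner a b = 0) (h : classInner (a + b) e = 0) : classInner a e = 0 := by
  rcases signed_cases ha he with h0 | ⟨ε, hε, rfl⟩
  · exact h0
  exfalso
  have hε0 : ε ≠ 0 := by rcases hε with rfl | rfl <;> norm_num
  rw [classInner_smul_left] at hab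
  have heb : classInner b e = 0 := by
    rw [← classInner_comm, (mul_eq_zero.mp hab).resolve_left hε0, map_zero]
  rw [classInner_add_left, classInner_smul_left, classInner_self_signed he, heb, mul_one, add_zero] at h
  exact hε0 h

variable {M : Ideal AlgInt}

/-- Membership in the principal block, up to sign. -/
def InB0 (M : Ideal AlgInt) (a : G → ℂ) : Prop :=
  ∃ χ ∈ principalBlock M G, a = (χ : G → ℂ) ∨ a = -(χ : G → ℂ)

/-- The principal block part of the degree. -/
noncomputable def deg0 (M : Ideal AlgInt) (φ : G → ℂ) : ℂ :=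
  ∑ χ ∈ bset (principalBlock M G), classInner φ (χ : G → ℂ) * (χ : G → ℂ) 1

theorem deg0_add (φ ψ : G → ℂ) : deg0 M (φ + ψ) = deg0 M φ + deg0 M ψ := by
  simp only [deg0, classInner_add_left, add_mul, Finset.sum_add_distrib]

theorem deg0_neg (φ : G → ℂ) : deg0 M (-φ) = -deg0 M φ := by
  simp only [deg0, classInner_neg_left, neg_mul, Finset.sum_neg_distrib]

theorem deg0_irr (χ₀ : IrrCharacter G) [Decidable (χ₀ ∈ principalBlock M G)] :
    deg0 M (χ₀ : G → ℂ) = if χ₀ ∈ principalBlock M G then (χ₀ : G → ℂ) 1 else 0 := by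
  classical
  rw [deg0]
  split_ifs with h
  · rw [Finset.sum_eq_single χ₀, classInner_irr_self χ₀.2, one_mul]
    · exact fun χ _ hne => by rw [classInner_irr_ne χ₀.2 χ.2 (fun e => hne (Subtype.ext e.symm)), zero_mul]
    · exact fun h' => absurd (mem_bset.2 h) h'
  · refine Finset.sum_eq_zero fun χ hχ => ?_
    rw [classInner_irr_ne χ₀.2 χ.2 (fun e => h ((Subtype.ext e : χ₀ = χ) ▸ mem_bset.1 hχ)), zero_mul]

theorem deg0_signed {a : G → ℂ} (ha : IsSignedIrr a) :
    (InB0 M a ∧ deg0 M a = a 1) ∨ (¬ InB0 M a ∧ deg0 M a = 0) := by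
  classical
  rcases ha with h | h
  · have e := deg0_irr (M := M) ⟨a, h⟩
    by_cases hm : (⟨a, h⟩ : IrrCharacter G) ∈ principalBlock M G
    · exact Or.inl ⟨⟨_, hm, Or.inl rfl⟩, by rw [if_pos hm] at e; exact e⟩
    · refine Or.inr ⟨?_, by rw [if_neg hm] at e; exact e⟩
      rintro ⟨χ, hχ, e' | e'⟩
      · exact hm ((Subtype.ext e' : (⟨a, h⟩ : IrrCharacter G) = χ) ▸ hχ)
      · have := congrFun e' 1
        obtain ⟨n, hn, en⟩ := irr_degree_pos h
        obtain ⟨m, hm', em⟩ := irr_degree_pos χ.2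
        rw [Pi.neg_apply, en, em] at this
        have h2 : ((n + m : ℕ) : ℂ) = 0 := by push_cast; linear_combination this
        have := Nat.cast_eq_zero.1 h2
        omega
  · have e := deg0_irr (M := M) ⟨-a, h⟩
    by_cases hm : (⟨-a, h⟩ : IrrCharacter G) ∈ principalBlock M G
    · refine Or.inl ⟨⟨_, hm, Or.inr (neg_neg a).symm⟩, ?_⟩
      rw [if_pos hm, deg0_neg] at e
      exact neg_inj.1 e
    · refine Or.inr ⟨?_, ?_⟩
      · rintro ⟨χ, hχ, e' | e'⟩
        · obtain ⟨n, hn, en⟩ := irr_degree_pos h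
          obtain ⟨m, hm', em⟩ := irr_degree_pos χ.2
          rw [e', Pi.neg_apply, em] at en
          have h2 : ((n + m : ℕ) : ℂ) = 0 := by push_cast; linear_combination -en
          have := Nat.cast_eq_zero.1 h2
          omega
        · exact hm ((Subtype.ext ((congrArg (fun f => -f) e').trans (neg_neg _)) : (⟨-a, h⟩ : IrrCharacter G) = χ) ▸ hχ)
      · rw [if_neg hm, deg0_neg, neg_eq_zero] at e; exact e

/-- The principal block part of a class function vanishing on regular elements has degree zero. -/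
theorem deg0_eq_zero (hM : IsPModular 2 M) {φ : G → ℂ} (h : ∀ g, ¬ 2 ∣ orderOf g → φ g = 0) :
    deg0 M φ = 0 := by
  rw [deg0]
  simp only [classInner, Finset.mul_sum, Finset.sum_mul]
  rw [Finset.sum_comm]
  refine Finset.sum_eq_zero fun g _ => ?_
  by_cases hg : 2 ∣ orderOf g
  · have h0 := weak_orth_conj hM (principalBlock_isPBlock (M := M) (G := G)) (x := (1 : G)) (y := g)
      (by simp) hg
    calc ∑ χ ∈ bset (principalBlock M G), (Nat.card G : ℂ)⁻¹ * (φ g * conj ((χ : G → ℂ) g)) * (χ : G → ℂ) 1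
        = (Nat.card G : ℂ)⁻¹ * φ g *
            ∑ χ ∈ bset (principalBlock M G), (χ : G → ℂ) 1 * conj ((χ : G → ℂ) g) := by
          rw [Finset.mul_sum]; exact Finset.sum_congr rfl fun χ _ => by ring
      _ = 0 := by rw [h0, mul_zero]
  · exact Finset.sum_eq_zero fun χ _ => by rw [h g hg]; ring

end Gen

variable {G : Type u} [Group G] [Fintype G] {z : G} [Fintype (Cz z)] {Ω : Type v} [MulAction (Cz z) Ω]
  {D : Sys G z} (hD : D.Spec Ω)

omit [Fintype (Cz z)] in
theorem invol_unique {g a b : G} {i j : ℕ} (hi : g ^ i = a) (hj : g ^ j = b) (ha : orderOf a = 2)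
    (hb : orderOf b = 2) : a = b := by
  set N := orderOf g with hN
  have hpos : 0 < N := orderOf_pos g
  have key : ∀ {a : G} {i : ℕ}, g ^ i = a → orderOf a = 2 → a = g ^ (N / 2) := by
    intro a i hi ha
    obtain ⟨h1, h2⟩ := CfsgLib.Involutions.orderOf_eq_two_iff'.1 ha
    have d1 : N ∣ 2 * i := orderOf_dvd_iff_pow_eq_one.2 (by rw [two_mul, pow_add, hi, h1])
    have d2 : ¬ N ∣ i := fun h => h2 (by rw [← hi]; exact orderOf_dvd_iff_pow_eq_one.1 h)
    have he : 2 ∣ N := by
      by_contra hodd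
      exact d2 ((Nat.prime_two.coprime_iff_not_dvd.2 hodd).symm.dvd_of_dvd_mul_left d1)
    obtain ⟨t, ht⟩ := he
    have d3 : t ∣ i := Nat.dvd_of_mul_dvd_mul_left two_pos (ht ▸ d1)
    obtain ⟨r, rfl⟩ := d3
    have hr : ¬ 2 ∣ r := fun ⟨s, hs⟩ => d2 ⟨s, by rw [hs, ht]; ring⟩
    obtain ⟨s, rfl⟩ : Odd r := Nat.odd_iff.2 (by omega)
    rw [← hi, show t * (2 * s + 1) = N * s + t by rw [ht]; ring, pow_add, pow_mul, hN, pow_orderOf_eq_one,
      one_pow, one_mul]
    congr 1
    omega
  rw [key hi ha, key hj hb]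

include hD

theorem ti_set : ∀ g : G, g ∉ Subgroup.centralizer ({z} : Set G) →
    ∀ s ∈ {x : G | ∃ i : ℕ, x ^ i = z}, g * s * g⁻¹ ∈ {x : G | ∃ i : ℕ, x ^ i = z} → s = 1 := by
  rintro g hg s ⟨i, hi⟩ ⟨j, hj⟩
  refine absurd (Subgroup.mem_centralizer_singleton_iff.2 ?_) hg
  have h1 : (g * s * g⁻¹) ^ i = g * z * g⁻¹ := by rw [conj_pow, hi]
  have h2 := invol_unique (g := g * s * g⁻¹) h1 hj (by rw [conj_orderOf, hD.zord]) hD.zord
  exact mul_inv_eq_iff_eq_mul.1 h2

omit hD in
/-- Induction to `G`. -/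
noncomputable abbrev Sys.up (D : Sys G z) (f : Cz z → ℂ) : G → ℂ :=
  let _ := D; indFun (Subgroup.centralizer ({z} : Set G)) f

theorem supp_zero {f : Cz z → ℂ} (hf : D.Supp f) :
    ∀ x : Cz z, (x : G) ∉ {x : G | ∃ i : ℕ, x ^ i = z} → f x = 0 := by
  intro x hx
  refine hf x fun i hi => hx ⟨i, ?_⟩
  have := congrArg Subtype.val hi
  rw [hD.zcv] at this
  exact this

theorem supp_one {f : Cz z → ℂ} (hf : D.Supp f) : f 1 = 0 :=
  hf 1 fun i hi => (zc_ne hD).1 (by rw [← hi, one_pow])

theorem inner_up {f f' : Cz z → ℂ} (hf : D.Supp f) (hf' : D.Supp f') (hc' : IsClassFunction (Cz z) f') :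
    classInner (D.up f) (D.up f') = classInner f f' :=
  classInner_indFun_of_TI _ _ (ti_set hD) hc' (supp_zero hD hf) (supp_zero hD hf') (supp_one hD hf')

theorem up_one {f : Cz z → ℂ} (hf : D.Supp f) : D.up f 1 = 0 := by
  rw [Sys.up, indFun_apply_one, supp_one hD hf, mul_zero]

theorem up_regular {f : Cz z → ℂ} (hf : D.Supp f) {g : G} (hg : ¬ 2 ∣ orderOf g) : D.up f g = 0 := by
  rw [Sys.up, indFun]
  refine mul_eq_zero_of_right _ (Finset.sum_eq_zero fun x _ => ?_)
  by_cases hx : x⁻¹ * g * x ∈ Subgroup.centralizer ({z} : Set G)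
  · rw [extendByZero_of_mem _ _ hx]
    refine supp_zero hD hf ⟨_, hx⟩ ?_
    rintro ⟨i, hi⟩
    refine hg ?_
    have h1 : orderOf (x⁻¹ * g * x) = orderOf g := by
      have := conj_orderOf x⁻¹ g
      rwa [inv_inv] at this
    have h2 := orderOf_pow_dvd (x := x⁻¹ * g * x) i
    rw [show (x⁻¹ * g * x) ^ i = z from hi, hD.zord, h1] at h2
    exact h2
  · exact extendByZero_of_not_mem _ _ hx

theorem inner_up_one (f : Cz z → ℂ) : classInner (D.up f) (fun _ : G => (1 : ℂ)) = classInner f D.one :=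
  frobenius_reciprocity _ f isClassFunction_one

theorem inner_th :
    classInner (D.th1 Ω) (D.th1 Ω) = 3 ∧ classInner (D.th1' Ω) (D.th1' Ω) = 3 ∧
    classInner (D.th2 Ω) (D.th2 Ω) = 3 ∧ classInner (D.th1 Ω) (D.th1' Ω) = 1 ∧
    classInner (D.th1 Ω) (D.th2 Ω) = 1 ∧ classInner (D.th1' Ω) (D.th2 Ω) = -1 ∧
    classInner (D.th1 Ω) D.one = -1 ∧ classInner (D.th1' Ω) D.one = 0 ∧ classInner (D.th2 Ω) D.one = -1 := by
  obtain ⟨i1, i2, i3, i4, i5, i6, i7, i8, i9, i10⟩ := inner_basic hD
  obtain ⟨j1, j2, j3, j4, j5, j6, j7, j8, j9, j10, j11⟩ := inner_six hD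
  have sw : ∀ {a b : Cz z → ℂ} {c : ℂ}, classInner a b = c → classInner b a = conj c := fun {a b c} h => by
    rw [← classInner_comm, h]
  have i3' := sw i3; have i6' := sw i6; have i7' := sw i7; have i8' := sw i8; have i9' := sw i9
  have i10' := sw i10
  have j3' := sw j3; have j4' := sw j4; have j5' := sw j5; have j6' := sw j6; have j7' := sw j7
  have j8' := sw j8; have j9' := sw j9; have j10' := sw j10; have j11' := sw j11
  simp only [map_zero] at i3' i6' i7' i8' i9' i10' j3' j4' j5' j6' j7' j8' j9' j10' j11'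
  refine ⟨?_, ?_, ?_, ?_, ?_, ?_, ?_, ?_, ?_⟩ <;>
    simp only [Sys.th1, Sys.th1', Sys.th2, R_one_false hD, classInner_sub_left, classInner_sub_right,
      i1, i2, i3, i4, i5, i6, i7, i8, i9, i10, i3', i6', i7', i8', i9', i10', j1, j2, j3, j4, j5, j6, j7,
      j8, j9, j10, j11, j3', j4', j5', j6', j7', j8', j9', j10', j11'] <;> norm_num

variable (hgen : ∀ (b : Bool) (τ : ↥(D.core.T b) →* ℂˣ), IsGeneralizedCharacter (Cz z) (D.core.R Ω b τ))
  {M : Ideal AlgInt} (hM : IsPModular 2 M)
include hgen hM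

omit hD hgen hM in
/-- The six characters: `e 0` is principal, `e 1` to `e 5` are `A, B, C, Y, F`. -/
structure Sys.Six (D : Sys G z) (Ω : Type v) [MulAction (Cz z) Ω] (M : Ideal AlgInt)
    (e : Fin 6 → G → ℂ) : Prop where
  zero : e 0 = fun _ => 1
  signed : ∀ i, IsSignedIrr (e i)
  orth : ∀ i j, classInner (e i) (e j) = if i = j then 1 else 0
  th1 : D.up (D.th1 Ω) = -e 0 + e 1 + e 2
  th1' : D.up (D.th1' Ω) = e 1 + e 3 + e 5
  th2 : D.up (D.th2 Ω) = -(e 0 + e 4 + e 3)
  inB0 : ∀ i, InB0 M (e i)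

theorem exists_six : ∃ e : Fin 6 → G → ℂ, D.Six Ω M e := by
  classical
  obtain ⟨g1, g1', g2⟩ := gen_th hD hgen
  obtain ⟨s1, s1', s2⟩ := supp_th hD
  obtain ⟨c1, c1', c2⟩ := classFun_th hD
  obtain ⟨n11, n22, n33, n12, n13, n23, o1, o2, o3⟩ := inner_th hD
  have hsC : IsGeneralizedCharacter (Cz z) (D.th1 Ω) := g1
  set P := D.up (D.th1 Ω)
  set P' := D.up (D.th1' Ω)
  set R2 := D.up (D.th2 Ω)
  have hP : IsGeneralizedCharacter G P := isGenChar_indFun _ g1
  have hP' : IsGeneralizedCharacter G P' := isGenChar_indFun _ g1'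
  have hR2 : IsGeneralizedCharacter G R2 := isGenChar_indFun _ g2
  have PP : classInner P P = 3 := (inner_up hD s1 s1 c1).trans n11
  have P'P' : classInner P' P' = 3 := (inner_up hD s1' s1' c1').trans n22
  have RR : classInner R2 R2 = 3 := (inner_up hD s2 s2 c2).trans n33
  have PP' : classInner P P' = 1 := (inner_up hD s1 s1' c1').trans n12
  have PR : classInner P R2 = 1 := (inner_up hD s1 s2 c2).trans n13
  have P'R : classInner P' R2 = -1 := (inner_up hD s1' s2 c2).trans n23
  set o : G → ℂ := fun _ => 1 with ho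
  have so : IsSignedIrr o := Or.inl isIrrCharacter_one
  have oo := classInner_self_signed so
  have Po : classInner P o = -1 := (inner_up_one hD _).trans o1
  have P'o : classInner P' o = 0 := (inner_up_one hD _).trans o2
  have Ro : classInner R2 o = -1 := (inner_up_one hD _).trans o3
  have sw : ∀ {a b : G → ℂ} {c : ℂ}, classInner a b = c → classInner b a = conj c := fun {a b c} h => by
    rw [← classInner_comm, h]
  -- the first two
  obtain ⟨A', B', sA', sB', AB', eP'⟩ : ∃ a b : G → ℂ, IsSignedIrr a ∧ IsSignedIrr b ∧ classInner a b = 0 ∧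
      P + o = a + b := exists_two (isGenChar_add hP (signed_gen so)) (by
    rw [classInner_add_left, classInner_add_right, classInner_add_right, PP, Po, oo, sw Po]; norm_num)
  have hor : classInner (A' + B') o = 0 := by
    rw [← eP', classInner_add_left, Po, oo]; norm_num
  obtain ⟨x, hx⟩ := coeff_int hP' sA'
  obtain ⟨y, hy⟩ := coeff_int hP' sB'
  have hxy : x + y = 1 := by
    have h : classInner P' (A' + B') = 1 := by
      rw [← eP', classInner_add_right, sw PP', P'o, add_zero, map_one]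
    rw [classInner_add_right, hx, hy] at h
    exact_mod_cast h
  have hb : x ^ 2 + y ^ 2 ≤ 3 := by
    obtain ⟨n, hn, -⟩ := norm_int (isGenChar_sub (isGenChar_sub hP' (isGenChar_intSmul x (signed_gen sA')))
      (isGenChar_intSmul y (signed_gen sB')))
    simp only [classInner_sub_left, classInner_sub_right, classInner_smul_left, classInner_smul_right,
      P'P', hx, hy, sw hx, sw hy, classInner_self_signed sA', classInner_self_signed sB', AB', sw AB',
      map_intCast, map_zero] at hn
    have h : ((3 : ℤ) - x ^ 2 - y ^ 2 : ℂ) = ((n : ℤ) : ℂ) := by push_cast; linear_combination hn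
    have h' : (3 : ℤ) - x ^ 2 - y ^ 2 = (n : ℤ) := by exact_mod_cast h
    omega
  obtain ⟨A, B, sA, sB, AB, eP, P'A, P'B⟩ : ∃ A B : G → ℂ, IsSignedIrr A ∧ IsSignedIrr B ∧
      classInner A B = 0 ∧ P + o = A + B ∧ classInner P' A = 1 ∧ classInner P' B = 0 := by
    have hxx : x = 0 ∨ x = 1 := by
      have : -2 < x ∧ x < 2 := ⟨by nlinarith, by nlinarith⟩
      rcases (show x = -1 ∨ x = 0 ∨ x = 1 by omega) with rfl | h
      · exfalso
        rw [show y = 2 by omega] at hb
        norm_num at hb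
      · exact h
    rcases hxx with rfl | rfl
    · exact ⟨B', A', sB', sA', by rw [sw AB', map_zero], by rw [eP', add_comm],
        by rw [hy, show y = 1 by omega, Int.cast_one], by rw [hx, Int.cast_zero]⟩
    · exact ⟨A', B', sA', sB', AB', eP', by rw [hx, Int.cast_one], by rw [hy, show y = 0 by omega, Int.cast_zero]⟩
  have hor' : classInner (A + B) o = 0 := by rw [← eP, classInner_add_left, Po, oo]; norm_num
  have Ao : classInner A o = 0 := orth_of_sum sA so AB hor'
  have Bo : classInner B o = 0 := by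
    rwa [classInner_add_left, Ao, zero_add] at hor'
  have AA := classInner_self_signed sA
  have BB := classInner_self_signed sB
  -- the second function
  obtain ⟨C', F', sC', sF', CF', eP''⟩ : ∃ a b : G → ℂ, IsSignedIrr a ∧ IsSignedIrr b ∧ classInner a b = 0 ∧
      P' - A = a + b := exists_two (isGenChar_sub hP' (signed_gen sA)) (by
    rw [classInner_sub_left, classInner_sub_right, classInner_sub_right, P'P', P'A, AA, sw P'A, map_one]
    norm_num)
  -- the third function
  have gR : IsGeneralizedCharacter G (-(R2 + o)) := isGenChar_neg (isGenChar_add hR2 (signed_gen so))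
  obtain ⟨u, hu⟩ := coeff_int hR2 sA
  obtain ⟨w, hw⟩ := coeff_int hR2 sB
  have huw : u + w = 0 := by
    have h : classInner R2 (A + B) = 0 := by
      rw [← eP, classInner_add_right, sw PR, Ro, map_one]; norm_num
    rw [classInner_add_right, hu, hw] at h
    exact_mod_cast h
  have hw' : w = -u := by omega
  subst hw'
  have hu0 : u = 0 := by
    obtain ⟨n, hn, hn0⟩ := norm_int (isGenChar_sub (isGenChar_sub (isGenChar_add hR2 (signed_gen so))
      (isGenChar_intSmul u (signed_gen sA))) (isGenChar_intSmul (-u) (signed_gen sB)))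
    simp only [classInner_sub_left, classInner_sub_right, classInner_add_left, classInner_add_right,
      classInner_smul_left, classInner_smul_right, RR, Ro, sw Ro, oo, hu, hw, sw hu, sw hw, AA, BB, AB, sw AB,
      Ao, Bo, sw Ao, sw Bo, map_intCast, map_zero, map_neg, map_one] at hn
    push_cast at hn
    have h : ((2 : ℤ) - 2 * u ^ 2 : ℂ) = ((n : ℤ) : ℂ) := by push_cast; linear_combination hn
    have h' : (2 : ℤ) - 2 * u ^ 2 = (n : ℤ) := by exact_mod_cast h
    by_contra hne
    have h1 : u = 1 ∨ u = -1 := by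
      have : -2 < u ∧ u < 2 := ⟨by nlinarith, by nlinarith⟩
      omega
    have hz := hn0 (by rcases h1 with e | e <;> rw [e] at h' <;> omega)
    have e1 := congrFun hz 1
    simp only [Pi.sub_apply, Pi.add_apply, Pi.smul_apply, smul_eq_mul, Pi.zero_apply] at e1
    have e2 := congrFun eP 1
    simp only [Pi.add_apply] at e2
    rw [show P 1 = 0 from up_one hD s1] at e2
    rw [show R2 1 = 0 from up_one hD s2] at e1
    obtain ⟨a, ha, ea⟩ := signed_degree sA
    obtain ⟨b, hb, eb⟩ := signed_degree sB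
    simp only [ea, eb, ho] at e1 e2
    have f1 : (0 : ℤ) + 1 - u * a - -u * b = 0 := by exact_mod_cast e1
    have f2 : (0 : ℤ) + 1 = a + b := by exact_mod_cast e2
    rcases h1 with rfl | rfl <;> omega
  subst hu0
  obtain ⟨v1, hv1⟩ := coeff_int gR sC'
  obtain ⟨v2, hv2⟩ := coeff_int gR sF'
  have RA : classInner (-(R2 + o)) A = 0 := by
    rw [classInner_neg_left, classInner_add_left, hu, sw Ao]; simp
  have RB : classInner (-(R2 + o)) B = 0 := by
    rw [classInner_neg_left, classInner_add_left, hw, sw Bo]; simp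
  have hRn : classInner (-(R2 + o)) (-(R2 + o)) = 2 := by
    rw [classInner_neg_left, classInner_neg_right, classInner_add_left, classInner_add_right,
      classInner_add_right, RR, Ro, oo, sw Ro, map_neg, map_one]
    norm_num
  have hv : v1 + v2 = 1 := by
    have h : classInner (-(R2 + o)) (C' + F') = 1 := by
      rw [← eP'', classInner_sub_right, RA, classInner_neg_left, classInner_add_left, sw P'R, sw P'o]
      simp
    rw [classInner_add_right, hv1, hv2] at h
    exact_mod_cast h
  have hvb : v1 ^ 2 + v2 ^ 2 ≤ 2 := by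
    obtain ⟨n, hn, -⟩ := norm_int (isGenChar_sub (isGenChar_sub gR (isGenChar_intSmul v1 (signed_gen sC')))
      (isGenChar_intSmul v2 (signed_gen sF')))
    simp only [classInner_sub_left, classInner_sub_right, classInner_smul_left, classInner_smul_right,
      hRn, hv1, hv2, sw hv1, sw hv2, classInner_self_signed sC', classInner_self_signed sF', CF', sw CF',
      map_intCast, map_zero] at hn
    have h : ((2 : ℤ) - v1 ^ 2 - v2 ^ 2 : ℂ) = ((n : ℤ) : ℂ) := by push_cast; linear_combination hn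
    have h' : (2 : ℤ) - v1 ^ 2 - v2 ^ 2 = (n : ℤ) := by exact_mod_cast h
    omega
  obtain ⟨C, F, sC, sF, CF, eP2, RC, RF⟩ : ∃ C F : G → ℂ, IsSignedIrr C ∧ IsSignedIrr F ∧
      classInner C F = 0 ∧ P' - A = C + F ∧ classInner (-(R2 + o)) C = 1 ∧
      classInner (-(R2 + o)) F = 0 := by
    have hxx : v1 = 0 ∨ v1 = 1 := by
      have : -2 < v1 ∧ v1 < 2 := ⟨by nlinarith, by nlinarith⟩
      rcases (show v1 = -1 ∨ v1 = 0 ∨ v1 = 1 by omega) with rfl | h
      · exfalso
        rw [show v2 = 2 by omega] at hvb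
        norm_num at hvb
      · exact h
    rcases hxx with rfl | rfl
    · exact ⟨F', C', sF', sC', by rw [sw CF', map_zero], by rw [eP'', add_comm],
        by rw [hv2, show v2 = 1 by omega, Int.cast_one], by rw [hv1, Int.cast_zero]⟩
    · exact ⟨C', F', sC', sF', CF', eP'', by rw [hv1, Int.cast_one], by rw [hv2, show v2 = 0 by omega, Int.cast_zero]⟩
  have CC := classInner_self_signed sC
  set Y : G → ℂ := -(R2 + o) - C with hY
  have sY : IsSignedIrr Y := irr_or_neg_of_norm_one (isGenChar_sub gR (signed_gen sC)) (by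
    rw [hY, classInner_sub_left, classInner_sub_right, classInner_sub_right, hRn, RC, sw RC, CC, map_one]
    norm_num)
  have FC : classInner (F + C) (o : G → ℂ) = 0 := by
    rw [add_comm, ← eP2, classInner_sub_left, P'o, Ao, sub_zero]
  have FA : classInner (F + C) A = 0 := by
    rw [add_comm, ← eP2, classInner_sub_left, P'A, AA, sub_self]
  have FB : classInner (F + C) B = 0 := by
    rw [add_comm, ← eP2, classInner_sub_left, P'B, AB, sub_zero]
  have FC' : classInner F C = 0 := by rw [sw CF, map_zero]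
  have CFo : ∀ {e : G → ℂ}, IsSignedIrr e → classInner (F + C) e = 0 → classInner F e = 0 ∧ classInner C e = 0 :=
    fun {e} he h => ⟨orth_of_sum sF he FC' h, orth_of_sum sC he CF (by rwa [add_comm])⟩
  obtain ⟨Fo, Co⟩ := CFo so FC
  obtain ⟨FA', CA⟩ := CFo sA FA
  obtain ⟨FB', CB⟩ := CFo sB FB
  have Yo : classInner Y o = 0 := by
    rw [hY, classInner_sub_left, classInner_neg_left, classInner_add_left, Ro, oo, Co]; norm_num
  have YA : classInner Y A = 0 := by rw [hY, classInner_sub_left, RA, CA, sub_zero]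
  have YB : classInner Y B = 0 := by rw [hY, classInner_sub_left, RB, CB, sub_zero]
  have YC : classInner Y C = 0 := by rw [hY, classInner_sub_left, RC, CC, sub_self]
  have YF : classInner Y F = 0 := by rw [hY, classInner_sub_left, RF, CF, sub_zero]
  -- the equations
  have t1 : P = -o + A + B := by
    funext g; have := congrFun eP g; simp only [Pi.add_apply, Pi.neg_apply] at this ⊢; linear_combination this
  have t1' : P' = A + C + F := by
    funext g; have := congrFun eP2 g; simp only [Pi.add_apply, Pi.sub_apply] at this ⊢; linear_combination this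
  have t2 : R2 = -(o + Y + C) := by
    funext g; simp only [hY, Pi.neg_apply, Pi.add_apply, Pi.sub_apply]; ring
  -- the principal block
  have iO : InB0 M o := ⟨oneIrr G, oneIrr_mem hM, Or.inl rfl⟩
  have dO : deg0 M o = 1 := by
    rcases deg0_signed (M := M) so with ⟨-, e⟩ | ⟨h, -⟩
    · exact e
    · exact absurd iO h
  obtain ⟨a, ha, ea⟩ := signed_degree sA
  obtain ⟨b, hb', eb⟩ := signed_degree sB
  obtain ⟨c, hc, ec⟩ := signed_degree sC
  obtain ⟨f, hf, ef⟩ := signed_degree sF
  obtain ⟨yy, hyy, ey⟩ := signed_degree sY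
  have q1 : deg0 M P = 0 := deg0_eq_zero hM fun g hg => up_regular hD s1 hg
  have q2 : deg0 M P' = 0 := deg0_eq_zero hM fun g hg => up_regular hD s1' hg
  have q3 : deg0 M R2 = 0 := deg0_eq_zero hM fun g hg => up_regular hD s2 hg
  have d1 : P 1 = 0 := up_one hD s1
  have d2 : P' 1 = 0 := up_one hD s1'
  have d3 : R2 1 = 0 := up_one hD s2
  rw [t1, deg0_add, deg0_add, deg0_neg, dO] at q1
  rw [t1', deg0_add, deg0_add] at q2
  rw [t2, deg0_neg, deg0_add, deg0_add, dO] at q3
  rw [t1] at d1
  rw [t1'] at d2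
  rw [t2] at d3
  simp only [Pi.add_apply, Pi.neg_apply, ho, ea, eb, ec, ef, ey] at d1 d2 d3
  have e1 : (-1 : ℤ) + a + b = 0 := by exact_mod_cast d1
  have e2 : a + c + f = 0 := by exact_mod_cast d2
  have e3 : -(1 + yy + c) = 0 := by exact_mod_cast d3
  obtain ⟨iA, qA⟩ : InB0 M A ∧ deg0 M A = (a : ℂ) := by
    rcases deg0_signed (M := M) sA with ⟨h, e⟩ | ⟨-, e⟩
    · exact ⟨h, e.trans ea⟩
    · exfalso
      rcases deg0_signed (M := M) sB with ⟨-, e'⟩ | ⟨-, e'⟩ <;> rw [e, e'] at q1
      · rw [eb] at q1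
        have : (-1 : ℤ) + 0 + b = 0 := by exact_mod_cast q1
        omega
      · norm_num at q1
  obtain ⟨iB, qB⟩ : InB0 M B ∧ deg0 M B = (b : ℂ) := by
    rcases deg0_signed (M := M) sB with ⟨h, e⟩ | ⟨-, e⟩
    · exact ⟨h, e.trans eb⟩
    · exfalso
      rw [qA, e] at q1
      have : (-1 : ℤ) + a + 0 = 0 := by exact_mod_cast q1
      omega
  obtain ⟨iC, qC⟩ : InB0 M C ∧ deg0 M C = (c : ℂ) := by
    rcases deg0_signed (M := M) sC with ⟨h, e⟩ | ⟨-, e⟩
    · exact ⟨h, e.trans ec⟩
    · exfalso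
      rcases deg0_signed (M := M) sF with ⟨-, e'⟩ | ⟨-, e'⟩ <;> rw [qA, e, e'] at q2
      · rw [ef] at q2
        have : a + 0 + f = 0 := by exact_mod_cast q2
        omega
      · have : a + 0 + 0 = 0 := by exact_mod_cast q2
        omega
  have iF : InB0 M F := by
    rcases deg0_signed (M := M) sF with ⟨h, -⟩ | ⟨-, e⟩
    · exact h
    · exfalso
      rw [qA, qC, e] at q2
      have : a + c + 0 = 0 := by exact_mod_cast q2
      omega
  have iY : InB0 M Y := by
    rcases deg0_signed (M := M) sY with ⟨h, -⟩ | ⟨-, e⟩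
    · exact h
    · exfalso
      rw [qC, e] at q3
      have : -((1 : ℤ) + 0 + c) = 0 := by exact_mod_cast q3
      omega
  refine ⟨![o, A, B, C, Y, F], ⟨rfl, fun i => ?_, fun i j => ?_, t1, t1', t2, fun i => ?_⟩⟩
  · fin_cases i <;> assumption
  · fin_cases i <;> fin_cases j <;>
      simp [oo, AA, BB, CC, classInner_self_signed sY, classInner_self_signed sF, AB, sw AB, Ao, sw Ao, Bo,
        sw Bo, Fo, sw Fo, Co, sw Co, FA', sw FA', CA, sw CA, FB', sw FB', CB, sw CB, Yo, sw Yo, YA, sw YA,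
        YB, sw YB, YC, sw YC, YF, sw YF, CF, FC']
  · fin_cases i <;> assumption

end CfsgLib.BrauerOrder
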