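import Cfsg.Agent.Lib.PSL2.Aut
import Cfsg.Agent.Lib.SLCard

/-!
# The Sylow `p`-subgroups of a group `N ≅ SL₂(q)` as the points of a line

`sylU` is the point at infinity and `pt s` the point `s`.
-/

set_option autoImplicit false
set_option linter.unusedSectionVars false
set_option linter.style.haveILetI false

namespace CfsgLib.BrauerOrder.Line

open Matrix CfsgLib.PSL2
open scoped MatrixGroups Pointwise

universe u v

variable {F : Type v} [Field F] {N : Type u} [Group N]


variable (e : N ≃* (Matrix.SpecialLinearGroup (Fin 2) F))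

/-- Upper unitriangular elements. -/
def uh : Multiplicative F →* N :=
  e.symm.toMonoidHom.comp
    { toFun := fun t => uSL t.toAdd
      map_one' := Subtype.ext (by simp [coe_uSL, Matrix.one_fin_two])
      map_mul' := fun a b => Subtype.ext (by simp [coe_uSL, Matrix.mul_fin_two, add_comm]) }

/-- Lower unitriangular elements. -/
def vh : Multiplicative F →* N :=
  e.symm.toMonoidHom.comp
    { toFun := fun t => vSL t.toAdd
      map_one' := Subtype.ext (by simp [coe_vSL, Matrix.one_fin_two])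
      map_mul' := fun a b => Subtype.ext (by simp [coe_vSL, Matrix.mul_fin_two]) }

/-- `u(t)`. -/
abbrev uN (t : F) : N := uh e (Multiplicative.ofAdd t)

/-- `v(t)`. -/
abbrev vN (t : F) : N := vh e (Multiplicative.ofAdd t)

@[simp] theorem e_uN (t : F) : e (uN e t) = uSL t := e.apply_symm_apply _

@[simp] theorem e_vN (t : F) : e (vN e t) = vSL t := e.apply_symm_apply _

theorem uN_add (s t : F) : uN e s * uN e t = uN e (s + t) := (map_mul (uh e) _ _).symm

theorem vN_add (s t : F) : vN e s * vN e t = vN e (s + t) := (map_mul (vh e) _ _).symm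

theorem uN_zero : uN e (0 : F) = 1 := map_one (uh e)

theorem uN_neg (t : F) : (uN e t)⁻¹ = uN e (-t) := (map_inv (uh e) _).symm

theorem vN_neg (t : F) : (vN e t)⁻¹ = vN e (-t) := (map_inv (vh e) _).symm

theorem uN_inj {s t : F} (h : uN e s = uN e t) : s = t := by
  have := congrArg (fun A : (Matrix.SpecialLinearGroup (Fin 2) F) => A.1 0 1) (congrArg e h)
  simpa [coe_uSL] using this

theorem vN_inj {s t : F} (h : vN e s = vN e t) : s = t := by
  have := congrArg (fun A : (Matrix.SpecialLinearGroup (Fin 2) F) => A.1 1 0) (congrArg e h)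
  simpa [coe_vSL] using this

/-- The upper unitriangular subgroup. -/
def subU : Subgroup N := (uh e).range

/-- The lower unitriangular subgroup. -/
def subV : Subgroup N := (vh e).range

theorem uN_mem (t : F) : uN e t ∈ subU e := ⟨_, rfl⟩

theorem vN_mem (t : F) : vN e t ∈ subV e := ⟨_, rfl⟩

theorem mem_subU {n : N} (h : n ∈ subU e) : ∃ t, uN e t = n := by
  obtain ⟨t, rfl⟩ := h
  exact ⟨t.toAdd, rfl⟩

theorem mem_subV {n : N} (h : n ∈ subV e) : ∃ t, vN e t = n := by
  obtain ⟨t, rfl⟩ := h
  exact ⟨t.toAdd, rfl⟩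

/-- An element mapping `u(1)` into `U` is upper triangular. -/
theorem upper_of_conj {n : N} (h : n * uN e 1 * n⁻¹ ∈ subU e) : (e n).1 1 0 = 0 := by
  obtain ⟨t, ht⟩ := mem_subU e h
  have h1 : (e n * uSL 1).1 1 0 = (uSL t * e n).1 1 0 := by
    rw [← e_uN e, ← e_uN e, ← map_mul, ← map_mul, ht, inv_mul_cancel_right]
  have h2 : (e n * uSL 1).1 1 1 = (uSL t * e n).1 1 1 := by
    rw [← e_uN e, ← e_uN e, ← map_mul, ← map_mul, ht, inv_mul_cancel_right]
  simp [coe_uSL, Matrix.mul_apply, Fin.sum_univ_two] at h2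
  exact h2

/-- An element mapping `v(1)` into `V` is lower triangular. -/
theorem lower_of_conj {n : N} (h : n * vN e 1 * n⁻¹ ∈ subV e) : (e n).1 0 1 = 0 := by
  obtain ⟨t, ht⟩ := mem_subV e h
  have h2 : (e n * vSL 1).1 0 0 = (vSL t * e n).1 0 0 := by
    rw [← e_vN e, ← e_vN e, ← map_mul, ← map_mul, ht, inv_mul_cancel_right]
  simp [coe_vSL, Matrix.mul_apply, Fin.sum_univ_two] at h2
  exact h2

/-- Upper triangular elements normalise `U`. -/
theorem conj_upper {n : N} (h : (e n).1 1 0 = 0) (t : F) :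
    n * uN e t * n⁻¹ = uN e ((e n).1 0 0 * (e n).1 0 0 * t) := by
  have hd : (e n).1 0 0 * (e n).1 1 1 = 1 := by
    have := (e n).2
    rw [Matrix.det_fin_two, h, mul_zero, sub_zero] at this
    exact this
  rw [mul_inv_eq_iff_eq_mul]
  refine e.injective (Subtype.ext ?_)
  rw [map_mul, map_mul, e_uN, e_uN]
  ext i j
  fin_cases i <;> fin_cases j <;> simp [coe_uSL, Matrix.mul_apply, Fin.sum_univ_two, h]
  linear_combination (-(t * (e n).1 0 0)) * hd

/-- An element with upper left entry `0` maps `U` into `V`. -/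
theorem conj_zero {n : N} (h : (e n).1 0 0 = 0) (t : F) :
    n * uN e t * n⁻¹ = vN e (-((e n).1 1 0 * (e n).1 1 0 * t)) := by
  have hd : (e n).1 0 1 * (e n).1 1 0 = -1 := by
    have := (e n).2
    rw [Matrix.det_fin_two, h, zero_mul, zero_sub] at this
    linear_combination (-1 : F) * this
  rw [mul_inv_eq_iff_eq_mul]
  refine e.injective (Subtype.ext ?_)
  rw [map_mul, map_mul, e_uN, e_vN]
  ext i j
  fin_cases i <;> fin_cases j <;> simp [coe_uSL, coe_vSL, Matrix.mul_apply, Fin.sum_univ_two, h]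
  linear_combination ((e n).1 1 0 * t) * hd

include e in
/-- An involution of `SL₂` is central. -/
theorem commute_of_sq (h2 : (2 : F) ≠ 0) {n : N} (hn : n * n = 1) (m : N) : n * m = m * n := by
  set A := (e n).1
  have hd : A 0 0 * A 1 1 - A 0 1 * A 1 0 = 1 := by
    have := (e n).2
    rwa [Matrix.det_fin_two] at this
  have hA : A * A = 1 := by
    rw [← Matrix.SpecialLinearGroup.coe_mul, ← map_mul, hn, map_one, Matrix.SpecialLinearGroup.coe_one]
  have h00 := congrFun (congrFun hA 0) 0
  have h01 := congrFun (congrFun hA 0) 1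
  have h10 := congrFun (congrFun hA 1) 0
  have h11 := congrFun (congrFun hA 1) 1
  simp [Matrix.mul_apply, Fin.sum_univ_two] at h00 h01 h10 h11
  have hs : A 0 0 + A 1 1 ≠ 0 := fun h => by
    refine h2 ?_
    linear_combination (-1 : F) * hd + (A 0 0) * h - h00
  have e01 : A 0 1 = 0 :=
    (mul_eq_zero.mp (by linear_combination h01 : A 0 1 * (A 0 0 + A 1 1) = 0)).resolve_right hs
  have e10 : A 1 0 = 0 :=
    (mul_eq_zero.mp (by linear_combination h10 : A 1 0 * (A 0 0 + A 1 1) = 0)).resolve_right hs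
  have ee : A 0 0 = A 1 1 :=
    sub_eq_zero.mp ((mul_eq_zero.mp (by linear_combination h00 - h11 :
      (A 0 0 - A 1 1) * (A 0 0 + A 1 1) = 0)).resolve_right hs)
  refine e.injective (Subtype.ext ?_)
  rw [map_mul, map_mul, Matrix.SpecialLinearGroup.coe_mul, Matrix.SpecialLinearGroup.coe_mul]
  show A * (e m).1 = (e m).1 * A
  ext i j
  fin_cases i <;> fin_cases j <;> simp [Matrix.mul_apply, Fin.sum_univ_two, e01, e10, ee, mul_comm]

/-- A central element of order two is `-1`. -/
theorem coe_eq_neg_one {n : N} (hn : n ≠ 1) (hc : ∀ m, n * m = m * n) : (e n).1 = -1 := by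
  have hm : e n ∈ Subgroup.center (Matrix.SpecialLinearGroup (Fin 2) F) := Subgroup.mem_center_iff.mpr fun A => by
    have := congrArg e (hc (e.symm A))
    rw [map_mul, map_mul, e.apply_symm_apply] at this
    exact this.symm
  obtain ⟨r, hr, h⟩ := Matrix.SpecialLinearGroup.mem_center_iff.mp hm
  rw [Fintype.card_fin, sq_eq_one_iff] at hr
  rcases hr with rfl | rfl
  · exact absurd (e.map_eq_one_iff.mp (Subtype.ext (by rw [← h, map_one]; rfl))) hn
  · rw [← h, map_neg, map_one]

section AutSylow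

variable {p : ℕ} [Fact p.Prime]

theorem aut_smul (α : MulAut N) (g : N) (P : Sylow p N) : α • (g • P) = α g • (α • P) := by
  have hc : α * MulAut.conj g = MulAut.conj (α g) * α := MulEquiv.ext fun x => by
    simp [MulAut.mul_apply, MulAut.conj_apply, map_mul, map_inv]
  refine Sylow.ext ?_
  rw [Sylow.pointwise_smul_def, Sylow.coe_subgroup_smul, Sylow.coe_subgroup_smul, Sylow.pointwise_smul_def,
    ← mul_smul, ← mul_smul, hc]

theorem aut_mem {α : MulAut N} {P : Sylow p N} (h : α • P = P) {x : N} (hx : x ∈ (P : Subgroup N)) :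
    α x ∈ (P : Subgroup N) := by
  rw [← h, Sylow.pointwise_smul_def]
  exact Subgroup.smul_mem_pointwise_smul x α _ hx

end AutSylow

section Sylow

variable [Fintype F] [Finite N] {p : ℕ} [hp : Fact p.Prime] {n : ℕ} (hF : Fintype.card F = p ^ n)

theorem card_subU : Nat.card (subU e) = Fintype.card F := by
  rw [← Nat.card_eq_fintype_card]
  refine (Nat.card_congr ((MonoidHom.ofInjective (f := uh e) fun a b h => ?_).toEquiv)).symm.trans
    (Nat.card_congr Multiplicative.toAdd)
  exact Multiplicative.toAdd.injective (uN_inj e h)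

theorem card_subV : Nat.card (subV e) = Fintype.card F := by
  rw [← Nat.card_eq_fintype_card]
  refine (Nat.card_congr ((MonoidHom.ofInjective (f := vh e) fun a b h => ?_).toEquiv)).symm.trans
    (Nat.card_congr Multiplicative.toAdd)
  exact Multiplicative.toAdd.injective (vN_inj e h)

include hF

include e in
theorem not_dvd_index {H : Subgroup N} (hH : Nat.card H = Fintype.card F) (hn : n ≠ 0) : ¬ p ∣ H.index := by
  have hcard := H.card_mul_index
  rw [hH, Nat.card_congr e.toEquiv, CfsgLib.SLCard.card_SL_two] at hcard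
  rw [Nat.eq_of_mul_eq_mul_left Fintype.card_pos hcard, hF]
  intro h
  have h1 : p ∣ p ^ n ^ 1 := by simpa using dvd_pow_self p hn
  have h2 : p ∣ (p ^ n) ^ 2 := dvd_pow (dvd_pow_self p hn) two_ne_zero
  have h3 : 1 ≤ (p ^ n) ^ 2 := Nat.one_le_pow _ _ (pow_pos hp.out.pos _)
  have h4 := Nat.dvd_sub h2 h
  rw [Nat.sub_sub_self h3] at h4
  exact hp.out.one_lt.ne' (Nat.dvd_one.mp h4)

variable (hn : n ≠ 0)

include e hn

/-- The point at infinity. -/
noncomputable def sylU : Sylow p N :=
  (IsPGroup.of_card ((card_subU e).trans hF)).toSylow (not_dvd_index e hF (card_subU e) hn)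

/-- The point `0`. -/
noncomputable def sylV : Sylow p N :=
  (IsPGroup.of_card ((card_subV e).trans hF)).toSylow (not_dvd_index e hF (card_subV e) hn)

/-- The point `s`. -/
noncomputable def pt (s : F) : Sylow p N := uN e s • sylV e hF hn

theorem pt_zero : pt e hF hn 0 = sylV e hF hn := by
  rw [pt, uN_zero, one_smul]

theorem mem_pt {s : F} {m : N} : m ∈ pt e hF hn s ↔ (uN e s)⁻¹ * m * uN e s ∈ subV e := by
  show m ∈ MulAut.conj (uN e s) • subV e ↔ _
  rw [Subgroup.mem_pointwise_smul_iff_inv_smul_mem, ← map_inv, MulAut.smul_def, MulAut.conj_apply, inv_inv]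

theorem uN_smul_U (s : F) : uN e s • sylU e hF hn = sylU e hF hn :=
  Sylow.smul_eq_iff_mem_normalizer.mpr (Subgroup.le_normalizer (uN_mem e s))

theorem pt_ne_U (s : F) : pt e hF hn s ≠ sylU e hF hn := by
  intro h
  rw [pt, ← uN_smul_U e hF hn s, smul_left_cancel_iff] at h
  have h1 : vN e 1 ∈ (sylV e hF hn : Subgroup N) := vN_mem e 1
  rw [h] at h1
  obtain ⟨t, ht⟩ := mem_subU e h1
  have := congrArg (fun A : (Matrix.SpecialLinearGroup (Fin 2) F) => A.1 1 0) (congrArg e ht)
  simp [coe_uSL, coe_vSL] at this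

theorem pt_injective {s t : F} (h : pt e hF hn s = pt e hF hn t) : s = t := by
  have h1 : (-t + s : F) = 0 := by
    have h' : uN e (-t + s) • sylV e hF hn = sylV e hF hn := by
      rw [← uN_add, mul_smul, show uN e s • sylV e hF hn = pt e hF hn s from rfl, h, pt, ← mul_smul,
        uN_add, neg_add_cancel, uN_zero, one_smul]
    have := lower_of_conj e ((Subgroup.mem_normalizer_iff.mp (Sylow.smul_eq_iff_mem_normalizer.mp h') _).mp
      (vN_mem e 1))
    simpa [coe_uSL] using this
  exact (neg_add_eq_zero.mp h1).symm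

theorem exists_pt (P : Sylow p N) : P = sylU e hF hn ∨ ∃ s, P = pt e hF hn s := by
  obtain ⟨g, rfl⟩ := MulAction.exists_smul_eq N (sylU e hF hn) P
  by_cases h : (e g).1 1 0 = 0
  · left
    refine Sylow.smul_eq_iff_mem_normalizer.mpr (Subgroup.mem_normalizer_fintype fun x hx => ?_)
    obtain ⟨t, rfl⟩ := mem_subU e hx
    rw [conj_upper e h]
    exact uN_mem e _
  · right
    set s := (e g).1 0 0 / (e g).1 1 0
    refine ⟨s, ?_⟩
    rw [pt, ← inv_smul_eq_iff, ← mul_smul]
    set m := (uN e s)⁻¹ * g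
    have hm : (e m).1 0 0 = 0 := by
      show (e ((uN e s)⁻¹ * g)).1 0 0 = 0
      rw [uN_neg, map_mul, e_uN]
      simp [coe_uSL, Matrix.mul_apply, Fin.sum_univ_two]
      show (e g).1 0 0 + -(s * (e g).1 1 0) = 0
      rw [div_mul_cancel₀ _ h, add_neg_cancel]
    refine Sylow.ext (Subgroup.eq_of_le_of_card_ge ?_ ?_)
    · intro x hx
      rw [Sylow.coe_subgroup_smul, Subgroup.mem_pointwise_smul_iff_inv_smul_mem, ← map_inv, MulAut.smul_def,
        MulAut.conj_apply, inv_inv] at hx
      obtain ⟨t, ht⟩ := mem_subU e hx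
      rw [show x = m * uN e t * m⁻¹ by rw [ht]; group, conj_zero e hm]
      exact vN_mem e _
    · rw [Sylow.coe_subgroup_smul,
        Nat.card_congr (Subgroup.equivSMul (MulAut.conj m) _).toEquiv.symm]
      exact ((card_subV e).trans (card_subU e).symm).le

theorem card_points : Nat.card (Sylow p N) = Fintype.card F + 1 := by
  classical
  let f : Option F → Sylow p N := fun o => o.elim (sylU e hF hn) (pt e hF hn)
  have hf : Function.Bijective f := by
    refine ⟨?_, fun P => ?_⟩
    · rintro (- | s) (- | t) h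
      · rfl
      · exact absurd h.symm (pt_ne_U e hF hn t)
      · exact absurd h (pt_ne_U e hF hn s)
      · exact congrArg some (pt_injective e hF hn h)
    · rcases exists_pt e hF hn P with rfl | ⟨s, rfl⟩
      · exact ⟨none, rfl⟩
      · exact ⟨some s, rfl⟩
  rw [← Nat.card_congr (Equiv.ofBijective f hf), Finite.card_option, Nat.card_eq_fintype_card]

theorem exists_map_pair {a b : Sylow p N} (hab : a ≠ b) :
    ∃ g : N, g • sylU e hF hn = a ∧ g • sylV e hF hn = b := by
  obtain ⟨g, hg⟩ := MulAction.exists_smul_eq N (sylU e hF hn) a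
  rcases exists_pt e hF hn (g⁻¹ • b) with h | ⟨s, h⟩
  · exact absurd ((inv_smul_eq_iff.mp h).trans hg).symm hab
  · refine ⟨g * uN e s, by rw [mul_smul, uN_smul_U, hg], ?_⟩
    rw [mul_smul]
    exact (inv_smul_eq_iff.mp h).symm

theorem pt_eq_v {s : F} (hs : s ≠ 0) : pt e hF hn s = vN e s⁻¹ • sylU e hF hn := by
  set m := uN e (-s) * vN e s⁻¹ * uN e (-s) with hmdef
  have hm : (e m).1 0 0 = 0 := by
    simp [hmdef, map_mul, coe_uSL, coe_vSL, Matrix.mul_apply, Fin.sum_univ_two]
    field_simp
    ring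
  have hmU : m • sylU e hF hn = sylV e hF hn := by
    refine Sylow.ext (Subgroup.eq_of_le_of_card_ge ?_ ?_)
    · intro x hx
      rw [Sylow.coe_subgroup_smul, Subgroup.mem_pointwise_smul_iff_inv_smul_mem, ← map_inv, MulAut.smul_def,
        MulAut.conj_apply, inv_inv] at hx
      obtain ⟨t, ht⟩ := mem_subU e hx
      rw [show x = m * uN e t * m⁻¹ by rw [ht]; group, conj_zero e hm]
      exact vN_mem e _
    · rw [Sylow.coe_subgroup_smul,
        Nat.card_congr (Subgroup.equivSMul (MulAut.conj m) _).toEquiv.symm]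
      exact ((card_subV e).trans (card_subU e).symm).le
  rw [pt, ← hmU, ← mul_smul, hmdef, ← mul_assoc, ← mul_assoc, uN_add, add_neg_cancel, uN_zero, one_mul,
    mul_smul, uN_smul_U]

/-- An automorphism fixing `∞`, `0` and `s` fixes `u(s)` and `v(1/s)`. -/
theorem fix_three {α : MulAut N} (hU : α • sylU e hF hn = sylU e hF hn) (hV : α • sylV e hF hn = sylV e hF hn)
    {s : F} (hs : s ≠ 0) (hP : α • pt e hF hn s = pt e hF hn s) :
    α (uN e s) = uN e s ∧ α (vN e s⁻¹) = vN e s⁻¹ := by
  obtain ⟨s', h1⟩ := mem_subU e (aut_mem hU (uN_mem e s))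
  obtain ⟨r, h2⟩ := mem_subV e (aut_mem hV (vN_mem e s⁻¹))
  refine ⟨?_, ?_⟩
  · rw [← h1]
    refine congrArg _ (pt_injective e hF hn ?_)
    rw [pt, h1, ← hV, ← aut_smul]
    exact hP
  · rw [← h2]
    refine congrArg _ ?_
    have h3 : vN e r • sylU e hF hn = pt e hF hn s := by
      rw [h2, ← hU, ← aut_smul, ← pt_eq_v e hF hn hs]
      exact hP
    have hr : r ≠ 0 := fun h => pt_ne_U e hF hn s (by
      rw [← h3, h, show vN e (0 : F) = 1 from map_one (vh e), one_smul])
    rw [← inv_inv r, ← pt_eq_v e hF hn (inv_ne_zero hr)] at h3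
    rw [← pt_injective e hF hn h3, inv_inv]

/-- An automorphism of order two fixing only `∞` and `0` inverts `U`. -/
theorem inverts {α : MulAut N} (h2 : ∀ x, α (α x) = x) (hU : α • sylU e hF hn = sylU e hF hn)
    (hV : α • sylV e hF hn = sylV e hF hn) (honly : ∀ s : F, α • pt e hF hn s = pt e hF hn s → s = 0) (t : F) :
    α (uN e t) = uN e (-t) := by
  obtain ⟨t', h1⟩ := mem_subU e (aut_mem hU (uN_mem e t))
  have hfix : α (uN e (t + t')) = uN e (t + t') := by
    rw [← uN_add, map_mul, h1, h2, ← h1, uN_add, uN_add, add_comm]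
  have := honly (t + t') (by rw [pt, aut_smul, hfix, hV])
  rw [← h1]
  exact congrArg _ (by rw [eq_neg_iff_add_eq_zero, add_comm, this])

/-- For `q ≡ 1 (mod 4)` a square root of `-1` fixes a point, for `q ≡ 3 (mod 4)` it fixes none. -/
theorem fix_four {g : N} (hg : (e (g * g)).1 = -1) :
    (∃ P : Sylow p N, g • P = P) ↔ Fintype.card F % 4 ≠ 3 := by
  rw [← FiniteField.isSquare_neg_one_iff]
  constructor
  · rintro ⟨P, hP⟩
    obtain ⟨k, rfl⟩ := MulAction.exists_smul_eq N (sylU e hF hn) P
    set m := k⁻¹ * g * k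
    have hmU : m • sylU e hF hn = sylU e hF hn := by
      rw [mul_smul, mul_smul, hP, inv_smul_smul]
    have h10 := upper_of_conj e ((Subgroup.mem_normalizer_iff.mp (Sylow.smul_eq_iff_mem_normalizer.mp hmU) _).mp
      (uN_mem e 1))
    have hmm : (e (m * m)).1 = -1 := by
      rw [show m * m = k⁻¹ * (g * g) * k by simp only [m]; group, map_mul, map_mul, map_inv, Matrix.SpecialLinearGroup.coe_mul,
        Matrix.SpecialLinearGroup.coe_mul, hg, mul_neg, mul_one, neg_mul, ← Matrix.SpecialLinearGroup.coe_mul,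
        inv_mul_cancel, Matrix.SpecialLinearGroup.coe_one]
    rw [map_mul, Matrix.SpecialLinearGroup.coe_mul] at hmm
    have h00 := congrFun (congrFun hmm 0) 0
    simp [Matrix.mul_apply, Fin.sum_univ_two, h10] at h00
    exact ⟨(e m).1 0 0, h00.symm⟩
  · rintro ⟨a, ha⟩
    by_cases hc : (e g).1 1 0 = 0
    · refine ⟨sylU e hF hn, Sylow.smul_eq_iff_mem_normalizer.mpr (Subgroup.mem_normalizer_fintype fun x hx => ?_)⟩
      obtain ⟨t, rfl⟩ := mem_subU e hx
      rw [conj_upper e hc]
      exact uN_mem e _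
    set A := (e g).1 with hA
    have hd : A 0 0 * A 1 1 - A 0 1 * A 1 0 = 1 := by
      have := (e g).2
      rwa [Matrix.det_fin_two] at this
    rw [map_mul, Matrix.SpecialLinearGroup.coe_mul] at hg
    have h10 := congrFun (congrFun hg 1) 0
    simp [Matrix.mul_apply, Fin.sum_univ_two, ← hA] at h10
    have htr : A 0 0 + A 1 1 = 0 :=
      (mul_eq_zero.mp (by linear_combination h10 : A 1 0 * (A 0 0 + A 1 1) = 0)).resolve_left hc
    set s := (a + A 0 0) / A 1 0 with hs
    have hsc : s * A 1 0 = a + A 0 0 := div_mul_cancel₀ _ hc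
    refine ⟨pt e hF hn s, ?_⟩
    set m := (uN e s)⁻¹ * g * uN e s with hm
    have h01 : (e m).1 0 1 = 0 := by
      rw [hm, uN_neg, map_mul, map_mul, e_uN, e_uN]
      simp [coe_uSL, Matrix.mul_apply, Fin.sum_univ_two, Matrix.vecMul, dotProduct, ← hA]
      refine (mul_eq_zero.mp (?_ : A 1 0 * ((A 0 0 + -(s * A 1 0)) * s + (A 0 1 + -(s * A 1 1))) = 0)).resolve_left hc
      linear_combination ha - hd - a * htr + (-A 1 1 - s * A 1 0 - a) * hsc
    have hmV : m • sylV e hF hn = sylV e hF hn := by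
      refine Sylow.smul_eq_iff_mem_normalizer.mpr (Subgroup.mem_normalizer_fintype fun x hx => ?_)
      obtain ⟨t, rfl⟩ := mem_subV e hx
      refine ⟨Multiplicative.ofAdd (((e m).1 1 1 * (e m).1 1 1 * t : F)), ?_⟩
      refine eq_mul_inv_of_mul_eq (e.injective (Subtype.ext ?_))
      show (e (vN e _ * m)).1 = _
      rw [map_mul e (vN e _) m, map_mul e m, e_vN, e_vN]
      have hd' : (e m).1 0 0 * (e m).1 1 1 = 1 := by
        have := (e m).2
        rwa [Matrix.det_fin_two, h01, zero_mul, sub_zero] at this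
      ext i j
      fin_cases i <;> fin_cases j <;> simp [coe_vSL, Matrix.mul_apply, Fin.sum_univ_two, h01]
      linear_combination ((e m).1 1 1 * t) * hd'
    calc g • pt e hF hn s = uN e s • (m • sylV e hF hn) := by
          rw [pt, ← mul_smul, ← mul_smul, hm, ← mul_assoc, ← mul_assoc, mul_inv_cancel, one_mul]
      _ = pt e hF hn s := by rw [hmV]; rfl

end Sylow

end CfsgLib.BrauerOrder.Line
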