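import Cfsg.Agent.Lib.BrauerOrder.Values
import Cfsg.Agent.Lib.BrauerOrder.ClassSums
import Cfsg.Agent.Lib.BrauerOrder.GenChar
import Cfsg.Agent.Lib.BrauerOrder.Arith
import Cfsg.Agent.Lib.CharTheory.More
import Cfsg.Agent.Lib.Blocks.Vanishing

/-!
# Brauer's order formula

* `order_wreathed`: the formula when the central part has order at least four.
* `data_qd`: the two signed degrees and their equations when it has order two.
-/

set_option autoImplicit false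
set_option linter.unusedSectionVars false
set_option linter.style.haveILetI false

namespace CfsgLib.BrauerOrder

open Cfsg CfsgLib.CharTheory CfsgLib.Blocks CfsgLib.Blocks.AbelianFree
open scoped ComplexConjugate

universe u v

section Kernel

variable {G : Type u} [Group G] [Fintype G]

/-- In a simple group a signed irreducible character orthogonal to `1` has no nontrivial element in its kernel. -/
theorem no_kernel [IsSimpleGroup G] {a : G → ℂ} (ha : IsSignedIrr a)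
    (h1 : classInner a (fun _ : G => (1 : ℂ)) = 0) {x : G} (hx : x ≠ 1) : a x ≠ a 1 := by
  intro e
  obtain ⟨χ, hχ, hχx, hχ1⟩ : ∃ χ : G → ℂ, IsIrrCharacter G χ ∧ χ x = χ 1 ∧
      classInner χ (fun _ : G => (1 : ℂ)) = 0 := by
    rcases ha with h | h
    · exact ⟨a, h, e, h1⟩
    · exact ⟨-a, h, by simp [e], by rw [classInner_neg_left, h1, neg_zero]⟩
  set K := charKernel χ (isCharacter_of_irr hχ)
  have hxK : x ∈ K := (mem_charKernel _ x).2 hχx
  rcases Subgroup.Normal.eq_bot_or_eq_top (charKernel_normal χ (isCharacter_of_irr hχ)) with h | h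
  · exact hx (Subgroup.mem_bot.1 (h ▸ hxK))
  · rw [irr_eq_one_of_kernel_top hχ fun g => (mem_charKernel _ g).1 (h ▸ Subgroup.mem_top g),
      classInner_irr_self isIrrCharacter_one] at hχ1
    exact one_ne_zero hχ1

/-- A signed degree divides the group order. -/
theorem signed_dvd {a : G → ℂ} (ha : IsSignedIrr a) {n : ℤ} (hn : a 1 = (n : ℂ)) :
    n ∣ (Nat.card G : ℤ) := by
  have key : ∀ {χ : G → ℂ} (hχ : IsIrrCharacter G χ), (charDegree χ : ℤ) ∣ (Nat.card G : ℤ) := fun hχ =>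
    Int.natCast_dvd_natCast.2 ((charDegree_dvd_index_kernel hχ).trans (Subgroup.index_dvd_card _))
  rcases ha with h | h
  · rw [(charDegree_spec' h).1] at hn
    rw [← show (charDegree a : ℤ) = n by exact_mod_cast hn]
    exact key h
  · have e := (charDegree_spec' h).1
    rw [Pi.neg_apply, hn] at e
    rw [show n = -(charDegree (-a) : ℤ) by
      have : (-n : ℤ) = (charDegree (-a) : ℤ) := by exact_mod_cast e
      omega]
    exact (key h).neg_left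

end Kernel

variable {G : Type u} [Group G] [Fintype G] {z : G} [Fintype (Cz z)] {Ω : Type v} [MulAction (Cz z) Ω]
  {D : Sys G z} (hD : D.Spec Ω) {M : Ideal AlgInt} {e : Fin 6 → G → ℂ}

include hD

/-- The generalized character property of the functions `R`. -/
theorem hgen_all [Finite Ω] (b : Bool) (τ : ↥(D.core.T b) →* ℂˣ) :
    IsGeneralizedCharacter (Cz z) (D.core.R Ω b τ) := by
  obtain ⟨b0, x, h, hr⟩ := hD.rot
  exact isGenChar_R hD.core hr b τ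

/-- The values at `w`. -/
theorem values_w :
    (D.Rh Ω D.w) ^ 2 = (1 + (D.τ0 ⟨D.zc, zcU hD⟩ : ℂ)) ^ 2 ∧ D.Th Ω D.w = 0 ∧ D.Sh Ω D.w = 1 ∧
      (D.lamF D.w) ^ 2 = 1 ∧ (D.lamSh Ω D.w) ^ 2 = 1 := by
  have hp : p2 D.w = D.w := by
    obtain ⟨a, ha⟩ := two_of_mem hD.core hD.wT
    have := p2_mul ⟨a, ha⟩ (Commute.one_left D.w) (by simp)
    rwa [mul_one] at this
  have hc : IsConj (p2 D.w) D.w := by rw [hp]
  have hT : TType D.core true D.w := ⟨D.w, hD.wT, hD.wZ, hc⟩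
  have hSh : D.Sh Ω D.w = 1 := by rw [Sys.Sh, St_ttype hD.core hT, sigma_sq hD]
  have hl : (D.lamF D.w) ^ 2 = 1 := by
    rw [Sys.lamF, sq, ← Units.val_mul, hD.lamsq, Units.val_one]
  refine ⟨?_, R_other hD.core false _ hT, hSh, hl, ?_⟩
  · rw [Sys.Rh, R_ttype hD.core true _ hD.wT hD.wZ hc, hD.nw, tv_mem _ hD.wT,
      tv_mem _ (mul_mem (zcU hD) hD.wT),
      show (⟨D.zc * D.w, mul_mem (zcU hD) hD.wT⟩ : ↥(D.core.T true)) = ⟨D.zc, zcU hD⟩ * ⟨D.w, hD.wT⟩ from rfl,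
      map_mul, Units.val_mul]
    have h2 : (D.τ0 ⟨D.w, hD.wT⟩ : ℂ) * (D.τ0 ⟨D.w, hD.wT⟩ : ℂ) = 1 := by
      rw [← Units.val_mul, hD.tau0sq, Units.val_one]
    linear_combination (1 + (D.τ0 ⟨D.zc, zcU hD⟩ : ℂ)) ^ 2 * h2
  · rw [show D.lamSh Ω D.w = D.lamF D.w * D.Sh Ω D.w from rfl, hSh, mul_one, hl]

variable (hgen : ∀ (b : Bool) (τ : ↥(D.core.T b) →* ℂˣ), IsGeneralizedCharacter (Cz z) (D.core.R Ω b τ))
  (he : D.Six Ω M e)
include hgen he

/-- The three class sum equations. -/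
theorem class_equations :
    -1 + (e 1 z) ^ 2 / e 1 1 + (e 2 z) ^ 2 / e 2 1 =
      D.kappa * ((1 + (D.τ0 ⟨D.zc, zcU hD⟩ : ℂ)) ^ 2 / (1 + (D.Q : ℂ)) - 1 - 1 / (D.Q : ℂ)) ∧
    1 + (e 4 z) ^ 2 / e 4 1 + (e 3 z) ^ 2 / e 3 1 = D.kappa * (1 - 1 / (D.Q : ℂ)) ∧
    (e 1 z) ^ 2 / e 1 1 + (e 3 z) ^ 2 / e 3 1 + (e 5 z) ^ 2 / e 5 1 =
      D.kappa * ((1 + (D.τ0 ⟨D.zc, zcU hD⟩ : ℂ)) ^ 2 / (1 + (D.Q : ℂ)) - 1 - 1 / (D.Q : ℂ)) := by
  classical
  obtain ⟨s1, s1', s2⟩ := supp_th hD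
  obtain ⟨f1, f1', f2⟩ := classFun_th hD
  obtain ⟨g1, g2, g3, g4, g5, g6⟩ := signed_six hD hgen
  obtain ⟨w1, w2, w3, w4, w5⟩ := values_w hD
  obtain ⟨v1, v2, v3, v4, v5⟩ := values_one hD
  have hwz := zcw_conj hD
  have p1 := pair_identity hD hwz s1 f1
  have p1' := pair_identity hD hwz s1' f1'
  have p2' := pair_identity hD hwz s2 f2
  have one_w : D.one D.w = 1 := rfl
  have one_1 : D.one 1 = 1 := rfl
  have e0z : e 0 z = 1 := congrFun he.zero z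
  have e01 : e 0 1 = 1 := congrFun he.zero 1
  rw [he.th1, Sys.th1] at p1
  rw [he.th1', Sys.th1'] at p1'
  rw [he.th2, Sys.th2, R_one_false hD] at p2'
  simp only [classInner_add_left, classInner_sub_left, classInner_neg_left, add_mul, sub_mul, neg_mul, add_div,
    sub_div, neg_div, Finset.sum_add_distrib, Finset.sum_sub_distrib, Finset.sum_neg_distrib,
    sum_signed (he.signed _), sum_signed g1, sum_signed g2, sum_signed g3, sum_signed g4, sum_signed g5,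
    sum_signed g6, e0z, e01, one_pow, div_one, w1, w2, w3, w4, w5, v1, v2, v3, v4, v5, one_w, one_1] at p1 p1' p2'
  refine ⟨p1, ?_, p1'⟩
  linear_combination -p2'

/-- Signed degrees. -/
theorem signed_degrees :
    ∃ B C : ℤ, e 2 1 = (B : ℂ) ∧ e 3 1 = (C : ℂ) ∧ e 1 1 = 1 - (B : ℂ) ∧ e 4 1 = -1 - (C : ℂ) ∧
      e 5 1 = (B : ℂ) - 1 - (C : ℂ) ∧ B ≠ 0 ∧ C ≠ 0 ∧ 1 - B ≠ 0 ∧ -1 - C ≠ 0 ∧ B - 1 - C ≠ 0 ∧
      B ∣ (Nat.card G : ℤ) ∧ B - 1 ∣ (Nat.card G : ℤ) ∧ C ∣ (Nat.card G : ℤ) := by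
  obtain ⟨s1, s1', s2⟩ := supp_th hD
  obtain ⟨A, hA0, hA⟩ := signed_degree (he.signed 1)
  obtain ⟨B, hB0, hB⟩ := signed_degree (he.signed 2)
  obtain ⟨C, hC0, hC⟩ := signed_degree (he.signed 3)
  obtain ⟨Y, hY0, hY⟩ := signed_degree (he.signed 4)
  obtain ⟨F, hF0, hF⟩ := signed_degree (he.signed 5)
  have e01 : e 0 1 = 1 := congrFun he.zero 1
  have k1 : D.up (D.th1 Ω) 1 = 0 := up_one hD s1
  have k2 : D.up (D.th1' Ω) 1 = 0 := up_one hD s1'
  have k3 : D.up (D.th2 Ω) 1 = 0 := up_one hD s2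
  rw [he.th1] at k1
  rw [he.th1'] at k2
  rw [he.th2] at k3
  simp only [Pi.add_apply, Pi.neg_apply, e01, hA, hB, hC, hY, hF] at k1 k2 k3
  have i1 : -1 + A + B = 0 := by exact_mod_cast k1
  have i2 : A + C + F = 0 := by exact_mod_cast k2
  have i3 : -(1 + Y + C) = 0 := by exact_mod_cast k3
  refine ⟨B, C, hB, hC, ?_, ?_, ?_, hB0, hC0, by omega, by omega, by omega, signed_dvd (he.signed 2) hB, ?_,
    signed_dvd (he.signed 3) hC⟩
  · rw [hA, show A = 1 - B by omega]; push_cast; rfl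
  · rw [hY, show Y = -1 - C by omega]; push_cast; rfl
  · rw [hF, show F = B - 1 - C by omega]; push_cast; rfl
  · rw [show B - 1 = -A by omega]
    exact (signed_dvd (he.signed 1) hA).neg_left

omit hgen he in
theorem Q_facts : (D.Q : ℚ) ≠ 0 ∧ (D.Q : ℚ) + 1 ≠ 0 ∧ (D.Q : ℚ) - 1 ≠ 0 := by
  have h3 := hD.core.qlb
  have hQ : D.Q = (D.core.q : ℤ) ∨ D.Q = -(D.core.q : ℤ) := by
    rcases hD.core.sgn true with e | e <;> rw [Sys.Q, e] <;> simp
  refine ⟨?_, ?_, ?_⟩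
  · exact_mod_cast (show D.Q ≠ 0 by rcases hQ with e | e <;> omega)
  · exact_mod_cast (show D.Q + 1 ≠ 0 by rcases hQ with e | e <;> omega)
  · exact_mod_cast (show D.Q - 1 ≠ 0 by rcases hQ with e | e <;> omega)

omit hgen he in
theorem kappa_cast : D.kappa = (((Nat.card (Cz z) : ℚ) ^ 3 /
    ((Nat.card G : ℚ) * (Nat.card (Subgroup.centralizer ({(D.w : G), z} : Set G)) : ℚ) ^ 2) : ℚ) : ℂ) := by
  rw [Sys.kappa]
  push_cast
  rfl

omit hgen he

/-- Brauer's order formula when the central part has order at least four. -/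
theorem order_wreathed [Finite Ω] [IsSimpleGroup G] (h4 : 4 ≤ Nat.card D.core.Z) :
    (Nat.card G : ℤ) * (Nat.card (Subgroup.centralizer ({(D.w : G), z} : Set G)) : ℤ) ^ 2 * (D.Q + 1) ^ 2 =
      (Nat.card (Cz z) : ℤ) ^ 3 * (D.Q ^ 2 + D.Q + 1) := by
  obtain ⟨M, hM⟩ := exists_isPModular Nat.prime_two
  have hgen := hgen_all hD
  obtain ⟨e, he⟩ := exists_six hD hgen (M := M) hM
  obtain ⟨hC3, hY2, hcase⟩ := values hD hgen he hM
  rcases hcase with ⟨h2, -⟩ | ⟨-, hδ, hv⟩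
  · omega
  obtain ⟨q1, q2, q3⟩ := class_equations hD hgen he
  obtain ⟨B, C, hB, hC, hA, hY, hF, nB, nC, nA, nY, nF, -⟩ := signed_degrees hD hgen he
  have hz1 : z ≠ 1 := fun h => by have := hD.zord; rw [h, orderOf_one] at this; omega
  have hk : e 2 z ≠ e 2 1 := no_kernel (he.signed 2) (by
    rw [← he.zero, he.orth]; simp) hz1
  rw [hδ] at q1 q3
  rw [hY2, hC3, kappa_cast hD] at q2
  rw [hA, kappa_cast hD] at q1 q3
  rw [hB] at q1
  rw [hC] at q3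
  rw [hY, hC] at q2
  rw [hC3, hF] at q3
  obtain ⟨hQ, hQ1, hQm⟩ := Q_facts hD
  set K : ℚ := (Nat.card (Cz z) : ℚ) ^ 3 /
    ((Nat.card G : ℚ) * (Nat.card (Subgroup.centralizer ({(D.w : G), z} : Set G)) : ℚ) ^ 2) with hK
  have mA : (1 : ℚ) - B ≠ 0 := by exact_mod_cast nA
  have mB : (B : ℚ) ≠ 0 := by exact_mod_cast nB
  have mC : (C : ℚ) ≠ 0 := by exact_mod_cast nC
  have mY : (-1 : ℚ) - C ≠ 0 := by exact_mod_cast nY
  have mF : (B : ℚ) - 1 - C ≠ 0 := by exact_mod_cast nF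
  have E2 : (1 : ℚ) + ((D.Q : ℚ) - 1) ^ 2 / (-1 - C) + (D.Q : ℚ) ^ 2 / C = K * (1 - 1 / (D.Q : ℚ)) := by
    apply Rat.cast_injective (α := ℂ)
    push_cast
    linear_combination q2
  rcases hv with ⟨a1, a2, a5⟩ | ⟨a1, a2, a5⟩
  · rw [a1, a2] at q1
    rw [a1, a5] at q3
    have E1 : (-1 : ℚ) + ((D.Q : ℚ) + 1) ^ 2 / (1 - B) + ((D.Q : ℚ) + 2) ^ 2 / B =
        K * (4 / ((D.Q : ℚ) + 1) - 1 - 1 / (D.Q : ℚ)) := by
      apply Rat.cast_injective (α := ℂ)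
      push_cast
      linear_combination q1
    have E3 : ((D.Q : ℚ) + 1) ^ 2 / (1 - B) + (D.Q : ℚ) ^ 2 / C + (2 * (D.Q : ℚ) + 1) ^ 2 / (B - 1 - C) =
        K * (4 / ((D.Q : ℚ) + 1) - 1 - 1 / (D.Q : ℚ)) := by
      apply Rat.cast_injective (α := ℂ)
      push_cast
      linear_combination q3
    have hker : (B : ℚ) ≠ (D.Q : ℚ) + 2 := by
      intro h
      refine hk ?_
      rw [a2, hB, show (B : ℂ) = ((B : ℚ) : ℂ) by norm_cast, h]
      push_cast; ring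
    obtain ⟨r1, r2⟩ := Arith.wreathed_normal hQ hQ1 hQm mA mB mC mY mF hker E1 E2 E3
    rw [r1, hK] at r2
    have hg : (Nat.card G : ℚ) ≠ 0 := Nat.cast_ne_zero.2 Nat.card_pos.ne'
    have hu : (Nat.card (Subgroup.centralizer ({(D.w : G), z} : Set G)) : ℚ) ≠ 0 :=
      Nat.cast_ne_zero.2 Nat.card_pos.ne'
    field_simp at r2
    apply Int.cast_injective (α := ℚ)
    push_cast
    linear_combination -r2
  · rw [a1, a2] at q1
    rw [a1, a5] at q3
    have E1 : (-1 : ℚ) + ((D.Q : ℚ) + 1) ^ 2 / (1 - B) + (D.Q : ℚ) ^ 2 / B =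
        K * (4 / ((D.Q : ℚ) + 1) - 1 - 1 / (D.Q : ℚ)) := by
      apply Rat.cast_injective (α := ℂ)
      push_cast
      linear_combination q1
    have E3 : ((D.Q : ℚ) + 1) ^ 2 / (1 - B) + (D.Q : ℚ) ^ 2 / C + 1 / (B - 1 - C) =
        K * (4 / ((D.Q : ℚ) + 1) - 1 - 1 / (D.Q : ℚ)) := by
      apply Rat.cast_injective (α := ℂ)
      push_cast
      linear_combination q3
    have hker : (B : ℚ) ≠ -(D.Q : ℚ) := by
      intro h
      refine hk ?_
      rw [a2, hB, show (B : ℂ) = ((B : ℚ) : ℂ) by norm_cast, h]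
      push_cast; ring
    exact (Arith.wreathed_alt hQ hQ1 hQm mA mB mC mY mF hker E1 E2 E3).elim

/-- The two signed degrees when the central part has order two. -/
theorem data_qd [Finite Ω] [IsSimpleGroup G] (h2 : Nat.card D.core.Z = 2) :
    ∃ B C : ℤ, B ≠ 0 ∧ B ≠ 1 ∧ C ≠ 0 ∧ 1 + C ≠ 0 ∧ C * (D.Q ^ 2 - B) = D.Q ^ 2 * (B - 1) ∧
      (Nat.card (Cz z) : ℤ) ^ 3 * ((D.Q + 1) * B * (B - 1)) =
        (Nat.card G : ℤ) * (Nat.card (Subgroup.centralizer ({(D.w : G), z} : Set G)) : ℤ) ^ 2 *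
          (D.Q * (B + D.Q) ^ 2) ∧
      B ∣ (Nat.card G : ℤ) ∧ B - 1 ∣ (Nat.card G : ℤ) ∧ C ∣ (Nat.card G : ℤ) := by
  obtain ⟨M, hM⟩ := exists_isPModular Nat.prime_two
  have hgen := hgen_all hD
  obtain ⟨e, he⟩ := exists_six hD hgen (M := M) hM
  obtain ⟨hC3, -, hcase⟩ := values hD hgen he hM
  rcases hcase with ⟨-, hδ, a1, a2, a5⟩ | ⟨h4, -⟩
  swap
  · omega
  obtain ⟨q1, -, q3⟩ := class_equations hD hgen he
  obtain ⟨B, C, hB, hC, hA, hY, hF, nB, nC, nA, nY, nF, d1, d2, d3⟩ := signed_degrees hD hgen he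
  have hz1 : z ≠ 1 := fun h => by have := hD.zord; rw [h, orderOf_one] at this; omega
  have hk : e 5 z ≠ e 5 1 := no_kernel (he.signed 5) (by
    rw [← he.zero, he.orth]; simp) hz1
  rw [hδ, hA, a1, a2, hB, kappa_cast hD] at q1
  rw [hδ, hA, hC, hF, a1, hC3, a5, kappa_cast hD] at q3
  obtain ⟨hQ, -, -⟩ := Q_facts hD
  set K : ℚ := (Nat.card (Cz z) : ℚ) ^ 3 /
    ((Nat.card G : ℚ) * (Nat.card (Subgroup.centralizer ({(D.w : G), z} : Set G)) : ℚ) ^ 2) with hK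
  have E1 : (-1 : ℚ) + ((D.Q : ℚ) + 1) ^ 2 / (1 - B) + (D.Q : ℚ) ^ 2 / B = K * (-1 - 1 / (D.Q : ℚ)) := by
    apply Rat.cast_injective (α := ℂ)
    push_cast
    linear_combination q1
  have E3 : ((D.Q : ℚ) + 1) ^ 2 / (1 - B) + (D.Q : ℚ) ^ 2 / C + 1 / (B - 1 - C) =
      K * (-1 - 1 / (D.Q : ℚ)) := by
    apply Rat.cast_injective (α := ℂ)
    push_cast
    linear_combination q3
  have hne : (C : ℚ) ≠ B := by
    intro h
    refine hk ?_
    rw [a5, hF, show (C : ℂ) = ((C : ℚ) : ℂ) by norm_cast, h]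
    push_cast; ring
  obtain ⟨r1, r2⟩ := Arith.qd_key hQ (by exact_mod_cast nA) (by exact_mod_cast nB) (by exact_mod_cast nC)
    (by exact_mod_cast nF) hne E1 E3
  refine ⟨B, C, nB, by omega, nC, by omega, by exact_mod_cast r1, ?_, d1, d2, d3⟩
  rw [hK] at r2
  have hg : (Nat.card G : ℚ) ≠ 0 := Nat.cast_ne_zero.2 Nat.card_pos.ne'
  have hu : (Nat.card (Subgroup.centralizer ({(D.w : G), z} : Set G)) : ℚ) ≠ 0 :=
    Nat.cast_ne_zero.2 Nat.card_pos.ne'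
  field_simp at r2
  apply Int.cast_injective (α := ℚ)
  push_cast
  linear_combination r2

end CfsgLib.BrauerOrder
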