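import Cfsg.Agent.Lib.BrauerOrder.Calc
import Cfsg.Agent.Lib.CharTheory.Signed
import Cfsg.Agent.Lib.Involutions

/-!
# The class functions on the centraliser used for the order formula

The six signed irreducible characters `1, lam, Sh, lam Sh, Rh, Th` and the functions `th1`, `th1'`, `th2`
vanishing outside the elements with a power equal to the involution.
-/

set_option autoImplicit false
set_option linter.unusedSectionVars false
set_option linter.style.haveILetI false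

namespace CfsgLib.BrauerOrder

open Cfsg CfsgLib.CharTheory CfsgLib.Blocks.AbelianFree
open scoped ComplexConjugate

universe u v

variable {G : Type u} [Group G] [Fintype G] {z : G}

/-- The centraliser of `z`. -/
abbrev Cz {G : Type u} [Group G] (z : G) : Type u := ↥(Subgroup.centralizer ({z} : Set G))

variable [Fintype (Cz z)] {Ω : Type v} [MulAction (Cz z) Ω] (D : Sys G z)

/-- The signed field order. -/
def Sys.Q : ℤ := D.core.σ true * (D.core.q : ℤ)

variable (Ω) in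
/-- The signed Steinberg character. -/
noncomputable def Sys.Sh : (Cz z) → ℂ := fun g => (D.core.σ true : ℂ) * St Ω g

/-- The linear character of order two. -/
noncomputable def Sys.lamF : (Cz z) → ℂ := fun g => (D.lam g : ℂ)

variable (Ω) in
/-- The twisted Steinberg character. -/
noncomputable def Sys.lamSh : (Cz z) → ℂ := fun g => (D.lam g : ℂ) * D.Sh Ω g

variable (Ω) in
/-- The character of degree `Q + 1`. -/
noncomputable def Sys.Rh : (Cz z) → ℂ := D.core.R Ω true D.τ0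

variable (Ω) in
/-- The character of degree `1 - Q`. -/
noncomputable def Sys.Th : (Cz z) → ℂ := D.core.R Ω false D.θ

/-- The constant one. -/
def Sys.one : (Cz z) → ℂ := let _ := D; fun _ => 1

variable (Ω) in
/-- The first function. -/
noncomputable def Sys.th1 : (Cz z) → ℂ := D.Rh Ω - D.one - D.lamSh Ω

variable (Ω) in
/-- The first function, twisted. -/
noncomputable def Sys.th1' : (Cz z) → ℂ := D.Rh Ω - D.lamF - D.Sh Ω

variable (Ω) in
/-- The second function. -/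
noncomputable def Sys.th2 : (Cz z) → ℂ := D.Th Ω - D.core.R Ω false 1

/-- The restriction of `lam` to a torus. -/
noncomputable def Sys.lamT (b : Bool) : ↥(D.core.T b) →* ℂˣ := D.lam.comp (D.core.T b).subtype

variable {D} (hD : D.Spec Ω)

include hD

theorem sigma_false : (D.core.σ false : ℂ) = -(D.core.σ true : ℂ) := by
  rw [hD.core.sgnne]; push_cast; rfl

theorem sigma_sq : (D.core.σ true : ℂ) * (D.core.σ true : ℂ) = 1 := by
  rcases hD.core.sgn true with e | e <;> rw [e] <;> norm_num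

theorem R_one_true : D.core.R Ω true 1 = D.one + D.Sh Ω := by
  funext g
  obtain ⟨h1, h2⟩ := R_one_apply (Ω := Ω) hD.core g
  show D.core.R Ω true 1 g = 1 + (D.core.σ true : ℂ) * St Ω g
  linear_combination (1 / 2 : ℂ) * h1 + (1 / 2 : ℂ) * h2

theorem R_one_false : D.core.R Ω false 1 = D.one - D.Sh Ω := by
  funext g
  obtain ⟨h1, h2⟩ := R_one_apply (Ω := Ω) hD.core g
  show D.core.R Ω false 1 g = 1 - (D.core.σ true : ℂ) * St Ω g
  linear_combination (1 / 2 : ℂ) * h1 - (1 / 2 : ℂ) * h2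

theorem R_lam_true : D.core.R Ω true (D.lamT true) = D.lamF + D.lamSh Ω := by
  rw [Sys.lamT, ← one_mul (D.lam.comp (D.core.T true).subtype), R_mul_lam hD.core true 1 hD.lamsq,
    R_one_true hD]
  funext g
  show (D.lam g : ℂ) * (1 + D.Sh Ω g) = (D.lam g : ℂ) + (D.lam g : ℂ) * D.Sh Ω g
  ring

theorem R_lam_false : D.core.R Ω false (D.lamT false) = D.lamF - D.lamSh Ω := by
  rw [Sys.lamT, ← one_mul (D.lam.comp (D.core.T false).subtype), R_mul_lam hD.core false 1 hD.lamsq,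
    R_one_false hD]
  funext g
  show (D.lam g : ℂ) * (1 - D.Sh Ω g) = (D.lam g : ℂ) - (D.lam g : ℂ) * D.Sh Ω g
  ring

theorem lam_conj (x t : (Cz z)) : D.lam (x * t * x⁻¹) = D.lam t := by
  rw [map_mul, map_mul, map_inv, mul_comm (D.lam x), mul_inv_cancel_right]

theorem conjChar_lamT (b : Bool) : D.core.conjChar (hD.core.nnorm b) (D.lamT b) = D.lamT b :=
  MonoidHom.ext fun t => lam_conj hD _ _

theorem conjChar_one (b : Bool) : D.core.conjChar (hD.core.nnorm b) 1 = 1 :=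
  MonoidHom.ext fun _ => rfl

theorem lamT_ne_one (b : Bool) : D.lamT b ≠ 1 := by
  intro h
  obtain ⟨t, ht, e⟩ : ∃ t ∈ D.core.T b, D.lam t = -1 := by cases b; exacts [hD.lamN, hD.lamU]
  have h1 : D.lam t = 1 := DFunLike.congr_fun h ⟨t, ht⟩
  rw [e] at h1
  have := congrArg Units.val h1
  norm_num at this

theorem tau0_ne : D.τ0 ≠ 1 ∧ D.τ0 ≠ D.lamT true :=
  ⟨fun h => hD.tau0ne (by rw [h, conjChar_one hD]), fun h => hD.tau0ne (by rw [h, conjChar_lamT hD])⟩

theorem th_ne : D.θ ≠ 1 ∧ D.θ ≠ D.lamT false :=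
  ⟨fun h => hD.thne (by rw [h, conjChar_one hD]), fun h => hD.thne (by rw [h, conjChar_lamT hD])⟩

theorem conjChar_conjChar (b : Bool) (τ : ↥(D.core.T b) →* ℂˣ) :
    D.core.conjChar (hD.core.nnorm b) (D.core.conjChar (hD.core.nnorm b) τ) = τ := by
  refine MonoidHom.ext fun t => congrArg τ (Subtype.ext ?_)
  show D.core.n b * (D.core.n b * (t : (Cz z)) * (D.core.n b)⁻¹) * (D.core.n b)⁻¹ = t
  rw [show D.core.n b * (D.core.n b * (t : (Cz z)) * (D.core.n b)⁻¹) * (D.core.n b)⁻¹ =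
    D.core.n b * D.core.n b * t * (D.core.n b * D.core.n b)⁻¹ by group,
    hD.core.tcomm b _ (hD.core.nsq b) t t.2, mul_inv_cancel_right]

open Classical in
theorem inner_R_fixed (b : Bool) (τ ρ : ↥(D.core.T b) →* ℂˣ)
    (hρ : D.core.conjChar (hD.core.nnorm b) ρ = ρ) :
    classInner (D.core.R Ω b τ) (D.core.R Ω b ρ) = if τ = ρ then 2 else 0 := by
  rw [classInner_R_R hD.core]
  by_cases h : τ = ρ
  · subst h; rw [if_pos rfl, if_pos hρ, if_pos rfl]; norm_num
  · rw [if_neg h, if_neg h, if_neg (fun e => h ?_), add_zero]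
    rw [← conjChar_conjChar hD b τ, e, hρ]

open Classical in
/-- Products of `R true τ` with the four basic characters. -/
theorem inner_RU (τ : ↥(D.core.T true) →* ℂˣ) :
    classInner (D.core.R Ω true τ) D.one = (if τ = 1 then 1 else 0) ∧
    classInner (D.core.R Ω true τ) (D.Sh Ω) = (if τ = 1 then 1 else 0) ∧
    classInner (D.core.R Ω true τ) D.lamF = (if τ = D.lamT true then 1 else 0) ∧
    classInner (D.core.R Ω true τ) (D.lamSh Ω) = (if τ = D.lamT true then 1 else 0) := by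
  have a1 := inner_R_fixed hD true τ 1 (conjChar_one hD true)
  have a2 := inner_R_fixed hD true τ (D.lamT true) (conjChar_lamT hD true)
  have b1 := classInner_R_ne hD.core (show true ≠ false by decide) τ 1
  have b2 := classInner_R_ne hD.core (show true ≠ false by decide) τ (D.lamT false)
  rw [R_one_true hD, classInner_add_right] at a1
  rw [R_one_false hD, classInner_sub_right] at b1
  rw [R_lam_true hD, classInner_add_right] at a2
  rw [R_lam_false hD, classInner_sub_right] at b2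
  refine ⟨?_, ?_, ?_, ?_⟩
  · by_cases h : τ = 1
    · rw [if_pos h] at a1 ⊢; linear_combination (1/2 : ℂ) * a1 + (1/2 : ℂ) * b1
    · rw [if_neg h] at a1 ⊢; linear_combination (1/2 : ℂ) * a1 + (1/2 : ℂ) * b1
  · by_cases h : τ = 1
    · rw [if_pos h] at a1 ⊢; linear_combination (1/2 : ℂ) * a1 - (1/2 : ℂ) * b1
    · rw [if_neg h] at a1 ⊢; linear_combination (1/2 : ℂ) * a1 - (1/2 : ℂ) * b1
  · by_cases h : τ = D.lamT true
    · rw [if_pos h] at a2 ⊢; linear_combination (1/2 : ℂ) * a2 + (1/2 : ℂ) * b2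
    · rw [if_neg h] at a2 ⊢; linear_combination (1/2 : ℂ) * a2 + (1/2 : ℂ) * b2
  · by_cases h : τ = D.lamT true
    · rw [if_pos h] at a2 ⊢; linear_combination (1/2 : ℂ) * a2 - (1/2 : ℂ) * b2
    · rw [if_neg h] at a2 ⊢; linear_combination (1/2 : ℂ) * a2 - (1/2 : ℂ) * b2

open Classical in
/-- Products of `R false φ` with the four basic characters. -/
theorem inner_RN (φ : ↥(D.core.T false) →* ℂˣ) :
    classInner (D.core.R Ω false φ) D.one = (if φ = 1 then 1 else 0) ∧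
    classInner (D.core.R Ω false φ) (D.Sh Ω) = (if φ = 1 then -1 else 0) ∧
    classInner (D.core.R Ω false φ) D.lamF = (if φ = D.lamT false then 1 else 0) ∧
    classInner (D.core.R Ω false φ) (D.lamSh Ω) = (if φ = D.lamT false then -1 else 0) := by
  have a1 := inner_R_fixed hD false φ 1 (conjChar_one hD false)
  have a2 := inner_R_fixed hD false φ (D.lamT false) (conjChar_lamT hD false)
  have b1 := classInner_R_ne hD.core (show false ≠ true by decide) φ 1
  have b2 := classInner_R_ne hD.core (show false ≠ true by decide) φ (D.lamT true)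
  rw [R_one_false hD, classInner_sub_right] at a1
  rw [R_one_true hD, classInner_add_right] at b1
  rw [R_lam_false hD, classInner_sub_right] at a2
  rw [R_lam_true hD, classInner_add_right] at b2
  refine ⟨?_, ?_, ?_, ?_⟩
  · by_cases h : φ = 1
    · rw [if_pos h] at a1 ⊢; linear_combination (1/2 : ℂ) * a1 + (1/2 : ℂ) * b1
    · rw [if_neg h] at a1 ⊢; linear_combination (1/2 : ℂ) * a1 + (1/2 : ℂ) * b1
  · by_cases h : φ = 1
    · rw [if_pos h] at a1 ⊢; linear_combination (1/2 : ℂ) * b1 - (1/2 : ℂ) * a1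
    · rw [if_neg h] at a1 ⊢; linear_combination (1/2 : ℂ) * b1 - (1/2 : ℂ) * a1
  · by_cases h : φ = D.lamT false
    · rw [if_pos h] at a2 ⊢; linear_combination (1/2 : ℂ) * a2 + (1/2 : ℂ) * b2
    · rw [if_neg h] at a2 ⊢; linear_combination (1/2 : ℂ) * a2 + (1/2 : ℂ) * b2
  · by_cases h : φ = D.lamT false
    · rw [if_pos h] at a2 ⊢; linear_combination (1/2 : ℂ) * b2 - (1/2 : ℂ) * a2
    · rw [if_neg h] at a2 ⊢; linear_combination (1/2 : ℂ) * b2 - (1/2 : ℂ) * a2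

theorem inner_basic :
    classInner D.one D.one = 1 ∧ classInner (D.Sh Ω) (D.Sh Ω) = 1 ∧ classInner D.one (D.Sh Ω) = 0 ∧
    classInner D.lamF D.lamF = 1 ∧ classInner (D.lamSh Ω) (D.lamSh Ω) = 1 ∧ classInner D.lamF (D.lamSh Ω) = 0 ∧
    classInner D.one D.lamF = 0 ∧ classInner D.one (D.lamSh Ω) = 0 ∧ classInner (D.Sh Ω) D.lamF = 0 ∧
    classInner (D.Sh Ω) (D.lamSh Ω) = 0 := by
  obtain ⟨u1, u2, u3, u4⟩ := inner_RU hD 1
  obtain ⟨v1, v2, v3, v4⟩ := inner_RU hD (D.lamT true)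
  obtain ⟨m1, m2, m3, m4⟩ := inner_RN hD 1
  obtain ⟨n1, n2, n3, n4⟩ := inner_RN hD (D.lamT false)
  have e1 := lamT_ne_one hD true
  have e2 := lamT_ne_one hD false
  simp only [R_one_true hD, R_lam_true hD, R_one_false hD, R_lam_false hD, classInner_add_left,
    classInner_sub_left, if_true, Ne.symm e1, Ne.symm e2, e1, e2, if_false] at u1 u2 u3 u4 v1 v2 v3 v4 m1 m2 m3 m4 n1 n2 n3 n4
  refine ⟨?_, ?_, ?_, ?_, ?_, ?_, ?_, ?_, ?_, ?_⟩
  · linear_combination (1/2 : ℂ) * u1 + (1/2 : ℂ) * m1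
  · linear_combination (1/2 : ℂ) * u2 - (1/2 : ℂ) * m2
  · linear_combination (1/2 : ℂ) * u2 + (1/2 : ℂ) * m2
  · linear_combination (1/2 : ℂ) * v3 + (1/2 : ℂ) * n3
  · linear_combination (1/2 : ℂ) * v4 - (1/2 : ℂ) * n4
  · linear_combination (1/2 : ℂ) * v4 + (1/2 : ℂ) * n4
  · linear_combination (1/2 : ℂ) * u3 + (1/2 : ℂ) * m3
  · linear_combination (1/2 : ℂ) * u4 + (1/2 : ℂ) * m4
  · linear_combination (1/2 : ℂ) * u3 - (1/2 : ℂ) * m3
  · linear_combination (1/2 : ℂ) * u4 - (1/2 : ℂ) * m4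

/-- The signed irreducible characters are orthonormal. -/
theorem inner_six :
    classInner (D.Rh Ω) (D.Rh Ω) = 1 ∧ classInner (D.Th Ω) (D.Th Ω) = 1 ∧
    classInner (D.Rh Ω) (D.Th Ω) = 0 ∧
    classInner (D.Rh Ω) D.one = 0 ∧ classInner (D.Rh Ω) (D.Sh Ω) = 0 ∧
    classInner (D.Rh Ω) D.lamF = 0 ∧ classInner (D.Rh Ω) (D.lamSh Ω) = 0 ∧
    classInner (D.Th Ω) D.one = 0 ∧ classInner (D.Th Ω) (D.Sh Ω) = 0 ∧
    classInner (D.Th Ω) D.lamF = 0 ∧ classInner (D.Th Ω) (D.lamSh Ω) = 0 := by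
  classical
  obtain ⟨r1, r2, r3, r4⟩ := inner_RU hD D.τ0
  obtain ⟨t1, t2, t3, t4⟩ := inner_RN hD D.θ
  simp only [(tau0_ne hD).1, (tau0_ne hD).2, (th_ne hD).1, (th_ne hD).2, if_false] at r1 r2 r3 r4 t1 t2 t3 t4
  refine ⟨?_, ?_, classInner_R_ne hD.core (by decide) _ _, r1, r2, r3, r4, t1, t2, t3, t4⟩
  · rw [Sys.Rh, classInner_R_R hD.core, if_pos rfl, if_neg hD.tau0ne, add_zero]
  · rw [Sys.Th, classInner_R_R hD.core, if_pos rfl, if_neg hD.thne, add_zero]

section Gen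

variable (hgen : ∀ (b : Bool) (τ : ↥(D.core.T b) →* ℂˣ), IsGeneralizedCharacter (Cz z) (D.core.R Ω b τ))
include hgen

theorem gen_basic :
    IsGeneralizedCharacter (Cz z) D.one ∧ IsGeneralizedCharacter (Cz z) D.lamF ∧
    IsGeneralizedCharacter (Cz z) (D.Sh Ω) ∧ IsGeneralizedCharacter (Cz z) (D.lamSh Ω) := by
  have h1 : IsGeneralizedCharacter (Cz z) D.one := isGenChar_of_char (isCharacter_of_irr isIrrCharacter_one)
  have h2 : IsGeneralizedCharacter (Cz z) D.lamF := isGenChar_of_char (isCharacter_of_irr (isIrrCharacter_linear D.lam))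
  refine ⟨h1, h2, ?_, ?_⟩
  · have := isGenChar_sub (hgen true 1) h1
    rwa [R_one_true hD, add_sub_cancel_left] at this
  · have := isGenChar_sub (hgen true (D.lamT true)) h2
    rwa [R_lam_true hD, add_sub_cancel_left] at this

theorem gen_th : IsGeneralizedCharacter (Cz z) (D.th1 Ω) ∧ IsGeneralizedCharacter (Cz z) (D.th1' Ω) ∧
    IsGeneralizedCharacter (Cz z) (D.th2 Ω) := by
  obtain ⟨a, b, c, e⟩ := gen_basic hD hgen
  exact ⟨isGenChar_sub (isGenChar_sub (hgen _ _) a) e, isGenChar_sub (isGenChar_sub (hgen _ _) b) c,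
    isGenChar_sub (hgen _ _) (hgen _ _)⟩

theorem signed_six :
    IsSignedIrr D.one ∧ IsSignedIrr D.lamF ∧ IsSignedIrr (D.Sh Ω) ∧ IsSignedIrr (D.lamSh Ω) ∧
    IsSignedIrr (D.Rh Ω) ∧ IsSignedIrr (D.Th Ω) := by
  obtain ⟨a, b, c, e⟩ := gen_basic hD hgen
  obtain ⟨i1, i2, -, i4, i5, -⟩ := inner_basic hD
  obtain ⟨j1, j2, -⟩ := inner_six hD
  exact ⟨irr_or_neg_of_norm_one a i1, irr_or_neg_of_norm_one b i4, irr_or_neg_of_norm_one c i2,
    irr_or_neg_of_norm_one e i5, irr_or_neg_of_norm_one (hgen _ _) j1, irr_or_neg_of_norm_one (hgen _ _) j2⟩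

end Gen

theorem classFun_six :
    IsClassFunction (Cz z) D.one ∧ IsClassFunction (Cz z) D.lamF ∧ IsClassFunction (Cz z) (D.Sh Ω) ∧
    IsClassFunction (Cz z) (D.lamSh Ω) ∧ IsClassFunction (Cz z) (D.Rh Ω) ∧ IsClassFunction (Cz z) (D.Th Ω) :=
  ⟨fun _ _ => rfl, fun g x => by simp only [Sys.lamF, lam_conj hD],
    fun g x => by simp only [Sys.Sh, St_conj],
    fun g x => by simp only [Sys.lamSh, Sys.Sh, St_conj, lam_conj hD],
    R_isClassFunction hD.core _ _, R_isClassFunction hD.core _ _⟩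

theorem classFun_th :
    IsClassFunction (Cz z) (D.th1 Ω) ∧ IsClassFunction (Cz z) (D.th1' Ω) ∧ IsClassFunction (Cz z) (D.th2 Ω) := by
  obtain ⟨a, b, c, e, f, g⟩ := classFun_six hD
  exact ⟨isClassFunction_sub (isClassFunction_sub f a) e, isClassFunction_sub (isClassFunction_sub f b) c,
    isClassFunction_sub g (R_isClassFunction hD.core _ _)⟩

/-! ### Support -/

theorem zc_comm (g : (Cz z)) : g * D.zc = D.zc * g :=
  Subtype.ext (by
    have := Subgroup.mem_centralizer_singleton_iff.1 g.2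
    show (g : G) * D.zc = D.zc * g
    rw [hD.zcv, this])

theorem zc_ne : D.zc ≠ 1 ∧ D.zc * D.zc = 1 := by
  have h := CfsgLib.Involutions.orderOf_eq_two_iff'.1 hD.zord
  exact ⟨fun e => h.2 (by rw [← hD.zcv, e]; rfl), Subtype.ext (by
    show (D.zc : G) * D.zc = 1
    rw [hD.zcv, h.1])⟩

theorem pow_p2 (g : (Cz z)) : ∃ m : ℕ, g ^ m = p2 g := by
  obtain ⟨w, hw, hc, ⟨k, hk⟩, hwo⟩ := p2_spec g
  have hcop : (orderOf w).Coprime (orderOf (p2 g)) := by
    rw [hk]; exact ((Nat.prime_two.coprime_iff_not_dvd.2 hwo).symm).pow_right k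
  obtain ⟨m, hm⟩ := exists_pow_eq_self_of_coprime hcop
  refine ⟨orderOf w * m, ?_⟩
  rw [pow_mul, ← hw, hc.mul_pow, pow_orderOf_eq_one, mul_one, hw, hm]

theorem inD_of_central {g u : (Cz z)} (hu : u ∈ D.core.Z) (hu1 : u ≠ 1) (h : p2 g * u⁻¹ ∈ D.core.O) :
    ∃ i : ℕ, g ^ i = D.zc := by
  haveI := hD.core.onorm
  obtain ⟨a, ha⟩ := two_of_mem hD.core (hD.core.zle true hu)
  have hex : ∃ i : ℕ, u ^ i = D.zc := by
    rcases Nat.eq_zero_or_pos a with rfl | ha0
    · exact absurd (orderOf_eq_one_iff.1 (by rw [ha, pow_zero])) hu1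
    · refine ⟨2 ^ (a - 1), (hD.zonly _ (pow_mem hu _) ?_).resolve_left ?_⟩
      · rw [← pow_add, ← two_mul, ← pow_succ', Nat.sub_add_cancel ha0, ← ha, pow_orderOf_eq_one]
      · exact pow_ne_one_of_lt_orderOf (by positivity) (by rw [ha]; exact Nat.pow_lt_pow_right (by norm_num) (by omega))
  obtain ⟨i, hi⟩ := hex
  obtain ⟨m, hm⟩ := pow_p2 hD g
  refine ⟨m * i, ?_⟩
  rw [pow_mul, hm]
  have hO : p2 g ^ i * D.zc⁻¹ ∈ D.core.O := by
    rw [← QuotientGroup.eq_one_iff, QuotientGroup.mk_mul, QuotientGroup.mk_inv, QuotientGroup.mk_pow,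
      mul_inv_eq_one, ← hi, QuotientGroup.mk_pow]
    congr 1
    rw [← mul_inv_eq_one, ← QuotientGroup.mk_inv, ← QuotientGroup.mk_mul, QuotientGroup.eq_one_iff]
    exact h
  obtain ⟨k, hk⟩ := p2_two g
  have h2 : ∃ j : ℕ, orderOf (p2 g ^ i * D.zc⁻¹) = 2 ^ j := by
    have hdvd : orderOf (p2 g ^ i * D.zc⁻¹) ∣ 2 ^ (k + 1) := by
      refine orderOf_dvd_of_pow_eq_one ?_
      have hc : Commute (p2 g ^ i) D.zc⁻¹ := (show Commute _ D.zc from zc_comm hD _).inv_right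
      rw [hc.mul_pow, inv_pow, ← pow_mul,
        (orderOf_dvd_iff_pow_eq_one (x := p2 g)).1 ⟨i * 2, by rw [hk]; ring⟩, one_mul, pow_succ', pow_mul, sq,
        (zc_ne hD).2, one_pow, inv_one]
    obtain ⟨j, -, hj⟩ := (Nat.dvd_prime_pow Nat.prime_two).1 hdvd
    exact ⟨j, hj⟩
  exact mul_inv_eq_one.1 (odd_S_trivial hD.core hO h2)

theorem inD_of_conj {g t : (Cz z)} {i : ℕ} (hti : t ^ i = D.zc) (hc : IsConj (p2 g) t) :
    ∃ j : ℕ, g ^ j = D.zc := by
  obtain ⟨m, hm⟩ := pow_p2 hD g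
  obtain ⟨x, hx⟩ := isConj_iff.1 hc
  refine ⟨m * i, ?_⟩
  rw [pow_mul, hm]
  rw [← hx, conj_pow] at hti
  calc p2 g ^ i = x⁻¹ * (x * p2 g ^ i * x⁻¹) * x := by group
    _ = D.zc := by rw [hti, mul_assoc, ← zc_comm hD x, ← mul_assoc, inv_mul_cancel, one_mul]

theorem inD_of_false {g : (Cz z)} (h : TType D.core false g) : ∃ j : ℕ, g ^ j = D.zc := by
  obtain ⟨t, ht, hz, hc⟩ := h
  obtain ⟨i, hi⟩ := hD.powN t ht (fun e => hz (e ▸ one_mem _))
  exact inD_of_conj hD hi hc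

omit hD in
/-- Vanishing outside the elements with a power equal to the involution. -/
def Sys.Supp (f : (Cz z) → ℂ) : Prop := ∀ g : (Cz z), (∀ i : ℕ, g ^ i ≠ D.zc) → f g = 0

theorem supp_of {f : (Cz z) → ℂ} (h1 : ∀ g, p2 g ∈ D.core.O → f g = 0)
    (hU : ∀ g t, t ∈ D.core.T true → t ∉ D.core.Z → (∀ i : ℕ, t ^ i ≠ D.zc) → IsConj (p2 g) t → f g = 0) :
    D.Supp f := by
  intro g hg
  rcases types hD.core g with ⟨u, hu, h⟩ | h | h
  · by_cases hu1 : u = 1
    · exact h1 g (by simpa [hu1] using h)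
    · obtain ⟨i, hi⟩ := inD_of_central hD hu hu1 h
      exact absurd hi (hg i)
  · obtain ⟨i, hi⟩ := inD_of_false hD h
    exact absurd hi (hg i)
  · obtain ⟨t, ht, hz, hc⟩ := h
    refine hU g t ht hz (fun i hi => ?_) hc
    obtain ⟨j, hj⟩ := inD_of_conj hD hi hc
    exact hg j hj

theorem R_reg (b : Bool) (τ : ↥(D.core.T b) →* ℂˣ) {g : (Cz z)} (h : p2 g ∈ D.core.O) :
    D.core.R Ω b τ g = 1 + (D.core.σ b : ℂ) * St Ω g := by
  rw [R_ctype hD.core b τ (one_mem _) (by simpa using h), tv_mem τ (one_mem _),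
    show (⟨1, one_mem _⟩ : ↥(D.core.T b)) = 1 from rfl, map_one, Units.val_one, one_mul]

theorem supp_RN (φ ψ : ↥(D.core.T false) →* ℂˣ) :
    D.Supp (D.core.R Ω false φ - D.core.R Ω false ψ) := by
  refine supp_of hD (fun g h => ?_) (fun g t ht hz _ hc => ?_)
  · rw [Pi.sub_apply, R_reg hD false φ h, R_reg hD false ψ h, sub_self]
  · rw [Pi.sub_apply, R_other hD.core false φ ⟨t, ht, hz, hc⟩, R_other hD.core false ψ ⟨t, ht, hz, hc⟩, sub_self]

theorem supp_th : D.Supp (D.th1 Ω) ∧ D.Supp (D.th1' Ω) ∧ D.Supp (D.th2 Ω) := by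
  have hreg : ∀ g : (Cz z), p2 g ∈ D.core.O → D.lam g = 1 := by
    intro g h
    obtain ⟨w, hw, -, -, hwo⟩ := p2_spec g
    rw [← hw, odd_S_trivial hD.core h (p2_two g), one_mul, lam_odd hD.lamsq hwo]
  have hU : ∀ (g t : (Cz z)) (ht : t ∈ D.core.T true) (hz : t ∉ D.core.Z), (∀ i : ℕ, t ^ i ≠ D.zc) →
      IsConj (p2 g) t → D.Rh Ω g = 1 + D.lam g ∧ D.Sh Ω g = 1 := by
    intro g t ht hz hpow hc
    have hl : D.lam g = D.lam t := by
      obtain ⟨w, hw, -, -, hwo⟩ := p2_spec g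
      obtain ⟨x, hx⟩ := isConj_iff.1 hc
      rw [← hw, map_mul, lam_odd hD.lamsq hwo, mul_one, ← hx, lam_conj hD]
    refine ⟨?_, ?_⟩
    · rw [Sys.Rh, R_ttype hD.core true _ ht hz hc, ← tv_conjChar hD.core D.τ0 ht, tv_mem _ ht, tv_mem _ ht, hl]
      have hm : (D.lam t : ℂ) = (D.τ0 ⟨t, ht⟩ : ℂ) *
          (D.core.conjChar (hD.core.nnorm true) D.τ0 ⟨t, ht⟩ : ℂ) := by
        rw [← Units.val_mul, hD.tau0mul ⟨t, ht⟩]
      rw [hm]
      rcases hD.tau0line ⟨t, ht⟩ hpow with e | e <;> rw [e, Units.val_one] <;> ring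
    · rw [Sys.Sh, St_ttype hD.core ⟨t, ht, hz, hc⟩, sigma_sq hD]
  refine ⟨supp_of hD (fun g h => ?_) fun g t ht hz hp hc => ?_,
    supp_of hD (fun g h => ?_) fun g t ht hz hp hc => ?_, supp_RN hD _ _⟩
  · show D.Rh Ω g - 1 - (D.lam g : ℂ) * D.Sh Ω g = 0
    rw [Sys.Rh, R_reg hD true _ h, hreg g h, Units.val_one, Sys.Sh]; ring
  · show D.Rh Ω g - 1 - (D.lam g : ℂ) * D.Sh Ω g = 0
    rw [(hU g t ht hz hp hc).1, (hU g t ht hz hp hc).2]; ring
  · show D.Rh Ω g - (D.lam g : ℂ) - D.Sh Ω g = 0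
    rw [Sys.Rh, R_reg hD true _ h, hreg g h, Units.val_one, Sys.Sh]; ring
  · show D.Rh Ω g - (D.lam g : ℂ) - D.Sh Ω g = 0
    rw [(hU g t ht hz hp hc).1, (hU g t ht hz hp hc).2]; ring

/-! ### Values -/

theorem values_one :
    D.Rh Ω 1 = 1 + (D.Q : ℂ) ∧ D.Th Ω 1 = 1 - (D.Q : ℂ) ∧ D.Sh Ω 1 = (D.Q : ℂ) ∧
      D.lamF 1 = 1 ∧ D.lamSh Ω 1 = (D.Q : ℂ) := by
  have h1 : p2 (1 : (Cz z)) ∈ D.core.O := by
    have := p2_mul (t := (1 : (Cz z))) ⟨0, by simp⟩ (Commute.one_left (1 : (Cz z))) (by simp)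
    rw [one_mul] at this
    rw [this]; exact one_mem _
  have hSt : St Ω (1 : (Cz z)) = (D.core.q : ℂ) := by
    rw [St, show Nat.card (MulAction.fixedBy Ω (1 : (Cz z))) = D.core.q + 1 from by
      rw [← hD.core.card]; exact Nat.card_congr (Equiv.subtypeUnivEquiv fun a => one_smul _ a)]
    push_cast; ring
  refine ⟨?_, ?_, ?_, ?_, ?_⟩
  · rw [Sys.Rh, R_reg hD true _ h1, hSt, Sys.Q]; push_cast; ring
  · rw [Sys.Th, R_reg hD false _ h1, hSt, Sys.Q, sigma_false hD]; push_cast; ring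
  · rw [Sys.Sh, hSt, Sys.Q]; push_cast; ring
  · simp [Sys.lamF]
  · rw [Sys.lamSh, Sys.Sh, hSt, Sys.Q, map_one, Units.val_one]; push_cast; ring

end CfsgLib.BrauerOrder
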