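import Cfsg.Agent.Lib.BrauerOrder.TorusChar
import Cfsg.Agent.Lib.BrauerOrder.GenSylow
import Cfsg.Agent.Lib.CharTheory.Coherence

/-!
# The induced functions of the torus with the four-group

`fT τ` is the restriction to the elements with a power `zc` of `gT τ`, the sum of the three functions
`R true` on the orbit of `τ` minus `3 R true 1`. For a class function `φ` of `G`,
`⟨φ, fT τ⟩ = ⟨φ, gT τ⟩ - 2 ⟨φ, τ - 1⟩` on the centraliser of the four-group.
-/

set_option autoImplicit false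
set_option linter.unusedSectionVars false
set_option linter.style.haveILetI false

namespace CfsgLib.BrauerOrder

open Cfsg CfsgLib.CharTheory CfsgLib.Blocks CfsgLib.Blocks.AbelianFree
open scoped ComplexConjugate

universe u v

variable {G : Type u} [Group G] [Fintype G] {z : G} [Fintype (Cz z)] {Ω : Type v} [MulAction (Cz z) Ω]
  {D : Sys G z}

/-- A power equals the involution. -/
def OnD (D : Sys G z) (x : Cz z) : Prop := ∃ i : ℕ, x ^ i = D.zc

/-- The sum of the functions of an orbit. -/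
noncomputable def gT (Ω : Type v) [MulAction (Cz z) Ω] (r : ↥(D.core.T true) ≃* ↥(D.core.T true))
    (τ : ↥(D.core.T true) →* ℂˣ) : Cz z → ℂ :=
  D.core.R Ω true τ + D.core.R Ω true (crC r τ) + D.core.R Ω true (crC r (crC r τ)) -
    (3 : ℂ) • D.core.R Ω true 1

open Classical in
/-- The truncated sum. -/
noncomputable def fT (Ω : Type v) [MulAction (Cz z) Ω] (r : ↥(D.core.T true) ≃* ↥(D.core.T true))
    (τ : ↥(D.core.T true) →* ℂˣ) : Cz z → ℂ := fun x => if OnD D x then gT Ω r τ x else 0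

/-- The values on the torus. -/
noncomputable def Gs (hD : D.Spec Ω) (r : ↥(D.core.T true) ≃* ↥(D.core.T true))
    (τ : ↥(D.core.T true) →* ℂˣ) (t : ↥(D.core.T true)) : ℂ :=
  (τ t : ℂ) + (crC r τ t : ℂ) + (crC r (crC r τ) t : ℂ) + (cnC hD τ t : ℂ) + (cnC hD (crC r τ) t : ℂ) +
    (cnC hD (crC r (crC r τ)) t : ℂ) - 6

open Classical in
/-- The average over the odd elements commuting with the four-group. -/
noncomputable def Fav (D : Sys G z) (φ : Cz z → ℂ) (t : ↥(D.core.T true)) : ℂ :=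
  ((regC 2 D.w).card : ℂ)⁻¹ * ∑ k ∈ regC 2 D.w, φ ((t : Cz z) * k)

theorem supp_fT (hD : D.Spec Ω) (r : ↥(D.core.T true) ≃* ↥(D.core.T true)) (τ : ↥(D.core.T true) →* ℂˣ) :
    D.Supp (fT Ω r τ) := by
  intro x hx
  exact if_neg fun ⟨i, hi⟩ => hx i hi

variable (hD : D.Spec Ω) {r : ↥(D.core.T true) ≃* ↥(D.core.T true)} {g : G} (hr : D.Auto r g)
include hD

theorem gT_class (τ : ↥(D.core.T true) →* ℂˣ) : IsClassFunction (Cz z) (gT Ω r τ) := fun x y => by
  simp only [gT, Pi.sub_apply, Pi.add_apply, Pi.smul_apply, R_isClassFunction hD.core true _ x y]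

theorem onD_conj (x y : Cz z) : OnD D (y * x * y⁻¹) ↔ OnD D x := by
  refine exists_congr fun i => ?_
  rw [conj_pow, mul_inv_eq_iff_eq_mul, ← zc_comm hD y, mul_right_inj]

open Classical in
theorem fT_class (τ : ↥(D.core.T true) →* ℂˣ) : IsClassFunction (Cz z) (fT Ω r τ) := fun x y => by
  simp only [fT, gT_class hD τ x y]
  exact if_congr (onD_conj hD x y) rfl rfl

theorem gT_ttype (τ : ↥(D.core.T true) →* ℂˣ) (t : ↥(D.core.T true)) (hz : (t : Cz z) ∉ D.core.Z) {v : Cz z}
    (hv : v ∈ regC 2 (t : Cz z)) : gT Ω r τ ((t : Cz z) * v) = Gs hD r τ t := by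
  have e : ∀ ρ : ↥(D.core.T true) →* ℂˣ, D.core.R Ω true ρ ((t : Cz z) * v) = (ρ t : ℂ) + (cnC hD ρ t : ℂ) := by
    intro ρ
    rw [R_mul_self hD.core ρ t.2 hz hv, tv_mem ρ t.2, ← tv_conjChar hD.core ρ t.2, tv_mem _ t.2]
    rfl
  simp only [gT, Pi.sub_apply, Pi.add_apply, Pi.smul_apply, e, Gs, cn_one hD, MonoidHom.one_apply,
    Units.val_one, smul_eq_mul]
  ring

theorem Gs_one (τ : ↥(D.core.T true) →* ℂˣ) : Gs hD r τ 1 = 0 := by
  simp only [Gs, map_one, Units.val_one]
  norm_num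

theorem onD_mul {t v : Cz z} (ht : t ∈ D.core.T true) (hv : v ∈ regC 2 t) : OnD D (t * v) ↔ OnD D t := by
  obtain ⟨hc, hv'⟩ := mem_regC.1 hv
  constructor
  · rintro ⟨i, hi⟩
    refine ⟨i, ?_⟩
    rw [hc.symm.mul_pow] at hi
    have hvi : v ^ i = (t ^ i)⁻¹ * D.zc := by rw [← hi, inv_mul_cancel_left]
    have hzU : (t ^ i)⁻¹ * D.zc ∈ D.core.T true := mul_mem (inv_mem (pow_mem ht i)) (hD.core.zle true hD.zcZ)
    obtain ⟨k, hk⟩ := two_of_mem hD.core hzU
    have h1 : v ^ i = 1 := odd_pow_two (k := k) (by rw [hvi]; exact hk)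
      (fun h => hv' (h.trans (orderOf_pow_dvd i)))
    rwa [h1, mul_one] at hi
  · rintro ⟨i, hi⟩
    exact inD_of_conj hD hi (by rw [p2_mul (two_of_mem hD.core ht) hc hv'])

open Classical in
/-- The difference between the sum and its truncation. -/
theorem inner_diff {φ : Cz z → ℂ} (hφ : IsClassFunction (Cz z) φ) (τ : ↥(D.core.T true) →* ℂˣ) :
    classInner φ (gT Ω r τ) - classInner φ (fT Ω r τ) =
      (2 * (Nat.card (D.core.T true) : ℂ))⁻¹ * ∑ t : ↥(D.core.T true),
        if OnD D (t : Cz z) then 0 else Av φ (t : Cz z) * conj (Gs hD r τ t) := by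
  set F : Cz z → ℂ := fun x => φ x * conj (gT Ω r τ x - fT Ω r τ x) with hFdef
  have hF : IsClassFunction (Cz z) F := fun x y => by
    simp only [hFdef, hφ x y, gT_class hD τ x y, fT_class hD τ x y]
  have e0 : classInner φ (gT Ω r τ) - classInner φ (fT Ω r τ) = (Nat.card (Cz z) : ℂ)⁻¹ * ∑ x, F x := by
    rw [classInner, classInner, ← mul_sub, ← Finset.sum_sub_distrib]
    congr 1
    exact Finset.sum_congr rfl fun x _ => by simp only [hFdef, map_sub]; ring
  have hoff : ∀ x, OnD D x → F x = 0 := fun x hx => by simp [hFdef, fT, hx]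
  have hsec : ∀ u ∈ Finset.univ.filter (fun u => u ∈ D.core.Z), ∑ x ∈ secZ D.core u, F x = 0 := by
    intro u hu
    have hu' : u ∈ D.core.Z := by simpa using hu
    refine Finset.sum_eq_zero fun x hx => ?_
    by_cases hd : OnD D x
    · exact hoff x hd
    · have hu1 : u = 1 := by
        by_contra hne
        exact hd (inD_of_central hD hu' hne (mem_secZ.1 hx))
      subst hu1
      have hp : p2 x ∈ D.core.O := by simpa using mem_secZ.1 hx
      simp only [hFdef, fT, if_neg hd, sub_zero, gT, Pi.sub_apply, Pi.add_apply, Pi.smul_apply, R_reg hD true _ hp,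
        smul_eq_mul]
      ring_nf
      simp
  have hfalse : ∀ t ∈ outT D.core false, Av F t = 0 := fun t ht => Av_const _ t fun v hv => by
    obtain ⟨ht', hz⟩ := mem_outT.1 ht
    refine hoff _ (inD_of_false hD (ttype_mul hD.core ht' hz hv).1)
  have htrue : ∀ t ∈ outT D.core true, ∀ h : t ∈ D.core.T true,
      Av F t = if OnD D t then 0 else Av φ t * conj (Gs hD r τ ⟨t, h⟩) := by
    intro t ht h
    obtain ⟨-, hz⟩ := mem_outT.1 ht
    split_ifs with hd
    · exact Av_const _ t fun v hv => hoff _ ((onD_mul hD h hv).2 hd)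
    · have e : ∀ v ∈ regC 2 t, F (t * v) = φ (t * v) * conj (Gs hD r τ ⟨t, h⟩) := fun v hv => by
        have h1 : gT Ω r τ (t * v) = Gs hD r τ ⟨t, h⟩ := gT_ttype hD τ ⟨t, h⟩ hz hv
        simp only [hFdef, fT, if_neg (fun hh => hd ((onD_mul hD h hv).1 hh)), sub_zero, h1]
      rw [Av, Finset.sum_congr rfl e, ← Finset.sum_mul, ← mul_assoc]
      rfl
  rw [e0, sum_decomp hD.core hF, Finset.sum_eq_zero hsec, zero_add, Fintype.sum_bool,
    Finset.sum_eq_zero (s := outT D.core false) hfalse, mul_zero, add_zero]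
  have esum : ∑ t ∈ outT D.core true, Av F t =
      ∑ t : ↥(D.core.T true), if OnD D (t : Cz z) then 0 else Av φ (t : Cz z) * conj (Gs hD r τ t) := by
    rw [← Finset.sum_filter_add_sum_filter_not Finset.univ (fun t : ↥(D.core.T true) => (t : Cz z) ∈ D.core.Z)]
    rw [Finset.sum_eq_zero (s := Finset.univ.filter fun t : ↥(D.core.T true) => (t : Cz z) ∈ D.core.Z), zero_add]
    · refine Finset.sum_bij (fun t ht => ⟨t, (mem_outT.1 ht).1⟩) (fun t ht => ?_)
        (fun a _ b _ e => congrArg Subtype.val e) (fun t ht => ?_) (fun t ht => htrue t ht _)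
      · simpa using (mem_outT.1 ht).2
      · exact ⟨t, mem_outT.2 ⟨t.2, by simpa using ht⟩, rfl⟩
    · intro t ht
      have hz : (t : Cz z) ∈ D.core.Z := by simpa using ht
      by_cases h1 : (t : Cz z) = 1
      · rw [show t = 1 from Subtype.ext h1, Gs_one hD]; simp
      · have hd : OnD D (t : Cz z) := by
          obtain ⟨a, ha⟩ := two_of_mem hD.core t.2
          refine inD_of_central hD hz h1 ?_
          have := p2_mul ⟨a, ha⟩ (Commute.one_left (t : Cz z)) (by simp)
          rw [mul_one] at this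
          rw [this, mul_inv_cancel]; exact one_mem _
        rw [if_pos hd]
  rw [esum]
  have hC : (Nat.card (Cz z) : ℂ) ≠ 0 := Nat.cast_ne_zero.2 Nat.card_pos.ne'
  field_simp

include hr

theorem Gs_cr (τ : ↥(D.core.T true) →* ℂˣ) (t : ↥(D.core.T true)) : Gs hD r τ (r t) = Gs hD r τ t := by
  have e : ∀ X : ↥(D.core.T true) →* ℂˣ, X (r t) = crC r X t := fun _ => rfl
  simp only [Gs, e, cr_cn hD hr, cr_cube hr]
  ring

open Classical in
/-- Sums of invariant functions against the values. -/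
theorem sum_Gs (τ : ↥(D.core.T true) →* ℂˣ) {F : ↥(D.core.T true) → ℂ} (h1 : ∀ t, F (r t) = F t)
    (h2 : ∀ t : ↥(D.core.T true), F ⟨D.core.n true * t * (D.core.n true)⁻¹, hD.core.nnorm true t t.2⟩ = F t) :
    ∑ t : ↥(D.core.T true), F t * conj (Gs hD r τ t) =
      6 * ∑ t : ↥(D.core.T true), F t * (conj ((τ t : ℂˣ) : ℂ) - 1) := by
  have a : ∀ X : ↥(D.core.T true) →* ℂˣ,
      ∑ t : ↥(D.core.T true), F t * conj ((crC r X t : ℂˣ) : ℂ) = ∑ t : ↥(D.core.T true), F t * conj ((X t : ℂˣ) : ℂ) := fun X =>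
    Fintype.sum_equiv r.toEquiv _ _ fun t => by
      show F t * conj ((X (r t) : ℂˣ) : ℂ) = F (r t) * conj ((X (r t) : ℂˣ) : ℂ)
      rw [h1]
  have b : ∀ X : ↥(D.core.T true) →* ℂˣ,
      ∑ t : ↥(D.core.T true), F t * conj ((cnC hD X t : ℂˣ) : ℂ) = ∑ t : ↥(D.core.T true), F t * conj ((X t : ℂˣ) : ℂ) := fun X => by
    have hcc : ∀ t : Cz z, t ∈ D.core.T true →
        D.core.n true * (D.core.n true * t * (D.core.n true)⁻¹) * (D.core.n true)⁻¹ = t := fun t ht => by
      rw [show D.core.n true * (D.core.n true * t * (D.core.n true)⁻¹) * (D.core.n true)⁻¹ =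
        D.core.n true * D.core.n true * t * (D.core.n true * D.core.n true)⁻¹ by group,
        hD.core.tcomm true _ (hD.core.nsq true) t ht, mul_inv_cancel_right]
    refine Finset.sum_nbij' (fun t => ⟨D.core.n true * t * (D.core.n true)⁻¹, hD.core.nnorm true t t.2⟩)
      (fun t => ⟨D.core.n true * t * (D.core.n true)⁻¹, hD.core.nnorm true t t.2⟩) (by simp) (by simp)
      (fun t _ => Subtype.ext (hcc t t.2)) (fun t _ => Subtype.ext (hcc t t.2)) (fun t _ => ?_)
    rw [h2]
    rfl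
  simp only [Gs, map_sub, map_add, map_ofNat, mul_sub, mul_add, Finset.sum_sub_distrib, Finset.sum_add_distrib,
    a, b, mul_one, ← Finset.sum_mul]
  ring

open Classical in
/-- Two thirds of an invariant sum lie off the involution. -/
theorem sum_offD {E : ↥(D.core.T true) → ℂ} (h1 : ∀ t, E (r t) = E t) (h0 : E 1 = 0) :
    ∑ t : ↥(D.core.T true), (if OnD D (t : Cz z) then 0 else E t) = 2 / 3 * ∑ t : ↥(D.core.T true), E t := by
  obtain ⟨n1, n2, n3, n4, n5⟩ := w_ne hD
  obtain ⟨z1, z2⟩ := zc_ne hD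
  have hwU : D.w ∈ D.core.T true := hD.wT
  have hzwU : D.zc * D.w ∈ D.core.T true := mul_mem (zcU hD) hwU
  have key : ∀ t : ↥(D.core.T true), t ≠ 1 →
      (if OnD D (t : Cz z) then (1 : ℂ) else 0) + (if OnD D (r t : Cz z) then 1 else 0) +
        (if OnD D (r (r t) : Cz z) then 1 else 0) = 1 := by
    intro t ht
    obtain ⟨i, hi⟩ := exists_invol hD t.2 (fun e => ht (Subtype.ext e))
    have hp : ∀ (s : ↥(D.core.T true)) (a : Cz z) (h : a ∈ D.core.T true), (s : Cz z) ^ i = a →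
        ((r s : Cz z)) ^ i = (r ⟨a, h⟩ : Cz z) := by
      intro s a h e
      rw [← Subgroup.coe_pow, ← map_pow, show s ^ i = ⟨a, h⟩ from Subtype.ext (by rw [Subgroup.coe_pow, e])]
    have no : ∀ (x a : Cz z), x ^ i = a → a * a = 1 → a ≠ 1 → a ≠ D.zc → ¬ OnD D x :=
      fun x a e ha ha1 hne ⟨j, hj⟩ => hne (invol_pow_unique hD e hj ha z2 ha1 z1)
    rcases hi with k | k | k
    · have k1 : (r t : Cz z) ^ i = D.w := (hp t _ (zcU hD) k).trans (hr.onZ _)
      have k2 : (r (r t) : Cz z) ^ i = D.zc * D.w := (hp (r t) _ hwU k1).trans (hr.onW _)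
      rw [if_pos ⟨i, k⟩, if_neg (no _ _ k1 hD.wsq n1 n2), if_neg (no _ _ k2 (zw_sq hD) n3 n4)]
      norm_num
    · have k1 : (r t : Cz z) ^ i = D.zc * D.w := (hp t _ hwU k).trans (hr.onW _)
      have k2 : (r (r t) : Cz z) ^ i = D.zc := (hp (r t) _ hzwU k1).trans (hr.onZW _)
      rw [if_neg (no _ _ k hD.wsq n1 n2), if_neg (no _ _ k1 (zw_sq hD) n3 n4), if_pos ⟨i, k2⟩]
      norm_num
    · have k1 : (r t : Cz z) ^ i = D.zc := (hp t _ hzwU k).trans (hr.onZW _)
      have k2 : (r (r t) : Cz z) ^ i = D.w := (hp (r t) _ (zcU hD) k1).trans (hr.onZ _)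
      rw [if_neg (no _ _ k (zw_sq hD) n3 n4), if_pos ⟨i, k1⟩, if_neg (no _ _ k2 hD.wsq n1 n2)]
      norm_num
  set P : ↥(D.core.T true) → ℂ := fun t => if OnD D (t : Cz z) then 1 else 0
  have hsum : ∑ t : ↥(D.core.T true), P t * E t + ∑ t : ↥(D.core.T true), P (r t) * E t + ∑ t : ↥(D.core.T true), P (r (r t)) * E t = ∑ t : ↥(D.core.T true), E t := by
    rw [← Finset.sum_add_distrib, ← Finset.sum_add_distrib]
    refine Finset.sum_congr rfl fun t _ => ?_
    by_cases ht : t = 1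
    · rw [ht, h0]; ring
    · linear_combination E t * key t ht
  have hs1 : ∑ t, P (r t) * E t = ∑ t, P t * E t := Fintype.sum_equiv r.toEquiv _ _ fun t => by
    show P (r t) * E t = P (r t) * E (r t)
    rw [h1]
  have hs2 : ∑ t, P (r (r t)) * E t = ∑ t, P t * E t :=
    Fintype.sum_equiv (r.toEquiv.trans r.toEquiv) _ _ fun t => by
      show P (r (r t)) * E t = P (r (r t)) * E (r (r t))
      rw [h1, h1]
  rw [hs1, hs2] at hsum
  have hoff : ∑ t : ↥(D.core.T true), (if OnD D (t : Cz z) then 0 else E t) = ∑ t : ↥(D.core.T true), E t - ∑ t : ↥(D.core.T true), P t * E t := by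
    rw [← Finset.sum_sub_distrib]
    refine Finset.sum_congr rfl fun t _ => ?_
    simp only [P]
    split_ifs <;> ring
  rw [hoff]
  linear_combination (-1 / 3 : ℂ) * hsum

end CfsgLib.BrauerOrder
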