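import Cfsg.Agent.Lib.BrauerOrder.Automizer
import Cfsg.Agent.Lib.CharTheory.CyclicTI2

/-!
# The action of the automiser on the linear characters of the torus

`cr` is composition with the automorphism of order three, `cn` composition with `n true`; `nW τ' τ` counts
the six images of `τ'` equal to `τ`. The characters of order two form the orbit of `τ0`.
-/

set_option autoImplicit false
set_option linter.unusedSectionVars false
set_option linter.style.haveILetI false

namespace CfsgLib.BrauerOrder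

open Cfsg CfsgLib.CharTheory

universe u v

variable {G : Type u} [Group G] [Fintype G] {z : G} [Fintype (Cz z)] {Ω : Type v} [MulAction (Cz z) Ω]
  {D : Sys G z}

/-- Composition with an automorphism. -/
noncomputable def crC (r : ↥(D.core.T true) ≃* ↥(D.core.T true)) (τ : ↥(D.core.T true) →* ℂˣ) :
    ↥(D.core.T true) →* ℂˣ := τ.comp r.toMonoidHom

/-- Composition with `n true`. -/
noncomputable def cnC (hD : D.Spec Ω) (τ : ↥(D.core.T true) →* ℂˣ) : ↥(D.core.T true) →* ℂˣ :=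
  D.core.conjChar (hD.core.nnorm true) τ

open Classical in
/-- The number of images of `τ'` equal to `τ`. -/
noncomputable def nW (hD : D.Spec Ω) (r : ↥(D.core.T true) ≃* ↥(D.core.T true))
    (τ' τ : ↥(D.core.T true) →* ℂˣ) : ℕ :=
  (if τ' = τ then 1 else 0) + (if crC r τ' = τ then 1 else 0) + (if crC r (crC r τ') = τ then 1 else 0) +
  (if cnC hD τ' = τ then 1 else 0) + (if cnC hD (crC r τ') = τ then 1 else 0) +
  (if cnC hD (crC r (crC r τ')) = τ then 1 else 0)

/-- A character of order two. -/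
def IsO (τ : ↥(D.core.T true) →* ℂˣ) : Prop := τ ≠ 1 ∧ ∀ t, τ t * τ t = 1

variable (hD : D.Spec Ω) {r : ↥(D.core.T true) ≃* ↥(D.core.T true)} {g : G} (hr : D.Auto r g)
include hr

theorem cr_cube (τ : ↥(D.core.T true) →* ℂˣ) : crC r (crC r (crC r τ)) = τ :=
  MonoidHom.ext fun t => congrArg τ (hr.cube t)

theorem cr_inj {τ τ' : ↥(D.core.T true) →* ℂˣ} (h : crC r τ = crC r τ') : τ = τ' := by
  rw [← cr_cube hr τ, h, cr_cube hr]

theorem cr_one : crC r (1 : ↥(D.core.T true) →* ℂˣ) = 1 := MonoidHom.ext fun _ => rfl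

theorem cr_ne_one {τ : ↥(D.core.T true) →* ℂˣ} (h : τ ≠ 1) : crC r τ ≠ 1 :=
  fun e => h (cr_inj hr (e.trans (cr_one hr).symm))

include hD

theorem cr_fixed {τ : ↥(D.core.T true) →* ℂˣ} (h : crC r τ = τ) : τ = 1 := by
  have hinj : Function.Injective (fun t : ↥(D.core.T true) => r t * t⁻¹) := by
    intro a b e
    have e' : r a * a⁻¹ = r b * b⁻¹ := e
    refine inv_mul_eq_one.1 (hr.free (a⁻¹ * b) ?_)
    calc r (a⁻¹ * b) = (r a)⁻¹ * (r b * b⁻¹) * b := by rw [map_mul, map_inv]; group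
      _ = (r a)⁻¹ * (r a * a⁻¹) * b := by rw [e']
      _ = a⁻¹ * b := by group
  refine MonoidHom.ext fun s => ?_
  obtain ⟨t, rfl⟩ := (Finite.injective_iff_surjective.1 hinj) s
  show τ (r t * t⁻¹) = 1
  rw [map_mul, map_inv, mul_inv_eq_one]
  exact DFunLike.congr_fun h t

omit hr in
theorem cn_cn (τ : ↥(D.core.T true) →* ℂˣ) : cnC hD (cnC hD τ) = τ := conjChar_conjChar hD true τ

omit hr in
theorem cn_one : cnC hD (1 : ↥(D.core.T true) →* ℂˣ) = 1 := conjChar_one hD true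

omit hr in
theorem cn_ne_one {τ : ↥(D.core.T true) →* ℂˣ} (h : τ ≠ 1) : cnC hD τ ≠ 1 :=
  fun e => h (by rw [← cn_cn hD τ, e, cn_one hD])

theorem cr_cn (τ : ↥(D.core.T true) →* ℂˣ) : crC r (cnC hD τ) = cnC hD (crC r (crC r τ)) := by
  refine MonoidHom.ext fun t => congrArg τ (Subtype.ext ?_)
  show D.core.n true * (r t : Cz z) * (D.core.n true)⁻¹ = (r (r _) : Cz z)
  have h := hr.inv t (hD.core.nnorm true _ (r t).2)
  have h3 : r (r (r ⟨D.core.n true * (r t : Cz z) * (D.core.n true)⁻¹, hD.core.nnorm true _ (r t).2⟩)) = _ :=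
    hr.cube _
  rw [show r ⟨D.core.n true * (r t : Cz z) * (D.core.n true)⁻¹, hD.core.nnorm true _ (r t).2⟩ =
    ⟨D.core.n true * t * (D.core.n true)⁻¹, hD.core.nnorm true _ t.2⟩ from Subtype.ext h] at h3
  exact (congrArg Subtype.val h3).symm

theorem crcr_cn (τ : ↥(D.core.T true) →* ℂˣ) : crC r (crC r (cnC hD τ)) = cnC hD (crC r τ) := by
  rw [cr_cn hD hr, cr_cn hD hr, cr_cube hr]

theorem nW_cr (τ' τ : ↥(D.core.T true) →* ℂˣ) : nW hD r τ' (crC r τ) = nW hD r τ' τ := by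
  classical
  have e : ∀ X Y : ↥(D.core.T true) →* ℂˣ, crC r (crC r X) = Y → (X = crC r τ ↔ Y = τ) := by
    rintro X Y rfl
    exact ⟨fun h => by rw [h, cr_cube hr], fun h => by rw [← h, cr_cube hr]⟩
  unfold nW
  simp only [e τ' _ rfl, e (crC r τ') τ' (cr_cube hr τ'),
    e (crC r (crC r τ')) (crC r τ') (by rw [cr_cube hr]),
    e (cnC hD τ') (cnC hD (crC r τ')) (crcr_cn hD hr τ'),
    e (cnC hD (crC r τ')) (cnC hD (crC r (crC r τ'))) (crcr_cn hD hr _),
    e (cnC hD (crC r (crC r τ'))) (cnC hD τ') (by rw [crcr_cn hD hr, cr_cube hr])]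
  ring

theorem nW_one {τ : ↥(D.core.T true) →* ℂˣ} (h : τ ≠ 1) : nW hD r τ 1 = 0 := by
  classical
  have h1 := cr_ne_one hr h
  have h2 := cr_ne_one hr h1
  unfold nW
  rw [if_neg h, if_neg h1, if_neg h2, if_neg (cn_ne_one hD h), if_neg (cn_ne_one hD h1),
    if_neg (cn_ne_one hD h2)]

theorem cr_distinct {τ : ↥(D.core.T true) →* ℂˣ} (h : τ ≠ 1) :
    crC r τ ≠ τ ∧ crC r (crC r τ) ≠ τ ∧ crC r (crC r τ) ≠ crC r τ := by
  refine ⟨fun e => h (cr_fixed hD hr e), fun e => h (cr_fixed hD hr ?_), fun e => h (cr_fixed hD hr ?_)⟩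
  · have e' := congrArg (crC r) e
    rwa [cr_cube hr, eq_comm] at e'
  · exact cr_inj hr e

theorem nW_self {τ : ↥(D.core.T true) →* ℂˣ} (h : τ ≠ 1) : nW hD r τ τ = 1 ∨ nW hD r τ τ = 2 := by
  classical
  obtain ⟨a, b, c⟩ := cr_distinct hD hr h
  have inj : ∀ {X Y : ↥(D.core.T true) →* ℂˣ}, cnC hD X = cnC hD Y → X = Y := fun {X Y} e => by
    rw [← cn_cn hD X, e, cn_cn hD]
  unfold nW
  rw [if_pos rfl, if_neg a, if_neg b]
  by_cases k0 : cnC hD τ = τ
  · rw [if_pos k0, if_neg (fun e => a (inj (e.trans k0.symm))), if_neg (fun e => b (inj (e.trans k0.symm)))]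
    exact Or.inr rfl
  · rw [if_neg k0]
    by_cases k1 : cnC hD (crC r τ) = τ
    · rw [if_pos k1, if_neg (fun e => c (inj (e.trans k1.symm)))]
      exact Or.inr rfl
    · rw [if_neg k1]
      split_ifs
      · exact Or.inr rfl
      · exact Or.inl rfl

theorem isO_cr {τ : ↥(D.core.T true) →* ℂˣ} (h : IsO τ) : IsO (crC r τ) :=
  ⟨cr_ne_one hr h.1, fun t => h.2 (r t)⟩

omit hr in
theorem isO_cn {τ : ↥(D.core.T true) →* ℂˣ} (h : IsO τ) : IsO (cnC hD τ) :=
  ⟨cn_ne_one hD h.1, fun _ => h.2 _⟩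

omit hr in
theorem tau0_isO : IsO D.τ0 ∧ IsO (cnC hD D.τ0) ∧ IsO (D.lamT true) :=
  ⟨⟨(tau0_ne hD).1, hD.tau0sq⟩, isO_cn hD ⟨(tau0_ne hD).1, hD.tau0sq⟩,
    ⟨lamT_ne_one hD true, fun _ => hD.lamsq _⟩⟩

omit hr in
theorem tau0_distinct : cnC hD D.τ0 ≠ D.τ0 ∧ D.τ0 ≠ D.lamT true ∧ cnC hD D.τ0 ≠ D.lamT true := by
  refine ⟨hD.tau0ne, (tau0_ne hD).2, fun e => (tau0_ne hD).2 ?_⟩
  rw [← cn_cn hD D.τ0, e]
  exact conjChar_lamT hD true

omit hr in
theorem card_hom : Nat.card (↥(D.core.T true) →* ℂˣ) = Nat.card (D.core.T true) := by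
  rw [Partition.natCard_hom, show commutator ↥(D.core.T true) = ⊥ from ?_, Subgroup.index_bot]
  rw [commutator_def, eq_bot_iff, Subgroup.commutator_le]
  intro a _ b _
  rw [Subgroup.mem_bot, commutatorElement_eq_one_iff_mul_comm]
  exact Subtype.ext (hD.core.tcomm true _ a.2 _ b.2)

omit hr in
open Classical in
theorem sum_hom_apply_T [Fintype (↥(D.core.T true) →* ℂˣ)] (x : ↥(D.core.T true)) :
    ∑ τ : ↥(D.core.T true) →* ℂˣ, ((τ x : ℂˣ) : ℂ) = if x = 1 then (Nat.card (D.core.T true) : ℂ) else 0 :=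
  by convert sum_hom_abelian (fun a b => Subtype.ext (hD.core.tcomm true _ a.2 _ b.2)) x using 2

omit hr in
open Classical in
theorem sum_char_T (χ : ↥(D.core.T true) →* ℂˣ) (h : χ ≠ 1) :
    ∑ t : ↥(D.core.T true), ((χ t : ℂˣ) : ℂ) = 0 := by
  obtain ⟨a, ha⟩ : ∃ a, χ a ≠ 1 := by
    by_contra! hall
    exact h (MonoidHom.ext hall)
  have e : ((χ a : ℂˣ) : ℂ) * ∑ t, ((χ t : ℂˣ) : ℂ) = ∑ t, ((χ t : ℂˣ) : ℂ) := by
    rw [Finset.mul_sum]
    exact Fintype.sum_equiv (Equiv.mulLeft a) _ _ fun t => by simp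
  by_contra hne
  exact ha (Units.ext (mul_right_cancel₀ hne (e.trans (one_mul _).symm)))

omit hr in
open Classical in
/-- The characters of order two. -/
theorem isO_iff (τ : ↥(D.core.T true) →* ℂˣ) :
    IsO τ ↔ τ = D.τ0 ∨ τ = cnC hD D.τ0 ∨ τ = D.lamT true := by
  classical
  obtain ⟨o1, o2, o3⟩ := tau0_isO hD
  refine ⟨fun h => ?_, by rintro (rfl | rfl | rfl) <;> assumption⟩
  by_contra! hne
  obtain ⟨n1, n2, n3⟩ := hne
  set a := D.τ0
  set b := cnC hD D.τ0
  have hab : a * b = D.lamT true := MonoidHom.ext fun t => hD.tau0mul t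
  have hinv : ∀ {χ : ↥(D.core.T true) →* ℂˣ}, IsO χ → ∀ {ψ}, τ * χ = 1 → ψ = χ → τ = ψ := by
    intro χ hχ ψ e1 e2
    subst e2
    refine MonoidHom.ext fun t => ?_
    have := DFunLike.congr_fun e1 t
    calc τ t = τ t * (ψ t * ψ t) := by rw [hχ.2, mul_one]
      _ = ψ t := by rw [← mul_assoc, show τ t * ψ t = 1 from this, one_mul]
  have s0 := sum_char_T hD τ h.1
  have s1 := sum_char_T hD (τ * a) (fun e => n1 (hinv o1 e rfl))
  have s2 := sum_char_T hD (τ * b) (fun e => n2 (hinv o2 e rfl))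
  have s3 := sum_char_T hD (τ * D.lamT true) (fun e => n3 (hinv o3 e rfl))
  -- the common kernel of `a` and `b` is the set of squares
  have key : ∀ t, a t = 1 → b t = 1 → τ t = 1 := by
    intro t ha hb
    let P : Finset ↥(D.core.T true) := Finset.univ.filter fun t => a t = 1 ∧ b t = 1
    let Sq : Finset ↥(D.core.T true) := Finset.univ.image fun t => t * t
    have hsub : Sq ⊆ P := by
      intro t ht
      obtain ⟨s, -, rfl⟩ := Finset.mem_image.1 ht
      simp only [P, Finset.mem_filter, Finset.mem_univ, true_and, map_mul]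
      exact ⟨o1.2 s, o2.2 s⟩
    have hpm : ∀ {χ : ↥(D.core.T true) →* ℂˣ}, IsO χ → ∀ t, ((χ t : ℂˣ) : ℂ) = 1 ∨ ((χ t : ℂˣ) : ℂ) = -1 :=
      fun {χ} hχ t => mul_self_eq_one_iff.1 (by rw [← Units.val_mul, hχ.2, Units.val_one])
    have hP : 4 * (P.card : ℂ) = (Nat.card (D.core.T true) : ℂ) := by
      have e : ∀ t, (1 + ((a t : ℂˣ) : ℂ)) * (1 + ((b t : ℂˣ) : ℂ)) = if t ∈ P then 4 else 0 := by
        intro t
        simp only [P, Finset.mem_filter, Finset.mem_univ, true_and]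
        rcases hpm o1 t with e1 | e1 <;> rcases hpm o2 t with e2 | e2 <;> rw [e1, e2]
        · rw [if_pos ⟨Units.ext e1, Units.ext e2⟩]; norm_num
        all_goals rw [if_neg (fun hh => by
          first
            | (rw [hh.2, Units.val_one] at e2; norm_num at e2; done)
            | (rw [hh.1, Units.val_one] at e1; norm_num at e1; done))]; norm_num
      have h1 := Finset.sum_congr rfl fun t (_ : t ∈ Finset.univ) => e t
      rw [Finset.sum_ite_mem, Finset.univ_inter, Finset.sum_const, nsmul_eq_mul] at h1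
      rw [mul_comm, ← h1]
      simp only [add_mul, mul_add, one_mul, mul_one, Finset.sum_add_distrib]
      rw [sum_char_T hD a o1.1, sum_char_T hD b o2.1]
      have e3 : ∑ t, ((a t : ℂˣ) : ℂ) * ((b t : ℂˣ) : ℂ) = 0 := by
        rw [← sum_char_T hD _ o3.1, ← hab]
        exact Finset.sum_congr rfl fun t _ => by simp
      rw [e3, Finset.sum_const, Finset.card_univ, nsmul_eq_mul, Nat.card_eq_fintype_card]
      ring
    have hSq : Fintype.card ↥(D.core.T true) ≤ 4 * Sq.card := by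
      refine Finset.card_le_mul_card_image (Finset.univ : Finset ↥(D.core.T true)) 4 fun s hs => ?_
      obtain ⟨t0, -, rfl⟩ := Finset.mem_image.1 hs
      let F : Finset (Cz z) := {1, D.zc, D.w, D.zc * D.w}
      refine le_trans (Finset.card_le_card_of_injOn (t := F) (fun t => ((t0⁻¹ * t : ↥(D.core.T true)) : Cz z))
        (fun t ht => ?_) fun x _ y _ e' => mul_left_cancel (Subtype.ext e')) ?_
      · simp only [Finset.coe_filter, Set.mem_setOf_eq, Finset.mem_univ, true_and] at ht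
        have hsq : ((t0⁻¹ * t : ↥(D.core.T true)) : Cz z) * (t0⁻¹ * t : ↥(D.core.T true)) = 1 := by
          have hcm : t0⁻¹ * t = t * t0⁻¹ := Subtype.ext (hD.core.tcomm true _ (t0⁻¹).2 _ t.2)
          have : t0⁻¹ * t * (t0⁻¹ * t) = 1 := by
            nth_rewrite 2 [hcm]
            rw [show t0⁻¹ * t * (t * t0⁻¹) = t0⁻¹ * (t * t) * t0⁻¹ by group, ht]; group
          exact congrArg Subtype.val this
        rcases hD.invU _ (t0⁻¹ * t).2 hsq with k | k | k | k <;>
          simp only [Finset.mem_coe, F, Finset.mem_insert, Finset.mem_singleton, k] <;> tauto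
      · exact Finset.card_le_four
    have heq : Sq = P := Finset.eq_of_subset_of_card_le hsub (by
      have h1 : 4 * P.card = Nat.card ↥(D.core.T true) := by exact_mod_cast hP
      rw [Nat.card_eq_fintype_card] at h1
      omega)
    have : t ∈ Sq := heq ▸ (by simp [P, ha, hb])
    obtain ⟨s, -, rfl⟩ := Finset.mem_image.1 this
    rw [map_mul, h.2]
  have hzero : ∑ t, ((τ t : ℂˣ) : ℂ) * ((1 + ((a t : ℂˣ) : ℂ)) * (1 + ((b t : ℂˣ) : ℂ))) = 0 := by
    rw [show D.lamT true = a * b from hab.symm] at s3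
    have e : ∀ t, ((τ t : ℂˣ) : ℂ) * ((1 + ((a t : ℂˣ) : ℂ)) * (1 + ((b t : ℂˣ) : ℂ))) =
        ((τ t : ℂˣ) : ℂ) + (((τ * a) t : ℂˣ) : ℂ) + (((τ * b) t : ℂˣ) : ℂ) +
          (((τ * (a * b)) t : ℂˣ) : ℂ) := fun t => by
      simp only [MonoidHom.mul_apply, Units.val_mul]; ring
    simp only [e, Finset.sum_add_distrib, s0, s1, s2, s3, add_zero]
  have hval : ∀ t, ((τ t : ℂˣ) : ℂ) * ((1 + ((a t : ℂˣ) : ℂ)) * (1 + ((b t : ℂˣ) : ℂ))) =
      (1 + ((a t : ℂˣ) : ℂ)) * (1 + ((b t : ℂˣ) : ℂ)) := by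
    intro t
    by_cases hh : a t = 1 ∧ b t = 1
    · rw [key t hh.1 hh.2, Units.val_one, one_mul]
    · rcases not_and_or.1 hh with hh | hh
      · rw [show ((a t : ℂˣ) : ℂ) = -1 from (mul_self_eq_one_iff.1 (by rw [← Units.val_mul, o1.2, Units.val_one])).resolve_left
          (fun e => hh (Units.ext e))]; ring
      · rw [show ((b t : ℂˣ) : ℂ) = -1 from (mul_self_eq_one_iff.1 (by rw [← Units.val_mul, o2.2, Units.val_one])).resolve_left
          (fun e => hh (Units.ext e))]; ring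
  rw [Finset.sum_congr rfl fun t _ => hval t] at hzero
  simp only [add_mul, mul_add, one_mul, mul_one, Finset.sum_add_distrib] at hzero
  have e3 : ∑ t, ((a t : ℂˣ) : ℂ) * ((b t : ℂˣ) : ℂ) = 0 := by
    rw [← sum_char_T hD _ o3.1, ← hab]
    exact Finset.sum_congr rfl fun t _ => by simp
  rw [sum_char_T hD a o1.1, sum_char_T hD b o2.1, e3, Finset.sum_const, Finset.card_univ] at hzero
  simp [Fintype.card_ne_zero] at hzero

/-- Counts inside the orbit of order two. -/
theorem nW_O {τ : ↥(D.core.T true) →* ℂˣ} (h : IsO τ) :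
    nW hD r τ D.τ0 = 2 ∧ nW hD r τ (D.lamT true) = 2 ∧ nW hD r τ τ = 2 := by
  classical
  obtain ⟨a, b, c⟩ := cr_distinct hD hr h.1
  obtain ⟨d1, d2, d3⟩ := tau0_distinct hD
  have k1 : cnC hD (cnC hD D.τ0) = D.τ0 := cn_cn hD _
  have k2 : cnC hD (D.lamT true) = D.lamT true := conjChar_lamT hD true
  have hlam : D.lamT true ≠ D.τ0 := Ne.symm d2
  rcases (isO_iff hD τ).1 h with e0 | e0 | e0 <;>
  rcases (isO_iff hD _).1 (isO_cr hD hr h) with e1 | e1 | e1 <;>
  rcases (isO_iff hD _).1 (isO_cr hD hr (isO_cr hD hr h)) with e2 | e2 | e2 <;>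
  first
    | exact absurd (e1.trans e0.symm) a
    | exact absurd (e2.trans e0.symm) b
    | exact absurd (e2.trans e1.symm) c
    | (unfold nW; rw [e2, e1, e0]; simp [k1, k2, d1, d1.symm, d2, hlam, d3, d3.symm])

theorem nW_notO {τ : ↥(D.core.T true) →* ℂˣ} (h : ¬ IsO τ) :
    (∀ τ', IsO τ' → nW hD r τ τ' = 0 ∧ nW hD r τ' τ = 0) := by
  classical
  intro τ' hτ'
  have u1 : ¬ IsO (crC r τ) := fun e => h (by simpa [cr_cube hr] using isO_cr hD hr (isO_cr hD hr e))
  have u2 : ¬ IsO (crC r (crC r τ)) := fun e => h (by simpa [cr_cube hr] using isO_cr hD hr e)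
  have hn : ∀ {X : ↥(D.core.T true) →* ℂˣ}, ¬ IsO X → ¬ IsO (cnC hD X) := fun {X} hX e =>
    hX (by simpa [cn_cn hD] using isO_cn hD e)
  have k : ∀ {X : ↥(D.core.T true) →* ℂˣ}, ¬ IsO X → X ≠ τ' := fun hX e => hX (e ▸ hτ')
  have o1 := isO_cr hD hr hτ'
  have o2 := isO_cr hD hr o1
  constructor <;> unfold nW
  · rw [if_neg (k h), if_neg (k u1), if_neg (k u2), if_neg (k (hn h)), if_neg (k (hn u1)), if_neg (k (hn u2))]
  · have m : ∀ {X : ↥(D.core.T true) →* ℂˣ}, IsO X → X ≠ τ := fun hX e => h (e ▸ hX)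
    rw [if_neg (m hτ'), if_neg (m o1), if_neg (m o2), if_neg (m (isO_cn hD hτ')), if_neg (m (isO_cn hD o1)),
      if_neg (m (isO_cn hD o2))]

omit hr in
theorem sq_one_of_card (hc : Nat.card D.core.Z ≤ 2) (t : ↥(D.core.T true)) : (t : Cz z) * t = 1 := by
  classical
  obtain ⟨n1, n2, n3, n4, n5⟩ := w_ne hD
  let F : Finset (Cz z) := {1, D.zc, D.w, D.zc * D.w}
  let U4 : Finset (Cz z) := Finset.univ.filter fun t => t ∈ D.core.T true
  have hsub : F ⊆ U4 := by
    intro x hx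
    simp only [F, Finset.mem_insert, Finset.mem_singleton] at hx
    simp only [U4, Finset.mem_filter, Finset.mem_univ, true_and]
    rcases hx with rfl | rfl | rfl | rfl
    exacts [one_mem _, zcU hD, hD.wT, mul_mem (zcU hD) hD.wT]
  have hF : F.card = 4 := Finset.card_eq_four.2 ⟨1, D.zc, D.w, D.zc * D.w, Ne.symm (zc_ne hD).1, Ne.symm n1,
    Ne.symm n3, Ne.symm n2, Ne.symm n4, Ne.symm n5, rfl⟩
  have hU : U4.card = Nat.card (D.core.T true) := by
    rw [Nat.card_eq_fintype_card]; exact (Fintype.card_subtype _).symm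
  have hle : U4.card ≤ F.card := by
    rw [hF, hU, hD.cardU]
    calc Nat.card D.core.Z ^ 2 ≤ 2 ^ 2 := Nat.pow_le_pow_left hc 2
      _ = 4 := by norm_num
  have ht : (t : Cz z) ∈ F := by
    rw [Finset.eq_of_subset_of_card_le hsub hle]
    simp [U4]
  simp only [F, Finset.mem_insert, Finset.mem_singleton] at ht
  rcases ht with e | e | e | e <;> rw [e]
  exacts [one_mul 1, (zc_ne hD).2, hD.wsq, zw_sq hD]

omit hr in
/-- The value of `τ0` at the involution. -/
theorem delta_cases :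
    (Nat.card D.core.Z = 2 ∧ (D.τ0 ⟨D.zc, zcU hD⟩ : ℂ) = -1 ∧ ∀ τ : ↥(D.core.T true) →* ℂˣ, τ ≠ 1 → IsO τ) ∨
      (4 ≤ Nat.card D.core.Z ∧ (D.τ0 ⟨D.zc, zcU hD⟩ : ℂ) = 1) := by
  obtain ⟨k, hk⟩ := card_T_pow hD.core true
  obtain ⟨j, -, hj⟩ := (Nat.dvd_prime_pow Nat.prime_two).1 (hk ▸ Subgroup.card_dvd_of_le (hD.core.zle true))
  rcases j with _ | _ | j
  · exfalso
    have := (Subgroup.card_eq_one.1 (by simpa using hj)) ▸ hD.zcZ
    exact (zc_ne hD).1 (Subgroup.mem_bot.1 this)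
  · left
    have hsq : ∀ t : ↥(D.core.T true), t * t = 1 := fun t => Subtype.ext (sq_one_of_card hD (by rw [hj]; norm_num) t)
    refine ⟨by simpa using hj, ?_, fun τ hτ => ⟨hτ, fun t => by rw [← map_mul, hsq, map_one]⟩⟩
    refine (mul_self_eq_one_iff.1 (by rw [← Units.val_mul, hD.tau0sq, Units.val_one])).resolve_left fun e => ?_
    refine (tau0_distinct hD).1 (MonoidHom.ext fun t => ?_)
    have e' : D.τ0 ⟨D.zc, zcU hD⟩ = 1 := Units.ext e
    have hnz : D.core.n true * D.zc * (D.core.n true)⁻¹ = D.zc := (hD.core.nfix true _ (zcU hD)).2 hD.zcZ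
    have hmul : D.τ0 ⟨D.zc * D.w, mul_mem (zcU hD) hD.wT⟩ = D.τ0 ⟨D.w, hD.wT⟩ := by
      rw [show (⟨D.zc * D.w, mul_mem (zcU hD) hD.wT⟩ : ↥(D.core.T true)) = ⟨D.zc, zcU hD⟩ * ⟨D.w, hD.wT⟩ from rfl,
        map_mul, e', one_mul]
    show D.τ0 ⟨D.core.n true * t * (D.core.n true)⁻¹, _⟩ = D.τ0 t
    rcases hD.invU _ t.2 (congrArg Subtype.val (hsq t)) with k | k | k | k
    · congr 1; exact Subtype.ext (show D.core.n true * (t : Cz z) * _ = (t : Cz z) by rw [k, mul_one, mul_inv_cancel])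
    · congr 1; exact Subtype.ext (show D.core.n true * (t : Cz z) * _ = (t : Cz z) by rw [k, hnz])
    · rw [show (⟨D.core.n true * t * (D.core.n true)⁻¹, hD.core.nnorm true _ t.2⟩ : ↥(D.core.T true)) =
        ⟨D.zc * D.w, mul_mem (zcU hD) hD.wT⟩ from Subtype.ext (show D.core.n true * (t : Cz z) * _ = _ by rw [k, hD.nw]),
        show t = ⟨D.w, hD.wT⟩ from Subtype.ext k, hmul]
    · rw [show (⟨D.core.n true * t * (D.core.n true)⁻¹, hD.core.nnorm true _ t.2⟩ : ↥(D.core.T true)) =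
        ⟨D.w, hD.wT⟩ from Subtype.ext (show D.core.n true * (t : Cz z) * _ = _ by rw [k, nu_w hD]),
        show t = ⟨D.zc * D.w, mul_mem (zcU hD) hD.wT⟩ from Subtype.ext k, hmul]
  · right
    refine ⟨by rw [hj]; exact le_of_eq_of_le (by norm_num : 4 = 2 ^ 2) (Nat.pow_le_pow_right (by norm_num) (by omega)), ?_⟩
    -- a central element of order at least four
    obtain ⟨u, hu, hu2⟩ : ∃ u ∈ D.core.Z, u * u ≠ 1 := by
      classical
      by_contra! hall
      have hsub : ∀ u : ↥D.core.Z, (u : Cz z) = 1 ∨ (u : Cz z) = D.zc := fun u => hD.zonly _ u.2 (hall _ u.2)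
      have hle : Nat.card ↥D.core.Z ≤ Nat.card Bool :=
        Nat.card_le_card_of_injective (fun u : ↥D.core.Z => decide ((u : Cz z) = 1)) (fun a b e => by
          simp only [decide_eq_decide] at e
          refine Subtype.ext ?_
          rcases hsub a with ha | ha <;> rcases hsub b with hb | hb
          · rw [ha, hb]
          · rw [ha, e.1 ha]
          · rw [hb, e.2 hb]
          · rw [ha, hb])
      rw [hj] at hle
      have : 2 ^ 2 ≤ 2 ^ (j + 1 + 1) := Nat.pow_le_pow_right (by norm_num) (by omega)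
      simp at hle
      omega
    obtain ⟨a, ha⟩ := two_of_mem hD.core (hD.core.zle true hu)
    obtain ⟨a', rfl⟩ : ∃ a', a = a' + 2 := by
      refine ⟨a - 2, ?_⟩
      by_contra hlt
      refine hu2 ?_
      rw [← sq]
      refine orderOf_dvd_iff_pow_eq_one.1 (ha ▸ (Nat.pow_dvd_pow 2 (show a ≤ 1 by omega)).trans (by norm_num))
    set v := u ^ 2 ^ (a' + 1)
    have hv : v = D.zc := (hD.zonly _ (pow_mem hu _) (by
      rw [← pow_add, ← two_mul, ← pow_succ', ← ha, pow_orderOf_eq_one])).resolve_left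
      (pow_ne_one_of_lt_orderOf (by positivity) (by rw [ha]; exact Nat.pow_lt_pow_right (by norm_num) (by omega)))
    have hs : (⟨D.zc, zcU hD⟩ : ↥(D.core.T true)) =
        ⟨u, hD.core.zle true hu⟩ ^ 2 ^ a' * ⟨u, hD.core.zle true hu⟩ ^ 2 ^ a' := by
      refine Subtype.ext ?_
      show D.zc = u ^ 2 ^ a' * u ^ 2 ^ a'
      rw [← hv, ← pow_add, ← two_mul, ← pow_succ']
    rw [hs, map_mul, hD.tau0sq, Units.val_one]

omit hr in
open Classical in
theorem card_cn_fixed [Fintype (↥(D.core.T true) →* ℂˣ)] :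
    (Finset.univ.filter fun τ : ↥(D.core.T true) →* ℂˣ => cnC hD τ = τ).card = Nat.card D.core.Z := by
  have hU : (Nat.card (D.core.T true) : ℂ) ≠ 0 := Nat.cast_ne_zero.2 Nat.card_pos.ne'
  have e : ∀ τ : ↥(D.core.T true) →* ℂˣ, (if cnC hD τ = τ then (1 : ℂ) else 0) =
      (Nat.card (D.core.T true) : ℂ)⁻¹ * ∑ t : ↥(D.core.T true),
        ((τ (⟨D.core.n true * t * (D.core.n true)⁻¹, hD.core.nnorm true t t.2⟩ * t⁻¹) : ℂˣ) : ℂ) := by
    intro τ
    have h2 : ∀ t : ↥(D.core.T true), ((τ (⟨D.core.n true * t * (D.core.n true)⁻¹, hD.core.nnorm true t t.2⟩ * t⁻¹) : ℂˣ) : ℂ) =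
        (((cnC hD τ * τ⁻¹) t : ℂˣ) : ℂ) := fun t => by
      rw [map_mul, map_inv]; rfl
    simp only [h2]
    split_ifs with h
    · rw [h]
      simp [hU, Nat.card_eq_fintype_card]
    · rw [sum_char_T hD _ (fun e => h ?_), mul_zero]
      refine MonoidHom.ext fun t => ?_
      have := DFunLike.congr_fun e t
      simpa [mul_inv_eq_one] using this
  have h1 : ((Finset.univ.filter fun τ : ↥(D.core.T true) →* ℂˣ => cnC hD τ = τ).card : ℂ) =
      (Nat.card D.core.Z : ℂ) := by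
    rw [← Finset.sum_boole, Finset.sum_congr rfl fun τ _ => e τ, ← Finset.mul_sum, Finset.sum_comm]
    simp only [sum_hom_apply_T hD]
    rw [Finset.sum_ite, Finset.sum_const_zero, add_zero, Finset.sum_const, nsmul_eq_mul, mul_comm,
      mul_assoc, mul_inv_cancel₀ hU, mul_one, Nat.cast_inj, ← Fintype.card_subtype, ← Nat.card_eq_fintype_card]
    refine Nat.card_congr ((Equiv.subtypeEquivRight fun t => ?_).trans
      (Subgroup.subgroupOfEquivOfLe (hD.core.zle true)).toEquiv)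
    rw [mul_inv_eq_one, Subtype.ext_iff]
    exact hD.core.nfix true _ t.2
  exact_mod_cast h1

theorem exists_generic (h4 : 4 ≤ Nat.card D.core.Z) :
    ∃ τ : ↥(D.core.T true) →* ℂˣ, τ ≠ 1 ∧ nW hD r τ τ = 1 ∧ ¬ IsO τ := by
  classical
  letI := Fintype.ofFinite (↥(D.core.T true) →* ℂˣ)
  set F := Finset.univ.filter fun τ : ↥(D.core.T true) →* ℂˣ => cnC hD τ = τ
  set F' := F ∪ F.image (crC r) ∪ F.image (fun τ => crC r (crC r τ))
  have hF' : F'.card < Fintype.card (↥(D.core.T true) →* ℂˣ) := by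
    have h1 : F'.card ≤ F.card + F.card + F.card :=
      (Finset.card_union_le _ _).trans (add_le_add ((Finset.card_union_le _ _).trans
        (add_le_add le_rfl Finset.card_image_le)) Finset.card_image_le)
    rw [← Nat.card_eq_fintype_card, card_hom hD, hD.cardU]
    have h2 : F.card = Nat.card D.core.Z := card_cn_fixed hD
    nlinarith
  obtain ⟨τ, hτ⟩ : ∃ τ, τ ∉ F' := by
    by_contra! hall
    exact absurd hF' (not_lt.2 (le_of_eq (by rw [Finset.eq_univ_of_forall hall, Finset.card_univ])))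
  simp only [F', F, Finset.mem_union, Finset.mem_image, Finset.mem_filter, Finset.mem_univ, true_and,
    not_or, not_exists, not_and] at hτ
  obtain ⟨⟨t0, t1⟩, t2⟩ := hτ
  have h1 : τ ≠ 1 := fun e => t0 (by rw [e, cn_one hD])
  have hw : nW hD r τ τ = 1 := by
    obtain ⟨a, b, -⟩ := cr_distinct hD hr h1
    unfold nW
    rw [if_pos rfl, if_neg a, if_neg b, if_neg t0, if_neg, if_neg]
    · intro e
      have e' : cnC hD τ = crC r (crC r τ) := by conv_lhs => rw [← e, cn_cn hD]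
      refine t2 (crC r τ) ?_ (cr_cube hr τ)
      rw [← crcr_cn hD hr, e', cr_cube hr]
    · intro e
      have e' : cnC hD τ = crC r τ := by conv_lhs => rw [← e, cn_cn hD]
      refine t1 (crC r (crC r τ)) ?_ (cr_cube hr τ)
      rw [← cr_cn hD hr, e']
  refine ⟨τ, h1, hw, fun hO => ?_⟩
  have := (nW_O hD hr hO).2.2
  omega

theorem exists_third (h4 : 4 ≤ Nat.card D.core.Z) (τ τ' : ↥(D.core.T true) →* ℂˣ) (h2 : nW hD r τ' τ' = 2) :
    ∃ τ'' : ↥(D.core.T true) →* ℂˣ, τ'' ≠ 1 ∧ ¬ IsO τ'' ∧ nW hD r τ τ'' = 0 ∧ nW hD r τ' τ'' = 0 := by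
  classical
  letI := Fintype.ofFinite (↥(D.core.T true) →* ℂˣ)
  set six : (↥(D.core.T true) →* ℂˣ) → Finset (↥(D.core.T true) →* ℂˣ) := fun τ =>
    {τ, crC r τ, crC r (crC r τ), cnC hD τ, cnC hD (crC r τ), cnC hD (crC r (crC r τ))} with hsix
  have hsixcard : ∀ X, (six X).card ≤ 6 := fun X => Finset.card_le_six
  have hno : ∀ X Y, Y ∉ six X → nW hD r X Y = 0 := by
    intro X Y h
    simp only [hsix, Finset.mem_insert, Finset.mem_singleton, not_or] at h
    obtain ⟨a, b, c, d, e, f⟩ := h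
    unfold nW
    rw [if_neg (Ne.symm a), if_neg (Ne.symm b), if_neg (Ne.symm c), if_neg (Ne.symm d), if_neg (Ne.symm e),
      if_neg (Ne.symm f)]
  have hsmall : (six τ').card ≤ 3 := by
    have hsub : six τ' ⊆ {τ', crC r τ', crC r (crC r τ')} := by
      by_cases h1 : τ' = 1
      · subst h1; intro X hX; simp [hsix, cr_one hr, cn_one hD] at hX; simp [hX]
      have hstab : cnC hD τ' = τ' ∨ cnC hD τ' = crC r τ' ∨ cnC hD τ' = crC r (crC r τ') := by
        by_contra! hne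
        obtain ⟨a, b, c⟩ := hne
        obtain ⟨p, q, -⟩ := cr_distinct hD hr h1
        unfold nW at h2
        rw [if_pos rfl, if_neg p, if_neg q, if_neg a, if_neg (fun e => b ?_), if_neg (fun e => c ?_)] at h2
        · omega
        · conv_lhs => rw [← e, cn_cn hD]
        · conv_lhs => rw [← e, cn_cn hD]
      have e1 : cnC hD (crC r τ') = crC r (crC r (cnC hD τ')) := (crcr_cn hD hr τ').symm
      have e2 : cnC hD (crC r (crC r τ')) = crC r (cnC hD τ') := (cr_cn hD hr τ').symm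
      intro X hX
      simp only [hsix, Finset.mem_insert, Finset.mem_singleton, e1, e2] at hX ⊢
      rcases hstab with k | k | k <;> rw [k] at hX <;> rcases hX with e | e | e | e | e | e <;>
        simp [e, cr_cube hr]
    exact (Finset.card_le_card hsub).trans Finset.card_le_three
  set bad : Finset (↥(D.core.T true) →* ℂˣ) :=
    {1, D.τ0, cnC hD D.τ0, D.lamT true} ∪ six τ ∪ six τ'
  have hb : bad.card < Fintype.card (↥(D.core.T true) →* ℂˣ) := by
    have h1 : bad.card ≤ 4 + 6 + 3 :=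
      (Finset.card_union_le _ _).trans (add_le_add ((Finset.card_union_le _ _).trans
        (add_le_add Finset.card_le_four (hsixcard τ))) hsmall)
    rw [← Nat.card_eq_fintype_card, card_hom hD, hD.cardU]
    nlinarith
  obtain ⟨X, hX⟩ : ∃ X, X ∉ bad := by
    by_contra! hall
    exact absurd hb (not_lt.2 (le_of_eq (by rw [Finset.eq_univ_of_forall hall, Finset.card_univ])))
  simp only [bad, Finset.mem_union, not_or] at hX
  obtain ⟨⟨hX0, hX1⟩, hX2⟩ := hX
  simp only [Finset.mem_insert, Finset.mem_singleton, not_or] at hX0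
  exact ⟨X, hX0.1, fun h => by rcases (isO_iff hD X).1 h with e | e | e; exacts [hX0.2.1 e, hX0.2.2.1 e, hX0.2.2.2 e], hno _ _ hX1, hno _ _ hX2⟩

end CfsgLib.BrauerOrder
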