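import Cfsg.Agent.Lib.BrauerOrder.TorusProd
import Cfsg.Agent.Lib.BrauerOrder.Bessel

/-!
# The coordinates of the torus with the four-group
-/

set_option autoImplicit false
set_option linter.unusedSectionVars false
set_option linter.style.haveILetI false

namespace CfsgLib.BrauerOrder

open Cfsg CfsgLib.CharTheory CfsgLib.Blocks CfsgLib.Blocks.AbelianFree
open scoped ComplexConjugate

universe u v

variable {G : Type u} [Group G] [Fintype G] {z : G} [Fintype (Cz z)] {Ω : Type v} [MulAction (Cz z) Ω]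
  {D : Sys G z}

/-- A coordinate vector outside the orbit of order two. -/
def IsOpt (e : Fin 6 → G → ℂ) (f : G → ℂ) (x y : ℤ) : Prop :=
  ∀ i, classInner f (e i) = ((![-1, 2 + x, -x, 1 + y, -y, -x - y] : Fin 6 → ℤ) i : ℂ)

variable (hD : D.Spec Ω) {r : ↥(D.core.T true) ≃* ↥(D.core.T true)} {g : G} (hr : D.Auto r g)
  {M : Ideal AlgInt} {e : Fin 6 → G → ℂ}
  (hgen : ∀ (b : Bool) (τ : ↥(D.core.T b) →* ℂˣ), IsGeneralizedCharacter (Cz z) (D.core.R Ω b τ))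
  (he : D.Six Ω M e)
include hD hr hgen he

open Classical in
theorem coord_eqs {τ : ↥(D.core.T true) →* ℂˣ} (h : τ ≠ 1) :
    ∃ c : Fin 6 → ℤ, (∀ i, classInner (D.up (fT Ω r τ)) (e i) = (c i : ℂ)) ∧ c 0 = -1 ∧
      c 1 + c 2 = (if IsO τ then 3 else 2) ∧ c 1 + c 3 + c 5 = (if IsO τ then 4 else 3) ∧ c 4 + c 3 = 1 ∧
      c 0 ^ 2 + c 1 ^ 2 + c 2 ^ 2 + c 3 ^ 2 + c 4 ^ 2 + c 5 ^ 2 ≤ (nW hD r τ τ : ℤ) + 6 := by
  obtain ⟨c, hc⟩ := coords he.orth6 (fT_gen hD hr hgen τ)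
  obtain ⟨s1, s1', s2⟩ := supp_th hD
  obtain ⟨f1, f1', f2⟩ := classFun_th hD
  obtain ⟨t1, t1', t2⟩ := inner_f_th hD hr h
  have k0 : classInner (D.up (fT Ω r τ)) (e 0) = -1 := by
    rw [he.zero, inner_up_one hD, inner_fT_one hD hr h]
  have k1 := (inner_up hD (supp_fT hD r τ) s1 f1).trans t1
  have k2 := (inner_up hD (supp_fT hD r τ) s1' f1').trans t1'
  have k3 := (inner_up hD (supp_fT hD r τ) s2 f2).trans t2
  rw [hc] at k0
  rw [he.th1, classInner_add_right, classInner_add_right, classInner_neg_right, hc, hc, hc] at k1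
  rw [he.th1', classInner_add_right, classInner_add_right, hc, hc, hc] at k2
  rw [he.th2, classInner_neg_right, classInner_add_right, classInner_add_right, hc, hc, hc] at k3
  have c0 : c 0 = -1 := by exact_mod_cast k0
  have e1 : -c 0 + c 1 + c 2 = (if IsO τ then 4 else 3) := by
    apply Int.cast_injective (α := ℂ); push_cast; exact k1
  have e2 : c 1 + c 3 + c 5 = (if IsO τ then 4 else 3) := by
    apply Int.cast_injective (α := ℂ); push_cast; exact k2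
  have e3 : -(c 0 + c 4 + c 3) = 0 := by
    apply Int.cast_injective (α := ℂ); push_cast; exact k3
  refine ⟨c, hc, c0, ?_, e2, by omega, (bessel_six he.orth6 (fT_gen hD hr hgen τ) hc
    (inner_up_ff hD hr h h)).1⟩
  split_ifs at e1 ⊢ <;> omega

theorem coord_O {τ : ↥(D.core.T true) →* ℂˣ} (h : IsO τ) :
    ∀ i, classInner (D.up (fT Ω r τ)) (e i) = ((![-1, 2, 1, 1, 0, 1] : Fin 6 → ℤ) i : ℂ) := by
  obtain ⟨c, hc, c0, e1, e2, e3, hb⟩ := coord_eqs hD hr hgen he h.1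
  rw [if_pos h] at e1 e2
  rw [(nW_O hD hr h).2.2, c0, show c 2 = 3 - c 1 by omega, show c 4 = 1 - c 3 by omega,
    show c 5 = 4 - c 1 - c 3 by omega] at hb
  have h1 : c 1 = 2 ∧ c 3 = 1 := by
    have hx : (c 1 - 2) ^ 2 + (c 3 - 1) ^ 2 ≤ 0 := by
      push_cast at hb
      nlinarith [sq_nonneg (c 1 - 2 + (c 3 - 1))]
    constructor <;> nlinarith [sq_nonneg (c 1 - 2), sq_nonneg (c 3 - 1)]
  intro i
  rw [hc]
  congr 1
  fin_cases i <;> simp <;> omega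

/-- The vector of the cyclic torus with a single coordinate, orthogonal to the functions of this torus. -/
theorem exists_E : ∃ E : G → ℂ, (∀ i, classInner E (e i) = ((![0, 0, 0, 0, 1, 0] : Fin 6 → ℤ) i : ℂ)) ∧
    ∀ τ : ↥(D.core.T true) →* ℂˣ, classInner (D.up (fT Ω r τ)) E = 0 := by
  obtain ⟨φ, hφ1, hφl, hφo⟩ : ∃ φ : ↥(D.core.T false) →* ℂˣ, φ ≠ 1 ∧ φ ≠ D.lamT false ∧ ¬ Sys.ThOrbit hD φ := by
    rcases hD.extra with hx | ⟨μ, -, -, hμ, -, hμ1, -, hμl, -⟩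
    · obtain ⟨ψ, a, b, c, -, -⟩ := hx D.θ hD.thne
      exact ⟨ψ, (nonfixed_ne hD a).1, (nonfixed_ne hD a).2, not_or.2 ⟨b, c⟩⟩
    · exact ⟨μ, hμ1, hμl, orbit_ne hD hμ⟩
  obtain ⟨c, hc, c0, c1, -, hcn⟩ := coord_all hD hgen he hφ1
  obtain ⟨d, hd, d0, d1, -, hdn⟩ := coord_all hD hgen he (th_ne hD).1
  obtain ⟨c2, c3, c5, -, c4⟩ := hcn hφl
  obtain ⟨d2, d3, d5, d4, -⟩ := hdn (th_ne hD).2
  refine ⟨D.V Ω φ 1 - D.V Ω D.θ 1, fun i => ?_, fun τ => ?_⟩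
  · rw [classInner_sub_left, hc, hd, ← Int.cast_sub]
    congr 1
    fin_cases i <;> simp [c0, c1, c2, c3, c4 hφo, c5, d0, d1, d2, d3, d4 (Or.inl rfl), d5]
  · have hzero : ∀ ρ : ↥(D.core.T false) →* ℂˣ, classInner (D.up (fT Ω r τ)) (D.V Ω ρ 1) = 0 := fun ρ => by
      rw [Sys.V, inner_up hD (supp_fT hD r τ) (supp_RN hD ρ 1)
        (isClassFunction_sub (R_isClassFunction hD.core _ _) (R_isClassFunction hD.core _ _)),
        inner_f_supp hD hr (supp_RN hD ρ 1)]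
      simp only [gT, classInner_sub_left, classInner_sub_right, classInner_add_left, classInner_smul_left,
        classInner_R_ne hD.core (show true ≠ false by decide)]
      simp
    rw [classInner_sub_right, hzero, hzero, sub_zero]

theorem coord_options {τ : ↥(D.core.T true) →* ℂˣ} (h : τ ≠ 1) (ho : ¬ IsO τ) :
    ∃ x y : ℤ, IsOpt e (D.up (fT Ω r τ)) x y ∧
      ((x = 0 ∧ y = 0) ∨ (x = -1 ∧ y = 0) ∨ (x = 0 ∧ y = -1 ∧ nW hD r τ τ = 2)) := by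
  obtain ⟨c, hc, c0, e1, e2, e3, hb⟩ := coord_eqs hD hr hgen he h
  rw [if_neg ho] at e1 e2
  obtain ⟨E, hE, hfE⟩ := exists_E hD hr hgen he
  obtain ⟨-, hsat⟩ := bessel_six he.orth6 (fT_gen hD hr hgen τ) hc (inner_up_ff hD hr h h)
  have sat4 : c 0 ^ 2 + c 1 ^ 2 + c 2 ^ 2 + c 3 ^ 2 + c 4 ^ 2 + c 5 ^ 2 = (nW hD r τ τ : ℤ) + 6 → c 4 = 0 := by
    intro hs
    have h1 := hsat hs hE
    rw [hfE τ] at h1
    have h2 : (0 : ℤ) = c 0 * 0 + c 1 * 0 + c 2 * 0 + c 3 * 0 + c 4 * 1 + c 5 * 0 := by exact_mod_cast h1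
    omega
  have hopt : IsOpt e (D.up (fT Ω r τ)) (c 1 - 2) (c 3 - 1) := fun i => by
    rw [hc]
    congr 1
    fin_cases i <;> simp <;> omega
  refine ⟨c 1 - 2, c 3 - 1, hopt, ?_⟩
  rw [c0, show c 2 = 2 - c 1 by omega, show c 4 = 1 - c 3 by omega, show c 5 = 3 - c 1 - c 3 by omega]
    at hb sat4
  obtain ⟨x, hx⟩ : ∃ x, c 1 = x + 2 := ⟨c 1 - 2, by omega⟩
  obtain ⟨y, hy⟩ : ∃ y, c 3 = y + 1 := ⟨c 3 - 1, by omega⟩
  simp only [hx, hy] at hb sat4 ⊢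
  have hw := nW_self hD hr h
  have hw2 : (nW hD r τ τ : ℤ) ≤ 2 := by omega
  have hy1 : -1 ≤ y ∧ y ≤ 1 := by
    have : 8 * y ^ 2 + 2 * y ≤ 10 := by nlinarith [sq_nonneg (3 * x + y + 2)]
    constructor <;> nlinarith
  have hx1 : -1 ≤ x ∧ x ≤ 0 := by
    have : 8 * x ^ 2 + 10 * x ≤ 7 := by nlinarith [sq_nonneg (3 * y + x + 1)]
    constructor <;> nlinarith
  obtain ⟨hy0, hy0'⟩ := hy1
  obtain ⟨hx0, hx0'⟩ := hx1
  rcases hw with hw | hw <;> rw [hw] at hb sat4 ⊢ <;> interval_cases x <;> interval_cases y <;>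
    first
      | (norm_num at hb; done)
      | (norm_num at sat4; done)
      | norm_num

theorem up_sub_gen (τ' τ : ↥(D.core.T true) →* ℂˣ) :
    IsGeneralizedCharacter G (D.up (fT Ω r τ') - D.up (fT Ω r τ)) :=
  isGenChar_sub (fT_gen hD hr hgen τ') (fT_gen hD hr hgen τ)

theorem inner_sub_self {τ' τ : ↥(D.core.T true) →* ℂˣ} (h' : τ' ≠ 1) (h : τ ≠ 1) :
    classInner (D.up (fT Ω r τ') - D.up (fT Ω r τ)) (D.up (fT Ω r τ') - D.up (fT Ω r τ)) =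
      (((nW hD r τ' τ' : ℤ) + nW hD r τ τ - nW hD r τ' τ - nW hD r τ τ' : ℤ) : ℂ) := by
  rw [classInner_sub_left, classInner_sub_right, classInner_sub_right, inner_up_ff hD hr h' h',
    inner_up_ff hD hr h' h, inner_up_ff hD hr h h', inner_up_ff hD hr h h]
  push_cast
  ring

/-- All characters outside the orbit of order two have the coordinates of a generic one. -/
theorem coord_uniform {τ τ' : ↥(D.core.T true) →* ℂˣ} (h : τ ≠ 1) (ho : ¬ IsO τ) (hs : nW hD r τ τ = 1)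
    (h' : τ' ≠ 1) (ho' : ¬ IsO τ') {x y : ℤ} (hopt : IsOpt e (D.up (fT Ω r τ)) x y) :
    (x = 0 ∨ x = -1) ∧ y = 0 ∧ IsOpt e (D.up (fT Ω r τ')) x y := by
  obtain ⟨x0, y0, hopt0, hcase0⟩ := coord_options hD hr hgen he h ho
  have heq : x0 = x ∧ y0 = y := by
    have a := (hopt0 1).symm.trans (hopt 1)
    have b := (hopt0 3).symm.trans (hopt 3)
    have a' : (![-1, 2 + x0, -x0, 1 + y0, -y0, -x0 - y0] : Fin 6 → ℤ) 1 =
        (![-1, 2 + x, -x, 1 + y, -y, -x - y] : Fin 6 → ℤ) 1 := by exact_mod_cast a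
    have b' : (![-1, 2 + x0, -x0, 1 + y0, -y0, -x0 - y0] : Fin 6 → ℤ) 3 =
        (![-1, 2 + x, -x, 1 + y, -y, -x - y] : Fin 6 → ℤ) 3 := by exact_mod_cast b
    simp at a' b'
    exact ⟨a', b'⟩
  obtain ⟨rfl, rfl⟩ := heq
  have hx : (x0 = 0 ∨ x0 = -1) ∧ y0 = 0 := by omega
  refine ⟨hx.1, hx.2, ?_⟩
  obtain ⟨hx01, rfl⟩ := hx
  -- differences against `τ`
  have hdiff : ∀ σ, σ ≠ 1 → ¬ IsO σ → ∃ a b : ℤ, IsOpt e (D.up (fT Ω r σ)) a b ∧ b = 0 ∧ (a = 0 ∨ a = -1) ∧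
      (a ≠ x0 → nW hD r σ σ = 2 ∧ nW hD r σ τ = 0 ∧ nW hD r τ σ = 0 ∧
        ∀ {ψ : G → ℂ} {d : Fin 6 → ℤ}, (∀ i, classInner ψ (e i) = (d i : ℂ)) →
          classInner (D.up (fT Ω r σ) - D.up (fT Ω r τ)) ψ = (((a - x0) * (d 1 - d 2 - d 5) : ℤ) : ℂ)) := by
    intro σ hσ hoσ
    obtain ⟨a, b, hopt1, hcase⟩ := coord_options hD hr hgen he hσ hoσ
    have hc : ∀ i, classInner (D.up (fT Ω r σ) - D.up (fT Ω r τ)) (e i) =
        ((![0, a - x0, -(a - x0), b, -b, -(a - x0) - b] : Fin 6 → ℤ) i : ℂ) := fun i => by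
      rw [classInner_sub_left, hopt1 i, hopt i, ← Int.cast_sub]
      congr 1
      fin_cases i <;> simp <;> ring
    obtain ⟨hb, hsat⟩ := bessel_six he.orth6 (up_sub_gen hD hr hgen he σ τ) hc
      (inner_sub_self hD hr hgen he hσ h)
    simp only [Matrix.cons_val_zero, Matrix.cons_val_one, Matrix.cons_val, hs] at hb hsat
    have hw := nW_self hD hr hσ
    rcases hcase with ⟨rfl, rfl⟩ | ⟨rfl, rfl⟩ | ⟨rfl, rfl, hσ2⟩
    all_goals rcases hx01 with rfl | rfl <;> norm_num at hb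
    all_goals first
      | exact ⟨_, _, hopt1, rfl, Or.inl rfl, fun hne => absurd rfl hne⟩
      | exact ⟨_, _, hopt1, rfl, Or.inr rfl, fun hne => absurd rfl hne⟩
      | (refine ⟨_, _, hopt1, rfl, by norm_num, fun _ => ⟨by omega, by omega, by omega, fun {ψ d} hd => ?_⟩⟩
         rw [hsat (by norm_num; omega) hd]
         congr 1
         ring)
      | (exfalso; omega)
      | (exfalso
         obtain ⟨E, hE, hfE⟩ := exists_E hD hr hgen he
         have h1 := hsat (by norm_num; omega) hE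
         rw [classInner_sub_left, hfE, hfE] at h1
         simp at h1)
  obtain ⟨a, b, hopt1, rfl, ha, hne⟩ := hdiff τ' h' ho'
  by_cases hax : a = x0
  · subst hax; exact hopt1
  exfalso
  obtain ⟨s2, n1, n2, hprod⟩ := hne hax
  have h4 : 4 ≤ Nat.card D.core.Z := by
    rcases delta_cases hD with ⟨-, -, hall⟩ | ⟨h4, -⟩
    · exact absurd (hall τ h) ho
    · exact h4
  obtain ⟨τ'', h'', ho'', z1, z2⟩ := exists_third hD hr h4 τ τ' s2
  obtain ⟨a2, b2, hopt2, rfl, ha2, -⟩ := hdiff τ'' h'' ho''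
  have hd : ∀ i, classInner (D.up (fT Ω r τ'') - D.up (fT Ω r τ)) (e i) =
      ((![0, a2 - x0, -(a2 - x0), 0, 0, -(a2 - x0)] : Fin 6 → ℤ) i : ℂ) := fun i => by
    rw [classInner_sub_left, hopt2 i, hopt i, ← Int.cast_sub]
    congr 1
    fin_cases i <;> simp <;> ring
  have hv := hprod hd
  rw [classInner_sub_left, classInner_sub_right, classInner_sub_right, inner_up_ff hD hr h' h'',
    inner_up_ff hD hr h' h, inner_up_ff hD hr h h'', inner_up_ff hD hr h h, z1, z2, n1, hs] at hv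
  have hv' : ((0 : ℕ) : ℤ) + 6 - (((0 : ℕ) : ℤ) + 6) - (((0 : ℕ) : ℤ) + 6 - (((1 : ℕ) : ℤ) + 6)) =
      (a - x0) * ((a2 - x0) - -(a2 - x0) - -(a2 - x0)) := by exact_mod_cast hv
  rcases ha with rfl | rfl <;> rcases ha2 with rfl | rfl <;> rcases hx01 with rfl | rfl <;> norm_num at hv'

/-- The coordinates of the truncated sums. -/
theorem coord_torus : ∃ x : ℤ, (x = 0 ∨ x = -1) ∧
    (∀ τ, IsO τ → ∀ i, classInner (D.up (fT Ω r τ)) (e i) = ((![-1, 2, 1, 1, 0, 1] : Fin 6 → ℤ) i : ℂ)) ∧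
    ∀ τ, τ ≠ 1 → ¬ IsO τ → IsOpt e (D.up (fT Ω r τ)) x 0 := by
  rcases delta_cases hD with ⟨-, -, hall⟩ | ⟨h4, -⟩
  · exact ⟨0, Or.inl rfl, fun τ h => coord_O hD hr hgen he h, fun τ h ho => absurd (hall τ h) ho⟩
  obtain ⟨τ, h, hs, ho⟩ := exists_generic hD hr h4
  obtain ⟨x, y, hopt, -⟩ := coord_options hD hr hgen he h ho
  obtain ⟨hx, rfl, -⟩ := coord_uniform hD hr hgen he h ho hs h ho hopt
  exact ⟨x, hx, fun τ' h' => coord_O hD hr hgen he h',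
    fun τ' h' ho' => (coord_uniform hD hr hgen he h ho hs h' ho' hopt).2.2⟩

end CfsgLib.BrauerOrder
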