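import Cfsg.Agent.Lib.BrauerOrder.Torus

/-!
# Products of the functions of the torus

The average over the odd elements commuting with the four-group is the section average off the involution,
the induced functions are generalized characters, and their products are computed.
-/

set_option autoImplicit false
set_option linter.unusedSectionVars false
set_option linter.style.haveILetI false

namespace CfsgLib.BrauerOrder

open Cfsg CfsgLib.CharTheory CfsgLib.Blocks CfsgLib.Blocks.AbelianFree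
open scoped ComplexConjugate

universe u v

variable {G : Type u} [Group G] [Fintype G] {z : G} [Fintype (Cz z)] {Ω : Type v} [MulAction (Cz z) Ω]
  {D : Sys G z} (hD : D.Spec Ω) {r : ↥(D.core.T true) ≃* ↥(D.core.T true)} {g : G} (hr : D.Auto r g)
include hD

/-- The odd part of the centraliser of the four-group. -/
theorem exists_K4 : ∃ K : Subgroup (Cz z), (∀ k, k ∈ K ↔ k ∈ regC 2 D.w) ∧
    ∀ t ∈ D.core.T true, ∀ k ∈ K, t * k * t⁻¹ ∈ K := by
  classical
  obtain ⟨K, hKn, hK, hidx⟩ := hD.core.cent true D.w hD.wT hD.wZ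
  haveI := hKn
  obtain ⟨a, ha⟩ := card_T_pow hD.core true
  have hmem : ∀ k, k ∈ K.map (Subgroup.subtype _) ↔ k ∈ regC 2 D.w := by
    intro k
    rw [mem_regC, Subgroup.mem_map]
    constructor
    · rintro ⟨c, hc, rfl⟩
      refine ⟨Subgroup.mem_centralizer_singleton_iff.1 c.2, ?_⟩
      rw [Subgroup.coe_subtype, Subgroup.orderOf_coe]
      exact (mem_iff_regular Nat.prime_two hK (hidx.trans ha) c).1 hc
    · rintro ⟨hc, hk⟩
      refine ⟨⟨k, Subgroup.mem_centralizer_singleton_iff.2 hc⟩, ?_, rfl⟩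
      exact (mem_iff_regular Nat.prime_two hK (hidx.trans ha) _).2 (by rwa [← Subgroup.orderOf_coe])
  refine ⟨K.map (Subgroup.subtype _), hmem, fun t ht k hk => ?_⟩
  rw [hmem, mem_regC] at hk ⊢
  refine ⟨?_, by rw [conj_orderOf]; exact hk.2⟩
  have hc : Commute t D.w := hD.core.tcomm true t ht D.w hD.wT
  exact (hc.mul_left hk.1).mul_left hc.inv_left

open Classical in
/-- Off the involution the section average is the average over the four-group centraliser. -/
theorem Av_eq_Fav {φ : Cz z → ℂ} (hφ : IsClassFunction (Cz z) φ) {t : ↥(D.core.T true)} (ht : t ≠ 1)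
    (hd : ¬ OnD D (t : Cz z)) : Av φ (t : Cz z) = Fav D φ t := by
  obtain ⟨K, hK, hnorm⟩ := exists_K4 hD
  obtain ⟨i, hi⟩ := exists_invol hD t.2 (fun e => ht (Subtype.ext e))
  have hcw : ∀ v : Cz z, Commute v (t : Cz z) → Commute v D.w := by
    intro v hv
    have h1 := hv.pow_right i
    rcases hi with e | e | e
    · exact absurd ⟨i, e⟩ hd
    · rwa [e] at h1
    · rw [e] at h1
      have h2 : Commute v (D.zc * (D.zc * D.w)) := (show Commute v D.zc from zc_comm hD v).mul_right h1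
      rwa [← mul_assoc, (zc_ne hD).2, one_mul] at h2
  have hsub : regC 2 (t : Cz z) ⊆ regC 2 D.w := fun v hv =>
    mem_regC.2 ⟨hcw v (mem_regC.1 hv).1, (mem_regC.1 hv).2⟩
  set A := regC 2 D.w with hA
  set B := regC 2 (t : Cz z) with hB
  let f : Cz z × Cz z → Cz z := fun p => (t : Cz z)⁻¹ * (p.1 * ((t : Cz z) * p.2) * p.1⁻¹)
  have hmaps : ∀ p ∈ A ×ˢ B, f p ∈ A := by
    rintro ⟨x, v⟩ hp
    obtain ⟨hx, hv⟩ := Finset.mem_product.1 hp
    rw [hA, ← hK] at hx ⊢
    have hv' : v ∈ K := (hK v).2 (hsub hv)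
    show (t : Cz z)⁻¹ * (x * ((t : Cz z) * v) * x⁻¹) ∈ K
    rw [show (t : Cz z)⁻¹ * (x * ((t : Cz z) * v) * x⁻¹) =
      ((t : Cz z)⁻¹ * x * ((t : Cz z)⁻¹)⁻¹) * (v * x⁻¹) by group]
    exact mul_mem (hnorm _ (inv_mem t.2) x hx) (mul_mem hv' (inv_mem hx))
  have ht2 := two_of_mem hD.core t.2
  have hfib : ∀ k ∈ A, ((A ×ˢ B).filter fun p => f p = k).card ≤ B.card := by
    intro k _
    rcases Finset.eq_empty_or_nonempty ((A ×ˢ B).filter fun p => f p = k) with e | ⟨⟨x0, v0⟩, h0⟩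
    · rw [e]; simp
    obtain ⟨h0m, h0e⟩ := Finset.mem_filter.1 h0
    obtain ⟨hx0, hv0⟩ := Finset.mem_product.1 h0m
    have key : ∀ p ∈ (A ×ˢ B).filter (fun p => f p = k),
        x0⁻¹ * p.1 ∈ B ∧ p.1 * ((t : Cz z) * p.2) * p.1⁻¹ = x0 * ((t : Cz z) * v0) * x0⁻¹ := by
      rintro ⟨x, v⟩ hp
      obtain ⟨hm, he⟩ := Finset.mem_filter.1 hp
      obtain ⟨hx, hv⟩ := Finset.mem_product.1 hm
      have e : x * ((t : Cz z) * v) * x⁻¹ = x0 * ((t : Cz z) * v0) * x0⁻¹ := mul_left_cancel (he.trans h0e.symm)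
      refine ⟨?_, e⟩
      have hp2 := congrArg p2 e
      simp only [p2_conj, p2_mul ht2 (mem_regC.1 hv).1 (mem_regC.1 hv).2,
        p2_mul ht2 (mem_regC.1 hv0).1 (mem_regC.1 hv0).2] at hp2
      rw [hA, ← hK] at hx hx0
      refine mem_regC.2 ⟨?_, (mem_regC.1 ((hK _).1 (mul_mem (inv_mem hx0) hx))).2⟩
      show x0⁻¹ * x * (t : Cz z) = (t : Cz z) * (x0⁻¹ * x)
      calc x0⁻¹ * x * (t : Cz z) = x0⁻¹ * (x * (t : Cz z) * x⁻¹) * x := by group
        _ = (t : Cz z) * (x0⁻¹ * x) := by rw [hp2]; group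
    refine Finset.card_le_card_of_injOn (fun p => x0⁻¹ * p.1) (fun p hp => (key p hp).1) ?_
    rintro ⟨x, v⟩ hp ⟨x', v'⟩ hp' e
    obtain rfl : x = x' := mul_left_cancel e
    have e1 := (key _ hp).2.trans (key _ hp').2.symm
    exact Prod.ext rfl (mul_left_cancel (mul_left_cancel (mul_right_cancel e1)))
  have hall : ∀ k ∈ A, ((A ×ˢ B).filter fun p => f p = k).card = B.card := by
    refine (Finset.sum_eq_sum_iff_of_le hfib).1 ?_
    rw [← Finset.card_eq_sum_card_fiberwise hmaps, Finset.card_product, Finset.sum_const, smul_eq_mul]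
  have hsum : (B.card : ℂ) * ∑ k ∈ A, φ ((t : Cz z) * k) = (A.card : ℂ) * ∑ v ∈ B, φ ((t : Cz z) * v) := by
    have h1 : ∑ p ∈ A ×ˢ B, φ ((t : Cz z) * f p) = (A.card : ℂ) * ∑ v ∈ B, φ ((t : Cz z) * v) := by
      have e : ∀ x v : Cz z, φ ((t : Cz z) * f (x, v)) = φ ((t : Cz z) * v) := fun x v => by
        simp only [f, mul_inv_cancel_left]
        exact hφ _ _
      simp only [Finset.sum_product, e, Finset.sum_const, nsmul_eq_mul]
    rw [← h1, ← Finset.sum_fiberwise_of_maps_to hmaps, Finset.mul_sum]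
    refine Finset.sum_congr rfl fun k hk => ?_
    rw [Finset.sum_congr rfl fun p hp => by rw [(Finset.mem_filter.1 hp).2], Finset.sum_const, nsmul_eq_mul,
      hall k hk]
  have hA0 : (A.card : ℂ) ≠ 0 := Nat.cast_ne_zero.2 (Finset.card_pos.2 ⟨1, one_mem_regC Nat.prime_two _⟩).ne'
  have hB0 : (B.card : ℂ) ≠ 0 := Nat.cast_ne_zero.2 (Finset.card_pos.2 ⟨1, one_mem_regC Nat.prime_two _⟩).ne'
  rw [Av, Fav, ← hA, ← hB]
  field_simp
  linear_combination -hsum

open Classical in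
theorem Fav_cn {φ : Cz z → ℂ} (hφ : IsClassFunction (Cz z) φ) (t : ↥(D.core.T true)) :
    Fav D φ ⟨D.core.n true * t * (D.core.n true)⁻¹, hD.core.nnorm true t t.2⟩ = Fav D φ t := by
  set n := D.core.n true
  have hw : ∀ v : Cz z, Commute v D.w ↔ Commute v (D.zc * D.w) := by
    intro v
    have hz : Commute v D.zc := zc_comm hD v
    refine ⟨fun h => hz.mul_right h, fun h => ?_⟩
    have h2 := hz.mul_right h
    rwa [← mul_assoc, (zc_ne hD).2, one_mul] at h2
  have hset : regC 2 (n * D.w * n⁻¹) = regC 2 D.w := by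
    ext v
    rw [hD.nw, mem_regC, mem_regC, hw v]
  rw [Fav, Fav]
  refine congrArg _ ?_
  show ∑ k ∈ regC 2 D.w, φ (n * (t : Cz z) * n⁻¹ * k) = _
  conv_lhs => rw [← hset, sum_regC_conj]
  refine Finset.sum_congr rfl fun v _ => ?_
  rw [show n * (t : Cz z) * n⁻¹ * (n * v * n⁻¹) = n * ((t : Cz z) * v) * n⁻¹ by group]
  exact hφ _ _

include hr

open Classical in
theorem Fav_cr {χ : G → ℂ} (hχ : IsClassFunction G χ) (t : ↥(D.core.T true)) :
    Fav D (fun x : Cz z => χ x) (r t) = Fav D (fun x : Cz z => χ x) t := by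
  have hg1 : g * z * g⁻¹ = (D.w : G) := by
    have h := hr.conj ⟨D.zc, zcU hD⟩
    rw [hr.onZ, hD.zcv] at h
    exact h.symm
  have hg2 : g * (D.w : G) * g⁻¹ = z * (D.w : G) := by
    have h := hr.conj ⟨D.w, hD.wT⟩
    rw [hr.onW, Subgroup.coe_mul, hD.zcv] at h
    exact h.symm
  have hzw : g * (z * (D.w : G)) * g⁻¹ = z := by
    have h := hr.conj ⟨D.zc * D.w, mul_mem (zcU hD) hD.wT⟩
    rw [hr.onZW, hD.zcv] at h
    simp only [Subgroup.coe_mul, hD.zcv] at h
    exact h.symm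
  have cm : ∀ {a b : G} (x : G), Commute a b → Commute (x * a * x⁻¹) (x * b * x⁻¹) := fun {a b} x h => by
    show x * a * x⁻¹ * (x * b * x⁻¹) = x * b * x⁻¹ * (x * a * x⁻¹)
    rw [show x * a * x⁻¹ * (x * b * x⁻¹) = x * (a * b) * x⁻¹ by group, h.eq]; group
  have hcoe : ∀ v : Cz z, Commute v D.w ↔ Commute (v : G) (D.w : G) := fun v =>
    ⟨fun h => congrArg Subtype.val h, fun h => Subtype.ext h⟩
  have hzv : ∀ v : Cz z, Commute (v : G) z := fun v => Subgroup.mem_centralizer_singleton_iff.1 v.2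
  have fwd : ∀ v ∈ regC 2 D.w, g * (v : G) * g⁻¹ ∈ Subgroup.centralizer ({z} : Set G) := by
    intro v hv
    refine Subgroup.mem_centralizer_singleton_iff.2 ?_
    have h := cm g ((hzv v).mul_right ((hcoe v).1 (mem_regC.1 hv).1))
    rw [hzw] at h
    exact h
  have bwd : ∀ v ∈ regC 2 D.w, g⁻¹ * (v : G) * g⁻¹⁻¹ ∈ Subgroup.centralizer ({z} : Set G) := by
    intro v hv
    refine Subgroup.mem_centralizer_singleton_iff.2 ?_
    have h := cm g⁻¹ ((hcoe v).1 (mem_regC.1 hv).1)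
    rw [show g⁻¹ * (D.w : G) * g⁻¹⁻¹ = z by rw [← hg1]; group] at h
    exact h
  rw [Fav, Fav]
  refine congrArg _ ?_
  symm
  refine Finset.sum_bij' (fun v hv => (⟨g * (v : G) * g⁻¹, fwd v hv⟩ : Cz z))
    (fun v hv => (⟨g⁻¹ * (v : G) * g⁻¹⁻¹, bwd v hv⟩ : Cz z)) (fun v hv => ?_) (fun v hv => ?_)
    (fun v hv => Subtype.ext (by show g⁻¹ * (g * (v : G) * g⁻¹) * g⁻¹⁻¹ = v; group))
    (fun v hv => Subtype.ext (by show g * (g⁻¹ * (v : G) * g⁻¹⁻¹) * g⁻¹ = v; group)) (fun v hv => ?_)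
  · refine mem_regC.2 ⟨(hcoe _).2 ?_, ?_⟩
    · have h := cm g (hzv v)
      rw [hg1] at h
      exact h
    · rw [← Subgroup.orderOf_coe, conj_orderOf, Subgroup.orderOf_coe]
      exact (mem_regC.1 hv).2
  · refine mem_regC.2 ⟨(hcoe _).2 ?_, ?_⟩
    · have h := cm g⁻¹ ((hzv v).mul_right ((hcoe v).1 (mem_regC.1 hv).1))
      rw [show g⁻¹ * (z * (D.w : G)) * g⁻¹⁻¹ = (D.w : G) by rw [← hg2]; group] at h
      exact h
    · rw [← Subgroup.orderOf_coe, conj_orderOf, Subgroup.orderOf_coe]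
      exact (mem_regC.1 hv).2
  · show χ ((((t : Cz z) * v : Cz z)) : G) = χ ((r t : Cz z) * (⟨g * (v : G) * g⁻¹, _⟩ : Cz z) : Cz z)
    rw [Subgroup.coe_mul, Subgroup.coe_mul, hr.conj t,
      show g * ((t : Cz z) : G) * g⁻¹ * (g * (v : G) * g⁻¹) = g * (((t : Cz z) : G) * (v : G)) * g⁻¹ by group]
    exact (hχ _ _).symm

open Classical in
/-- Products of a class function of `G` with a truncated sum. -/
theorem inner_fT {χ : G → ℂ} (hχ : IsClassFunction G χ) (τ : ↥(D.core.T true) →* ℂˣ) :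
    classInner (fun x : Cz z => χ x) (fT Ω r τ) = classInner (fun x : Cz z => χ x) (gT Ω r τ) -
      2 * ((Nat.card (D.core.T true) : ℂ)⁻¹ *
        ∑ t : ↥(D.core.T true), Fav D (fun x : Cz z => χ x) t * (conj ((τ t : ℂˣ) : ℂ) - 1)) := by
  set φ : Cz z → ℂ := fun x => χ x
  have hφ : IsClassFunction (Cz z) φ := fun x y => hχ (x : G) (y : G)
  have h := inner_diff (r := r) hD hφ τ
  have e : ∀ t : ↥(D.core.T true), (if OnD D (t : Cz z) then 0 else Av φ (t : Cz z) * conj (Gs hD r τ t)) =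
      if OnD D (t : Cz z) then 0 else Fav D φ t * conj (Gs hD r τ t) := by
    intro t
    split_ifs with hd
    · rfl
    · by_cases ht : t = 1
      · rw [ht, Gs_one hD]; simp
      · rw [Av_eq_Fav hD hφ ht hd]
  rw [Finset.sum_congr rfl fun t _ => e t,
    sum_offD hD hr (E := fun t => Fav D φ t * conj (Gs hD r τ t))
      (fun t => by rw [Gs_cr hD hr, Fav_cr hD hr hχ]) (by rw [Gs_one hD]; simp),
    sum_Gs hD hr τ (Fav_cr hD hr hχ) (Fav_cn hD hφ)] at h
  rw [mul_inv] at h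
  linear_combination -h

open Classical in
/-- The average against a character of the torus is a product on the four-group centraliser. -/
theorem I_int {χ : G → ℂ} (hχ : IsGeneralizedCharacter G χ) (τ : ↥(D.core.T true) →* ℂˣ) :
    ∃ n : ℤ, (Nat.card (D.core.T true) : ℂ)⁻¹ *
      ∑ t : ↥(D.core.T true), Fav D (fun x : Cz z => χ x) t * (conj ((τ t : ℂˣ) : ℂ) - 1) = n := by
  obtain ⟨K, hKn, hK, hidx⟩ := hD.core.cent true D.w hD.wT hD.wZ
  obtain ⟨a, ha⟩ := card_T_pow hD.core true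
  haveI : K.Normal := hKn
  have hUH : D.core.T true ≤ Subgroup.centralizer ({D.w} : Set (Cz z)) := fun t ht =>
    Subgroup.mem_centralizer_singleton_iff.2 (hD.core.tcomm true t ht D.w hD.wT)
  let ι : ↥(D.core.T true) →* ↥(Subgroup.centralizer ({D.w} : Set (Cz z))) ⧸ K := (QuotientGroup.mk' K).comp (Subgroup.inclusion hUH)
  have hι : Function.Bijective ι := by
    refine (Nat.bijective_iff_injective_and_card _).2 ⟨(injective_iff_map_eq_one _).2 fun t ht => ?_, ?_⟩
    · have h1 : Subgroup.inclusion hUH t ∈ K := (QuotientGroup.eq_one_iff _).1 ht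
      have h2 := (mem_iff_regular Nat.prime_two hK (hidx.trans ha) _).1 h1
      rw [← Subgroup.orderOf_coe] at h2
      obtain ⟨k, hk⟩ := two_of_mem hD.core t.2
      exact Subtype.ext (odd_pow_two hk h2)
    · rw [← Subgroup.index_eq_card, hidx]
  let e : ↥(D.core.T true) ≃* ↥(Subgroup.centralizer ({D.w} : Set (Cz z))) ⧸ K := MulEquiv.ofBijective ι hι
  let T : ↥(Subgroup.centralizer ({D.w} : Set (Cz z))) →* ℂˣ := τ.comp (e.symm.toMonoidHom.comp (QuotientGroup.mk' K))
  have hT : ∀ (t : ↥(D.core.T true)) (k : K), T (Subgroup.inclusion hUH t * k) = τ t := by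
    intro t k
    show τ (e.symm ((QuotientGroup.mk' K) (Subgroup.inclusion hUH t * k))) = τ t
    rw [map_mul, show (QuotientGroup.mk' K) (k : ↥(Subgroup.centralizer ({D.w} : Set (Cz z)))) = 1 from (QuotientGroup.eq_one_iff _).2 k.2, mul_one]
    exact congrArg τ (e.symm_apply_apply t)
  letI : Fintype ↥(Subgroup.centralizer ({D.w} : Set (Cz z))) := Fintype.ofFinite _
  have hb : IsGeneralizedCharacter ↥(Subgroup.centralizer ({D.w} : Set (Cz z))) (fun h : ↥(Subgroup.centralizer ({D.w} : Set (Cz z))) => ((T h : ℂˣ) : ℂ) - 1) :=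
    isGenChar_sub (isGenChar_of_char (isCharacter_of_irr (isIrrCharacter_linear T)))
      (isGenChar_of_char (isCharacter_of_irr isIrrCharacter_one))
  have ha' : IsGeneralizedCharacter ↥(Subgroup.centralizer ({D.w} : Set (Cz z))) (fun h : ↥(Subgroup.centralizer ({D.w} : Set (Cz z))) => χ ((h : Cz z) : G)) :=
    isGenChar_comp (isGenChar_comp hχ (Subgroup.subtype _)) (Subgroup.centralizer ({D.w} : Set (Cz z))).subtype
  obtain ⟨n, hn⟩ := classInner_genChar_int ha' hb
  refine ⟨n, hn ▸ ?_⟩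
  let Φ : ↥(D.core.T true) × K → ↥(Subgroup.centralizer ({D.w} : Set (Cz z))) := fun p => Subgroup.inclusion hUH p.1 * p.2
  have hΦ : Function.Bijective Φ := by
    constructor
    · rintro ⟨t, k⟩ ⟨t', k'⟩ e1
      have e2 : ι t = ι t' := by
        have h3 := congrArg (QuotientGroup.mk' K) e1
        simp only [Φ, map_mul] at h3
        rw [show (QuotientGroup.mk' K) k.1 = 1 from (QuotientGroup.eq_one_iff _).2 k.2,
          show (QuotientGroup.mk' K) k'.1 = 1 from (QuotientGroup.eq_one_iff _).2 k'.2, mul_one, mul_one] at h3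
        exact h3
      obtain rfl := hι.1 e2
      exact Prod.ext rfl (Subtype.ext (mul_left_cancel e1))
    · intro h
      obtain ⟨t, ht⟩ := hι.2 (QuotientGroup.mk' K h)
      refine ⟨⟨t, (Subgroup.inclusion hUH t)⁻¹ * h, ?_⟩, by simp [Φ]⟩
      exact QuotientGroup.eq.1 ht
  have hcard : (regC 2 D.w).card = Nat.card K := by
    rw [Finset.card_eq_sum_ones, sum_regC Nat.prime_two hK (hidx.trans ha), ← Finset.card_eq_sum_ones,
      Finset.card_univ, Nat.card_eq_fintype_card]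
  rw [classInner, ← Fintype.sum_bijective Φ hΦ _ _ (fun p => rfl), Fintype.sum_prod_type,
    ← Nat.card_congr (Equiv.ofBijective Φ hΦ), Nat.card_prod, Nat.cast_mul, mul_inv, Finset.mul_sum,
    Finset.mul_sum]
  refine Finset.sum_congr rfl fun t _ => ?_
  rw [Fav, sum_regC Nat.prime_two hK (hidx.trans ha), hcard, mul_assoc, mul_assoc]
  refine congrArg _ (congrArg _ ?_)
  rw [Finset.sum_mul]
  refine Finset.sum_congr rfl fun k _ => ?_
  simp only [Φ, hT, map_sub, map_one]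
  rfl

open Classical in
theorem fT_gen (hgen : ∀ (b : Bool) (τ : ↥(D.core.T b) →* ℂˣ), IsGeneralizedCharacter (Cz z) (D.core.R Ω b τ))
    (τ : ↥(D.core.T true) →* ℂˣ) : IsGeneralizedCharacter G (D.up (fT Ω r τ)) := by
  refine isGenChar_iff_coeff_int.2 ⟨indFun_isClassFunction _ _, fun χ hχ => ?_⟩
  rw [Sys.up, frobenius_reciprocity _ _ (isClassFunction_irr hχ), ← classInner_comm,
    inner_fT hD hr (isClassFunction_irr hχ)]
  have hg : IsGeneralizedCharacter (Cz z) (gT Ω r τ) :=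
    isGenChar_sub (isGenChar_add (isGenChar_add (hgen _ _) (hgen _ _)) (hgen _ _))
      (by
        have h := isGenChar_intSmul (3 : ℤ) (hgen true 1)
        simpa using h)
  obtain ⟨a, ha⟩ := classInner_genChar_int
    (isGenChar_of_char (isCharacter_restrict (isCharacter_of_irr hχ) (Subgroup.centralizer ({z} : Set G)))) hg
  obtain ⟨b, hb⟩ := I_int hD hr (isGenChar_of_char (isCharacter_of_irr hχ)) τ
  exact ⟨a - 2 * b, by rw [ha, hb]; simp [map_ofNat]⟩

end CfsgLib.BrauerOrder
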