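import Cfsg.Agent.Lib.BrauerOrder.TorusInner
import Cfsg.Agent.Lib.BrauerOrder.Isom

/-!
# The norms and the products with the three functions
-/

set_option autoImplicit false
set_option linter.unusedSectionVars false
set_option linter.style.haveILetI false

namespace CfsgLib.BrauerOrder

open Cfsg CfsgLib.CharTheory CfsgLib.Blocks CfsgLib.Blocks.AbelianFree
open scoped ComplexConjugate

universe u v

variable {G : Type u} [Group G] [Fintype G] {z : G} [Fintype (Cz z)] {Ω : Type v} [MulAction (Cz z) Ω]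
  {D : Sys G z} (hD : D.Spec Ω) {r : ↥(D.core.T true) ≃* ↥(D.core.T true)} {g : G} (hr : D.Auto r g)
include hD hr

open Classical in
/-- The product of a function of the torus with a sum. -/
theorem inner_gR (τ' τ : ↥(D.core.T true) →* ℂˣ) :
    classInner (gT Ω r τ') (D.core.R Ω true τ) =
      (nW hD r τ' τ : ℂ) - 3 * (2 * if (1 : ↥(D.core.T true) →* ℂˣ) = τ then 1 else 0) := by
  have hRR : ∀ X : ↥(D.core.T true) →* ℂˣ, classInner (D.core.R Ω true X) (D.core.R Ω true τ) =
      (if X = τ then (1 : ℂ) else 0) + (if cnC hD X = τ then (1 : ℂ) else 0) := fun X =>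
    classInner_R_R hD.core true X τ
  rw [gT, classInner_sub_left, classInner_add_left, classInner_add_left, classInner_smul_left,
    hRR, hRR, hRR, hRR, cn_one hD, nW]
  push_cast
  ring

open Classical in
theorem inner_gg {τ' τ : ↥(D.core.T true) →* ℂˣ} (h' : τ' ≠ 1) (h : τ ≠ 1) :
    classInner (gT Ω r τ') (gT Ω r τ) = 3 * (nW hD r τ' τ : ℂ) + 18 := by
  conv_lhs => arg 2; rw [gT]
  rw [classInner_sub_right, classInner_add_right, classInner_add_right, classInner_smul_right,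
    inner_gR hD hr, inner_gR hD hr, inner_gR hD hr, inner_gR hD hr, nW_one hD hr h',
    if_neg (Ne.symm h), if_neg (Ne.symm (cr_ne_one hr h)), if_neg (Ne.symm (cr_ne_one hr (cr_ne_one hr h))),
    if_pos rfl]
  simp only [map_ofNat, Nat.cast_zero, nW_cr hD hr]
  ring

open Classical in
/-- The square sums of the values. -/
theorem sum_GG {τ' τ : ↥(D.core.T true) →* ℂˣ} (h' : τ' ≠ 1) (h : τ ≠ 1) :
    ∑ t : ↥(D.core.T true), Gs hD r τ' t * conj (Gs hD r τ t) =
      6 * (Nat.card (D.core.T true) : ℂ) * ((nW hD r τ' τ : ℂ) + 6) := by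
  have hcn : ∀ t : ↥(D.core.T true),
      Gs hD r τ' ⟨D.core.n true * t * (D.core.n true)⁻¹, hD.core.nnorm true t t.2⟩ = Gs hD r τ' t := by
    intro t
    have e : ∀ X : ↥(D.core.T true) →* ℂˣ,
        X ⟨D.core.n true * t * (D.core.n true)⁻¹, hD.core.nnorm true t t.2⟩ = cnC hD X t := fun _ => rfl
    simp only [Gs, e, cn_cn hD]
    ring
  rw [sum_Gs hD hr τ (F := fun t => Gs hD r τ' t) (fun t => Gs_cr hD hr τ' t) hcn]
  have orth : ∀ X Y : ↥(D.core.T true) →* ℂˣ, ∑ t : ↥(D.core.T true), (X t : ℂ) * conj ((Y t : ℂˣ) : ℂ) =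
      if X = Y then (Nat.card (D.core.T true) : ℂ) else 0 := by
    intro X Y
    have e := classInner_irr (isIrrCharacter_linear X) (isIrrCharacter_linear Y)
    rw [classInner] at e
    have hne : (Nat.card (D.core.T true) : ℂ) ≠ 0 := Nat.cast_ne_zero.2 Nat.card_pos.ne'
    have heq : ((fun t => ((X t : ℂˣ) : ℂ)) = fun t => ((Y t : ℂˣ) : ℂ)) ↔ X = Y :=
      ⟨fun hh => MonoidHom.ext fun t => Units.ext (congrFun hh t), fun hh => by rw [hh]⟩
    rw [if_congr heq rfl rfl] at e
    apply mul_left_cancel₀ (inv_ne_zero hne)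
    refine Eq.trans e ?_
    split_ifs <;> simp [hne]
  have h1 : ∀ X : ↥(D.core.T true) →* ℂˣ, X ≠ 1 → ∑ t : ↥(D.core.T true), (X t : ℂ) = 0 := fun X hX =>
    sum_char_T hD X hX
  have hc : ∑ t : ↥(D.core.T true), conj ((τ t : ℂˣ) : ℂ) = 0 := by rw [← map_sum, h1 τ h, map_zero]
  have a1 := cr_ne_one hr h'
  have a2 := cr_ne_one hr a1
  simp only [Gs, sub_mul, add_mul, mul_sub, mul_one, Finset.sum_sub_distrib, Finset.sum_add_distrib, orth,
    h1 τ' h', h1 _ a1, h1 _ a2, h1 _ (cn_ne_one hD h'), h1 _ (cn_ne_one hD a1), h1 _ (cn_ne_one hD a2),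
    ← Finset.mul_sum, hc, Finset.sum_const, Finset.card_univ, nsmul_eq_mul, ← Nat.card_eq_fintype_card, nW,
    Nat.cast_add, Nat.cast_ite, Nat.cast_one, Nat.cast_zero]
  split_ifs <;> ring

open Classical in
/-- Products of two truncated sums. -/
theorem inner_ff {τ' τ : ↥(D.core.T true) →* ℂˣ} (h' : τ' ≠ 1) (h : τ ≠ 1) :
    classInner (fT Ω r τ') (fT Ω r τ) = (nW hD r τ' τ : ℂ) + 6 := by
  have e : classInner (fT Ω r τ') (fT Ω r τ) = classInner (gT Ω r τ') (fT Ω r τ) := by
    rw [classInner, classInner]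
    refine congrArg _ (Finset.sum_congr rfl fun x _ => ?_)
    by_cases hx : OnD D x <;> simp [fT, hx]
  have hd := inner_diff (r := r) hD (gT_class (r := r) hD τ') τ
  have hav : ∀ t : ↥(D.core.T true),
      (if OnD D (t : Cz z) then 0 else Av (gT Ω r τ') (t : Cz z) * conj (Gs hD r τ t)) =
        if OnD D (t : Cz z) then 0 else Gs hD r τ' t * conj (Gs hD r τ t) := by
    intro t
    split_ifs with hd
    · rfl
    · by_cases ht : t = 1
      · rw [ht, Gs_one hD, Gs_one hD]; simp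
      · have hz : (t : Cz z) ∉ D.core.Z := fun hz => hd (by
          have h1 : (t : Cz z) ≠ 1 := fun e => ht (Subtype.ext e)
          obtain ⟨i, hi⟩ := exists_invol hD t.2 h1
          have hiZ : (t : Cz z) ^ i ∈ D.core.Z := pow_mem hz i
          rcases hi with k | k | k <;> rw [k] at hiZ
          · exact ⟨i, k⟩
          · exact absurd hiZ hD.wZ
          · exact absurd hiZ fun h2 => hD.wZ (by
              simpa [← mul_assoc, (zc_ne hD).2] using mul_mem hD.zcZ h2))
        rw [Av_const _ _ fun v hv => gT_ttype hD τ' t hz hv]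
  rw [Finset.sum_congr rfl fun t _ => hav t,
    sum_offD hD hr (E := fun t => Gs hD r τ' t * conj (Gs hD r τ t))
      (fun t => by rw [Gs_cr hD hr, Gs_cr hD hr]) (by rw [Gs_one hD]; simp),
    sum_GG hD hr h' h, inner_gg hD hr h' h, ← e] at hd
  have hne : (Nat.card (D.core.T true) : ℂ) ≠ 0 := Nat.cast_ne_zero.2 Nat.card_pos.ne'
  field_simp at hd
  linear_combination (-1 / 3 : ℂ) * hd

theorem inner_up_ff {τ' τ : ↥(D.core.T true) →* ℂˣ} (h' : τ' ≠ 1) (h : τ ≠ 1) :
    classInner (D.up (fT Ω r τ')) (D.up (fT Ω r τ)) = (((nW hD r τ' τ : ℤ) + 6 : ℤ) : ℂ) := by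
  rw [inner_up hD (supp_fT hD r τ') (supp_fT hD r τ) (fT_class hD τ), inner_ff hD hr h' h]
  push_cast
  ring

open Classical in
theorem inner_fT_one {τ : ↥(D.core.T true) →* ℂˣ} (h : τ ≠ 1) :
    classInner (fT Ω r τ) D.one = -1 := by
  have h1 := inner_fT hD hr (χ := fun _ : G => (1 : ℂ)) isClassFunction_one τ
  have hF : ∀ t : ↥(D.core.T true), Fav D (fun _ : Cz z => (1 : ℂ)) t = 1 := fun t => by
    rw [Fav, Finset.sum_const, nsmul_eq_mul, mul_one, inv_mul_cancel₀]
    exact Nat.cast_ne_zero.2 (Finset.card_pos.2 ⟨1, one_mem_regC Nat.prime_two _⟩).ne'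
  have hone : ∀ ρ : ↥(D.core.T true) →* ℂˣ,
      classInner (fun _ : Cz z => (1 : ℂ)) (D.core.R Ω true ρ) = if ρ = 1 then 1 else 0 := fun ρ => by
    rw [← classInner_comm, show (fun _ : Cz z => (1 : ℂ)) = D.one from rfl, (inner_RU hD ρ).1]
    split_ifs <;> simp
  have hg : classInner (fun _ : Cz z => (1 : ℂ)) (gT Ω r τ) = -3 := by
    rw [gT, classInner_sub_right, classInner_add_right, classInner_add_right, classInner_smul_right,
      hone, hone, hone, hone, if_neg h, if_neg (cr_ne_one hr h), if_neg (cr_ne_one hr (cr_ne_one hr h)),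
      if_pos rfl]
    simp [map_ofNat]
  have hc : ∑ t : ↥(D.core.T true), conj ((τ t : ℂˣ) : ℂ) = 0 := by
    rw [← map_sum, sum_char_T hD τ h, map_zero]
  simp only [hF, one_mul, hg, Finset.sum_sub_distrib, hc, Finset.sum_const, Finset.card_univ, nsmul_eq_mul,
    mul_one, ← Nat.card_eq_fintype_card] at h1
  have hne : (Nat.card (D.core.T true) : ℂ) ≠ 0 := Nat.cast_ne_zero.2 Nat.card_pos.ne'
  have h2 : classInner (fun _ : Cz z => (1 : ℂ)) (fT Ω r τ) = -1 := by
    rw [h1]; field_simp; ring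
  rw [show D.one = fun _ : Cz z => (1 : ℂ) from rfl, ← classInner_comm, h2, map_neg, map_one]

open Classical in
theorem inner_f_supp {τ : ↥(D.core.T true) →* ℂˣ} {θ : Cz z → ℂ} (hθ : D.Supp θ) :
    classInner (fT Ω r τ) θ = classInner (gT Ω r τ) θ := by
  rw [classInner, classInner]
  refine congrArg _ (Finset.sum_congr rfl fun x _ => ?_)
  by_cases hx : OnD D x
  · rw [fT, if_pos hx]
  · rw [hθ x fun i hi => hx ⟨i, hi⟩]; simp

open Classical in
/-- The products with the three functions. -/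
theorem inner_f_th {τ : ↥(D.core.T true) →* ℂˣ} (h : τ ≠ 1) :
    classInner (fT Ω r τ) (D.th1 Ω) = (if IsO τ then 4 else 3) ∧
    classInner (fT Ω r τ) (D.th1' Ω) = (if IsO τ then 4 else 3) ∧
    classInner (fT Ω r τ) (D.th2 Ω) = 0 := by
  obtain ⟨s1, s1', s2⟩ := supp_th hD
  rw [inner_f_supp hD hr s1, inner_f_supp hD hr s1', inner_f_supp hD hr s2]
  obtain ⟨t0ne, t0l⟩ := tau0_ne hD
  have hR : classInner (gT Ω r τ) (D.Rh Ω) = (nW hD r τ D.τ0 : ℂ) := by
    rw [Sys.Rh, inner_gR hD hr, if_neg (Ne.symm t0ne)]; ring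
  have hRl : classInner (gT Ω r τ) (D.core.R Ω true (D.lamT true)) = (nW hD r τ (D.lamT true) : ℂ) := by
    rw [inner_gR hD hr, if_neg (Ne.symm (lamT_ne_one hD true))]; ring
  have hR1 : classInner (gT Ω r τ) (D.core.R Ω true 1) = -6 := by
    rw [inner_gR hD hr, nW_one hD hr h, if_pos rfl]; norm_num
  have hne : ∀ ρ : ↥(D.core.T false) →* ℂˣ, classInner (gT Ω r τ) (D.core.R Ω false ρ) = 0 := fun ρ => by
    rw [gT, classInner_sub_left, classInner_add_left, classInner_add_left, classInner_smul_left,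
      classInner_R_ne hD.core (by decide), classInner_R_ne hD.core (by decide),
      classInner_R_ne hD.core (by decide), classInner_R_ne hD.core (by decide)]
    simp
  have hF1 : classInner (gT Ω r τ) D.one - classInner (gT Ω r τ) (D.Sh Ω) = 0 := by
    rw [← classInner_sub_right, ← R_one_false hD, hne]
  have hT1 : classInner (gT Ω r τ) D.one + classInner (gT Ω r τ) (D.Sh Ω) = -6 := by
    rw [← classInner_add_right, ← R_one_true hD, hR1]
  have hFl : classInner (gT Ω r τ) D.lamF - classInner (gT Ω r τ) (D.lamSh Ω) = 0 := by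
    rw [← classInner_sub_right, ← R_lam_false hD, hne]
  have hTl : classInner (gT Ω r τ) D.lamF + classInner (gT Ω r τ) (D.lamSh Ω) = (nW hD r τ (D.lamT true) : ℂ) := by
    rw [← classInner_add_right, ← R_lam_true hD, hRl]
  refine ⟨?_, ?_, ?_⟩
  · rw [Sys.th1, classInner_sub_right, classInner_sub_right, hR]
    by_cases ho : IsO τ
    · obtain ⟨a, b, -⟩ := nW_O hD hr ho
      rw [if_pos ho, a]; rw [b] at hTl; push_cast at hTl ⊢
      linear_combination (-1/2 : ℂ) * hT1 + (-1/2 : ℂ) * hF1 + (-1/2 : ℂ) * hTl + (1/2 : ℂ) * hFl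
    · obtain ⟨o1, -, o3⟩ := tau0_isO hD
      rw [if_neg ho, (nW_notO hD hr ho _ o1).1]; rw [(nW_notO hD hr ho _ o3).1] at hTl
      push_cast at hTl ⊢
      linear_combination (-1/2 : ℂ) * hT1 + (-1/2 : ℂ) * hF1 + (-1/2 : ℂ) * hTl + (1/2 : ℂ) * hFl
  · rw [Sys.th1', classInner_sub_right, classInner_sub_right, hR]
    by_cases ho : IsO τ
    · obtain ⟨a, b, -⟩ := nW_O hD hr ho
      rw [if_pos ho, a]; rw [b] at hTl; push_cast at hTl ⊢
      linear_combination (-1/2 : ℂ) * hT1 + (1/2 : ℂ) * hF1 + (-1/2 : ℂ) * hTl + (-1/2 : ℂ) * hFl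
    · obtain ⟨o1, -, o3⟩ := tau0_isO hD
      rw [if_neg ho, (nW_notO hD hr ho _ o1).1]; rw [(nW_notO hD hr ho _ o3).1] at hTl
      push_cast at hTl ⊢
      linear_combination (-1/2 : ℂ) * hT1 + (1/2 : ℂ) * hF1 + (-1/2 : ℂ) * hTl + (-1/2 : ℂ) * hFl
  · rw [Sys.th2, classInner_sub_right, Sys.Th, hne, hne, sub_zero]

end CfsgLib.BrauerOrder
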