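import Cfsg.Agent.Lib.BrauerOrder.Defs
import Cfsg.Agent.Lib.BrauerOrder.Local
import Mathlib.GroupTheory.SpecificGroups.Cyclic
import Mathlib.RingTheory.RootsOfUnity.Complex
import Mathlib.GroupTheory.SpecificGroups.KleinFour

/-!
# The two-group data at an involution

`TwoData` is the information which `exists_sys` takes from the Sylow `2`-subgroup and the fusion in its
centre: the tori, the linear characters and the subgroup `K2` of index two.
-/

set_option autoImplicit false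

namespace CfsgLib.BrauerOrder

open Cfsg

universe u

section Helpers

variable {A : Type*} [Group A]

open Classical in
/-- The character with kernel a subgroup of index two. -/
noncomputable def signOf (H : Subgroup A) (h : H.index = 2) : A →* ℂˣ where
  toFun a := if a ∈ H then 1 else -1
  map_one' := if_pos H.one_mem
  map_mul' a b := by
    by_cases ha : a ∈ H <;> by_cases hb : b ∈ H <;> simp [Subgroup.mul_mem_iff_of_index_two h, ha, hb]

theorem signOf_mem {H : Subgroup A} (h : H.index = 2) {a : A} (ha : a ∈ H) : signOf H h a = 1 := by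
  classical
  exact if_pos ha

theorem signOf_not_mem {H : Subgroup A} (h : H.index = 2) {a : A} (ha : a ∉ H) : signOf H h a = -1 := by
  classical
  exact if_neg ha

theorem signOf_sq {H : Subgroup A} (h : H.index = 2) (a : A) : signOf H h a * signOf H h a = 1 := by
  by_cases ha : a ∈ H <;> simp [signOf_mem, signOf_not_mem, ha]

theorem neg_one_ne_one : (-1 : ℂˣ) ≠ 1 := fun h => by
  have := congrArg Units.val h
  norm_num at this

theorem signOf_eq_one {H : Subgroup A} (h : H.index = 2) {a : A} : signOf H h a = 1 ↔ a ∈ H := by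
  refine ⟨fun e => ?_, signOf_mem h⟩
  by_contra ha
  exact neg_one_ne_one ((signOf_not_mem h ha).symm.trans e)

/-- A faithful linear character of a finite cyclic group. -/
theorem exists_faithful_char [Finite A] (g : A) (hg : ∀ a : A, a ∈ Subgroup.zpowers g) :
    ∃ θ : A →* ℂˣ, Function.Injective θ := by
  have h0 : orderOf g ≠ 0 := (orderOf_pos g).ne'
  have hp := Complex.isPrimitiveRoot_exp (orderOf g) h0
  obtain ⟨ζ, hζ⟩ := hp.isUnit h0
  have hζp : IsPrimitiveRoot ζ (orderOf g) := IsPrimitiveRoot.coe_units_iff.mp (hζ.symm ▸ hp)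
  refine ⟨monoidHomOfForallMemZpowers hg (g' := ζ) (hζp.eq_orderOf.symm.dvd), ?_⟩
  rw [injective_iff_map_eq_one]
  intro a ha
  obtain ⟨k, rfl⟩ := hg a
  rw [map_zpow, monoidHomOfForallMemZpowers_apply_gen, hζp.zpow_eq_one_iff_dvd] at ha
  exact orderOf_dvd_iff_zpow_eq_one.mp ha

end Helpers

variable {G : Type u} [Group G]

/-- The conjugate of a linear character of a torus. -/
noncomputable def Local.conj {C : Type u} [Group C] (L : Local C) {i : Bool}
    (h : ∀ t ∈ L.T i, L.n i * t * (L.n i)⁻¹ ∈ L.T i) (φ : ↥(L.T i) →* ℂˣ) : ↥(L.T i) →* ℂˣ :=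
  φ.comp
    { toFun := fun t => ⟨L.n i * t * (L.n i)⁻¹, h t t.2⟩
      map_one' := Subtype.ext (by simp)
      map_mul' := fun x y => Subtype.ext (by simp [mul_assoc]) }

/-- The data from the Sylow subgroup of the centraliser. -/
structure TwoData (z : G) where
  L : Local ↥(Subgroup.centralizer ({z} : Set G))
  K2 : Subgroup ↥(Subgroup.centralizer ({z} : Set G))
  zc : ↥(Subgroup.centralizer ({z} : Set G))
  w : ↥(Subgroup.centralizer ({z} : Set G))
  τ0 : ↥(L.T true) →* ℂˣ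
  θ : ↥(L.T false) →* ℂˣ

open Classical in
/-- The properties of the data from the Sylow subgroup. -/
structure TwoData.Spec {z : G} (D : TwoData z) (U : Subgroup G) (S : Sylow 2 G) : Prop where
  loc : D.L.Spec
  sS : (D.L.S : Subgroup ↥(Subgroup.centralizer ({z} : Set G))).map (Subgroup.subtype _) = (S : Subgroup G)
  shape : IsQuasiDihedral ↥(S : Subgroup G) ∧ Nat.card D.L.Z = 2 ∨
    IsWreathed ↥(S : Subgroup G) ∧ 4 ≤ Nat.card D.L.Z
  zcv : (D.zc : G) = z
  zcZ : D.zc ∈ D.L.Z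
  zonly : ∀ u ∈ D.L.Z, u * u = 1 → u = 1 ∨ u = D.zc
  wT : D.w ∈ D.L.T true
  wZ : D.w ∉ D.L.Z
  wsq : D.w * D.w = 1
  nw : D.L.n true * D.w * (D.L.n true)⁻¹ = D.zc * D.w
  invU : ∀ t ∈ D.L.T true, t * t = 1 → t = 1 ∨ t = D.zc ∨ t = D.w ∨ t = D.zc * D.w
  powN : ∀ t ∈ D.L.T false, t ≠ 1 → ∃ i : ℕ, t ^ i = D.zc
  cardU : Nat.card (D.L.T true) = Nat.card D.L.Z ^ 2
  cardC : Subgroup.centralizer (U : Set G) = Subgroup.centralizer ({(D.w : G), z} : Set G)
  aut : (Subgroup.centralizer (((D.L.T true).map (Subgroup.subtype _) : Subgroup G) : Set G)).relIndex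
    (Subgroup.normalizer (((D.L.T true).map (Subgroup.subtype _) : Subgroup G) : Set G)) = 6
  quat : ∀ Q : Subgroup ↥(Subgroup.centralizer ({z} : Set G)), Q ≤ (D.L.S : Subgroup ↥(Subgroup.centralizer ({z} : Set G))) →
    (∀ s ∈ (D.L.S : Subgroup ↥(Subgroup.centralizer ({z} : Set G))), ∀ q ∈ Q, s * q * s⁻¹ ∈ Q) → (∃ a ∈ Q, ∃ b ∈ Q, a * b ≠ b * a) →
    (∀ a ∈ Q, ∀ b ∈ Q, a * a = 1 → b * b = 1 → a ≠ 1 → b ≠ 1 → a = b) →
    Q ⊔ D.L.Z = D.K2 ∧ Nat.card Q * Nat.card D.L.Z = Nat.card (D.L.S : Subgroup ↥(Subgroup.centralizer ({z} : Set G)))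
  k2S : D.K2 ≤ (D.L.S : Subgroup ↥(Subgroup.centralizer ({z} : Set G)))
  k2 : D.K2.relIndex (D.L.S : Subgroup ↥(Subgroup.centralizer ({z} : Set G))) = 2
  xK2 : D.L.x ∉ D.K2
  uK2 : ∃ t ∈ D.L.T true, t ∉ D.K2
  nK2 : ∃ t ∈ D.L.T false, t ∉ D.K2
  tau0ne : D.L.conj (loc.nnorm true) D.τ0 ≠ D.τ0
  tau0sq : ∀ t, D.τ0 t * D.τ0 t = 1
  tau0mul : ∀ t : ↥(D.L.T true), D.τ0 t * D.L.conj (loc.nnorm true) D.τ0 t =
    if (t : ↥(Subgroup.centralizer ({z} : Set G))) ∈ D.K2 then 1 else -1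
  tau0line : ∀ t : ↥(D.L.T true), (∀ i : ℕ, (t : ↥(Subgroup.centralizer ({z} : Set G))) ^ i ≠ D.zc) →
    D.τ0 t = 1 ∨ D.L.conj (loc.nnorm true) D.τ0 t = 1
  thne : D.L.conj (loc.nnorm false) D.θ ≠ D.θ
  thfix : ∀ μ : ↥(D.L.T false) →* ℂˣ, D.L.conj (loc.nnorm false) μ = μ →
    μ ⟨D.zc, loc.zle false zcZ⟩ = 1
  extra : (∀ φ : ↥(D.L.T false) →* ℂˣ, D.L.conj (loc.nnorm false) φ ≠ φ →
      ∃ ψ : ↥(D.L.T false) →* ℂˣ, D.L.conj (loc.nnorm false) ψ ≠ ψ ∧ ψ ≠ D.θ ∧
        ψ ≠ D.L.conj (loc.nnorm false) D.θ ∧ ψ ≠ φ ∧ ψ ≠ D.L.conj (loc.nnorm false) φ) ∨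
    ∃ μ μ' : ↥(D.L.T false) →* ℂˣ, μ ≠ μ' ∧
      D.L.conj (loc.nnorm false) μ = μ ∧ D.L.conj (loc.nnorm false) μ' = μ' ∧
      μ * μ ≠ 1 ∧ μ' * μ' ≠ 1

theorem index_ne_two [Finite G] [IsSimpleGroup G] (hG : ¬ IsMulCommutative G) (H : Subgroup G) :
    H.index ≠ 2 := by
  intro hH
  haveI := Subgroup.normal_of_index_eq_two hH
  rcases (inferInstance : H.Normal).eq_bot_or_eq_top with e | e
  · rw [e, Subgroup.index_bot] at hH
    haveI : Fact (Nat.Prime 2) := ⟨Nat.prime_two⟩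
    haveI := isCyclic_of_prime_card hH
    exact hG IsCyclic.commutative
  · rw [e, Subgroup.index_top] at hH
    norm_num at hH

end CfsgLib.BrauerOrder
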