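import Cfsg.Agent.Lib.BrauerOrder.TwoBasic
import Cfsg.Agent.Lib.QDWreathedNoIndexTwo.Centralizer
import Cfsg.Agent.Lib.QuasiDihedralClasses
import Cfsg.Agent.S1215

/-!
# The two-group data, quasi-dihedral case
-/

set_option autoImplicit false
set_option linter.unusedSectionVars false

namespace CfsgLib.BrauerOrder

open Cfsg

universe u

section Common

variable {G : Type u} [Group G] [Finite G] (S : Sylow 2 G) {z : G}

/-- The centre of the Sylow subgroup is central modulo the odd core. -/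
theorem center_central (hS : IsQuasiDihedral (S : Subgroup G) ∨ IsWreathed (S : Subgroup G))
    (hG : ∀ H : Subgroup G, H.index ≠ 2) (hz : orderOf z = 2) {C : Subgroup G}
    (hC : C = Subgroup.centralizer ({z} : Set G)) (hSC : (S : Subgroup G) ≤ C) (u : (S : Subgroup G))
    (hu : u ∈ Subgroup.center (S : Subgroup G)) (c : C) :
    c * Subgroup.inclusion hSC u * c⁻¹ * (Subgroup.inclusion hSC u)⁻¹ ∈ oddCore C := by
  haveI : Fact (Nat.Prime 2) := ⟨Nat.prime_two⟩
  obtain ⟨R, -, ⟨K, hK1, hK2, hK3, hK4⟩, hwc⟩ :=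
    CfsgLib.QDWNoTwo.centralizer_structure S hS hG z hz C hC
  let S' : Sylow 2 C := S.subtype hSC
  have eS : (S' : Subgroup C) ≃* (S : Subgroup G) := Subgroup.subgroupOfEquivOfLe hSC
  have hR : IsQuasiDihedral (R : Subgroup C) ∨ IsWreathed (R : Subgroup C) :=
    CfsgLib.QDWNoTwo.shape_equiv (eS.symm.trans (S'.equiv R)) hS
  have hsplit := Cfsg.Agent.S1215.result R hR ⟨⟨K, hK1, hK2, hK3, hK4⟩, hwc⟩
  obtain ⟨g, hg⟩ := MulAction.exists_smul_eq C S' R
  have hmem : ∀ s : (S : Subgroup G), g * Subgroup.inclusion hSC s * g⁻¹ ∈ (R : Subgroup C) := fun s => by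
    rw [← hg]
    exact Subgroup.smul_mem_pointwise_smul _ (MulAut.conj g) _ s.2
  set v := g * Subgroup.inclusion hSC u * g⁻¹ with hv
  have hvZ : v ∈ (Subgroup.center (R : Subgroup C)).map (R : Subgroup C).subtype := by
    refine ⟨⟨v, hmem u⟩, Subgroup.mem_center_iff.mpr fun r => Subtype.ext ?_, rfl⟩
    have hr : g⁻¹ * (r : C) * g ∈ (S' : Subgroup C) := by
      have : (r : C) ∈ ((g • S' : Sylow 2 C) : Subgroup C) := hg.symm ▸ r.2
      rw [Sylow.coe_subgroup_smul, Subgroup.mem_pointwise_smul_iff_inv_smul_mem] at this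
      simpa [mul_assoc] using this
    have h1 : g⁻¹ * (r : C) * g * Subgroup.inclusion hSC u = Subgroup.inclusion hSC u * (g⁻¹ * (r : C) * g) := by
      refine Subtype.ext ?_
      exact congrArg (fun s : (S : Subgroup G) => (s : G)) (Subgroup.mem_center_iff.mp hu ⟨_, hr⟩)
    show (r : C) * v = v * (r : C)
    calc (r : C) * v = g * (g⁻¹ * (r : C) * g * Subgroup.inclusion hSC u) * g⁻¹ := by rw [hv]; group
      _ = g * (Subgroup.inclusion hSC u * (g⁻¹ * (r : C) * g)) * g⁻¹ := by rw [h1]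
      _ = v * (r : C) := by rw [hv]; group
  have hvO : ∀ a : C, a * v * a⁻¹ * v⁻¹ ∈ oddCore C := by
    intro a
    obtain ⟨o, ho, c', hc', rfl⟩ := hsplit a
    have h1 : v * c' = c' * v := Subgroup.mem_centralizer_iff.mp hc' v hvZ
    rw [show o * c' * v * (o * c')⁻¹ * v⁻¹ = o * (c' * v * c'⁻¹) * o⁻¹ * v⁻¹ by group, ← h1,
      mul_inv_cancel_right, show o * v * o⁻¹ * v⁻¹ = o * (v * o⁻¹ * v⁻¹) by group]
    exact mul_mem ho (Subgroup.Normal.conj_mem inferInstance _ (inv_mem ho) v)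
  have h2 := (inferInstance : (oddCore C).Normal).conj_mem _ (hvO (g * c * g⁻¹)) g⁻¹
  rw [hv] at h2
  have e : g⁻¹ * (g * c * g⁻¹ * (g * Subgroup.inclusion hSC u * g⁻¹) * (g * c * g⁻¹)⁻¹ *
      (g * Subgroup.inclusion hSC u * g⁻¹)⁻¹) * g⁻¹⁻¹ =
      c * Subgroup.inclusion hSC u * c⁻¹ * (Subgroup.inclusion hSC u)⁻¹ := by group
  rwa [e] at h2

/-- A `2`-element of the centraliser is conjugate into the Sylow subgroup. -/
theorem exh_of (hSC : (S : Subgroup G) ≤ Subgroup.centralizer ({z} : Set G))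
    (P : ↥(Subgroup.centralizer ({z} : Set G)) → Prop)
    (h : ∀ s : (S : Subgroup G), ∃ t, IsConj (Subgroup.inclusion hSC s) t ∧ P t)
    (p : ↥(Subgroup.centralizer ({z} : Set G))) (hp : ∃ k : ℕ, orderOf p = 2 ^ k) :
    ∃ t, IsConj p t ∧ P t := by
  haveI : Fact (Nat.Prime 2) := ⟨Nat.prime_two⟩
  obtain ⟨k, hk⟩ := hp
  obtain ⟨g, hg⟩ := CfsgLib.LocalFusion.exists_conj_mem (S.subtype hSC) (t := p) (a := k) hk
  obtain ⟨t, ht, hPt⟩ := h ⟨((g * p * g⁻¹ : ↥(Subgroup.centralizer ({z} : Set G))) : G), hg⟩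
  exact ⟨t, (isConj_iff.mpr ⟨g, rfl⟩ : IsConj p (g * p * g⁻¹)).trans ht, hPt⟩

theorem card_map_inclusion {A B : Subgroup G} (h : A ≤ B) (H : Subgroup A) :
    Nat.card (H.map (Subgroup.inclusion h)) = Nat.card H :=
  Subgroup.card_map_of_injective (Subgroup.inclusion_injective h)

theorem mem_map_inclusion {A B : Subgroup G} (h : A ≤ B) {H : Subgroup A} {a : A} :
    Subgroup.inclusion h a ∈ H.map (Subgroup.inclusion h) ↔ a ∈ H :=
  Subgroup.mem_map_iff_mem (Subgroup.inclusion_injective h)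

end Common

section QD

open CfsgLib.QD

variable {G : Type u} [Group G] [Finite G]

theorem exists_data_through (S : Sylow 2 G) (hS : IsQuasiDihedral (S : Subgroup G)) (U : Subgroup G)
    (hUS : U ≤ S) (hU : IsKleinFour U) : ∃ (a : ℕ) (d : Data (S : Subgroup G)), d.M = 2 ^ a ∧
      U.subgroupOf (S : Subgroup G) = Subgroup.centralizer ({d.y} : Set (S : Subgroup G)) ∧ d.y ∈ U.subgroupOf (S : Subgroup G) ∧
      d.z ∈ U.subgroupOf (S : Subgroup G) := by
  obtain ⟨n, hn, -, d, hd⟩ := exists_data hS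
  obtain ⟨j, h1, h2, h3⟩ := klein_eq d (klein_subgroupOf S hU hUS)
  refine ⟨n - 3, ⟨d.M, d.x, d.x ^ (2 * j) * d.y, d.hM, d.hx, orderOf_xy_even d j, ?_, d.hcard⟩, hd, h2, h1, h3⟩
  rw [mul_inv_rev, show d.x ^ (2 * j) * d.y * d.x * (d.y⁻¹ * (d.x ^ (2 * j))⁻¹)
      = d.x ^ (2 * j) * (d.y * d.x * d.y⁻¹) * (d.x ^ (2 * j))⁻¹ by simp [mul_assoc], d.hxy, ← zpow_neg,
    ← zpow_add, ← zpow_add]
  congr 1
  ring

/-- The data in the quasi-dihedral case. -/
theorem exists_twoData_qd [IsSimpleGroup G] (hG : ¬ IsMulCommutative G) (S : Sylow 2 G)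
    (hS : IsQuasiDihedral (S : Subgroup G)) (z : G) (hz : orderOf z = 2) (hzS : z ∈ S)
    (hzc : ∀ s ∈ (S : Subgroup G), s * z = z * s) (U : Subgroup G) (hUS : U ≤ S) (hU : IsKleinFour U) :
    ∃ D : TwoData z, D.Spec U S := by
  classical
  haveI : Fact (Nat.Prime 2) := ⟨Nat.prime_two⟩
  have hidx := index_ne_two (G := G) hG
  obtain ⟨a, d, hM, hUeq, hyU, hzU⟩ := exists_data_through S hS U hUS hU
  have hMpos := d.hM
  have hzd : d.z = ⟨z, hzS⟩ :=
    (CfsgLib.QDWNoTwo.center_facts (Or.inl hS)).1 _ (z_central d) _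
      (Subgroup.mem_center_iff.mpr fun s => Subtype.ext (hzc s s.2)) (orderOf_z d)
      ((Subgroup.orderOf_mk z hzS).trans hz)
  have hzG : ((d.z : (S : Subgroup G)) : G) = z := congrArg Subtype.val hzd
  have hSC : (S : Subgroup G) ≤ Subgroup.centralizer ({z} : Set G) := fun s hs =>
    Subgroup.mem_centralizer_singleton_iff.mpr (hzc s hs)
  set ι : (S : Subgroup G) →* ↥(Subgroup.centralizer ({z} : Set G)) := Subgroup.inclusion hSC with hι
  have hι' : Function.Injective ι := Subgroup.inclusion_injective hSC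
  -- the four group
  set U' := U.subgroupOf (S : Subgroup G) with hU'
  have hUel : ∀ t ∈ U', t = 1 ∨ t = d.z ∨ t = d.y ∨ t = d.z * d.y := fun t ht => by
    rw [hUeq] at ht
    have := mem_centralizer_cases d 0 (h := t) (by simpa using ht)
    simpa using this
  have hUc : Nat.card U' = 4 := by
    rw [Nat.card_congr (Subgroup.subgroupOfEquivOfLe hUS).toEquiv]
    exact hU.card_four
  have hXel : ∀ t ∈ d.X, ∃ i : ℤ, t = d.x ^ i := fun t ht => by
    obtain ⟨i, hi⟩ := ht
    exact ⟨i, hi.symm⟩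
  have hZel : ∀ t ∈ Subgroup.zpowers d.z, t = 1 ∨ t = d.z := fun t ht => by
    obtain ⟨k, rfl⟩ := ht
    have h2 : d.z ^ (2 : ℤ) = 1 := by
      rw [zpow_two]; exact CfsgLib.Involutions.mul_self_eq_one_of_orderOf (orderOf_z d)
    obtain ⟨j, rfl | rfl⟩ := Int.even_or_odd' k
    · left; show d.z ^ _ = 1; rw [zpow_mul, h2, one_zpow]
    · right; show d.z ^ _ = d.z; rw [zpow_add, zpow_mul, h2, one_zpow, one_mul, zpow_one]
  have hyz : d.y ∉ Subgroup.zpowers d.z := fun h =>
    y_not_mem d (Subgroup.zpowers_le.mpr (z_mem_X d) h)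
  have hy0 : ∀ k : ℤ, Commute (d.x ^ k) d.y ↔ 4 * (d.M : ℤ) ∣ k := fun k => by
    simpa using commute_xy_iff d (k := k) (i := 0)
  set c := d.x ^ (2 * (d.M : ℤ)) with hc
  have hcc : c * c = d.z := by
    rw [hc, ← zpow_add, z_mem_iff]
    exact ⟨0, by ring⟩
  have hcy : c * d.y * c⁻¹ = d.z * d.y := by
    have := conj_xy d (2 * (d.M : ℤ)) 0
    rw [zpow_zero, one_mul] at this
    rw [hc, this, Data.z, xy_eq_iff]
    exact ⟨(d.M : ℤ), by ring⟩
  have hzx : ∀ s : (S : Subgroup G), s * d.z = d.z * s := fun s => Subgroup.mem_center_iff.mp (z_central d) s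
  have hzz : d.z * d.z = 1 := CfsgLib.Involutions.mul_self_eq_one_of_orderOf (orderOf_z d)
  -- the loci
  let L : Local ↥(Subgroup.centralizer ({z} : Set G)) :=
    { S := S.subtype hSC
      Z := (Subgroup.zpowers d.z).map ι
      T := fun i => bif i then U'.map ι else d.X.map ι
      n := fun i => bif i then ι c else ι d.y
      b := false
      x := ι d.x
      h := 2 * d.M }
  have memS : ∀ {w : ↥(Subgroup.centralizer ({z} : Set G))}, w ∈ (L.S : Subgroup _) → ∃ s, ι s = w :=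
    fun {w} hw => ⟨⟨(w : G), hw⟩, Subtype.ext rfl⟩
  have sMem : ∀ s, ι s ∈ (L.S : Subgroup ↥(Subgroup.centralizer ({z} : Set G))) := fun s => s.2
  have cardS : Nat.card (L.S : Subgroup ↥(Subgroup.centralizer ({z} : Set G))) = 16 * d.M := by
    rw [show (L.S : Subgroup ↥(Subgroup.centralizer ({z} : Set G))) =
      (S : Subgroup G).subgroupOf _ from rfl, Nat.card_congr (Subgroup.subgroupOfEquivOfLe hSC).toEquiv]
    exact d.hcard
  have cardZ : Nat.card L.Z = 2 := by
    rw [show L.Z = (Subgroup.zpowers d.z).map ι from rfl, card_map_inclusion, Nat.card_zpowers, orderOf_z]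
  have hzleU : Subgroup.zpowers d.z ≤ U' := Subgroup.zpowers_le.mpr hzU
  have hzleX : Subgroup.zpowers d.z ≤ d.X := Subgroup.zpowers_le.mpr (z_mem_X d)
  have hz0 : ∀ i : ℤ, d.x ^ i ∈ Subgroup.zpowers d.z ↔ 4 * (d.M : ℤ) ∣ i := fun i => by
    constructor
    · intro h
      rcases hZel _ h with e | e
      · rw [zpow_eq_one_iff] at e
        exact dvd_trans ⟨2, by ring⟩ e
      · rw [z_mem_iff] at e
        have h1 : 4 * (d.M : ℤ) ∣ 4 * (d.M : ℤ) - i := dvd_trans ⟨2, by ring⟩ e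
        simpa using dvd_sub (dvd_refl (4 * (d.M : ℤ))) h1
    · intro h
      rcases zpow_sq_eq_one_cases d h with e | e <;> rw [e]
      · exact one_mem _
      · exact Subgroup.mem_zpowers _
  have outX : ∀ s : (S : Subgroup G), s ∉ d.X → ∃ i : ℤ, s = d.x ^ i * d.y := fun s hs => by
    obtain ⟨i, rfl | rfl⟩ := cases_elem d s
    · exact absurd (zpow_mem_X d i) hs
    · exact ⟨i, rfl⟩
  have hs2 : ∀ i : ℤ, d.x ^ i * d.y * (d.x ^ i * d.y) ∈ Subgroup.zpowers d.z := fun i => by
    rw [xy_mul_self]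
    exact (hz0 _).mpr ⟨i, rfl⟩
  -- fusion of the elements of order four
  obtain ⟨T₄, Q₈, hTk, hTS, hQS, ⟨eQ⟩, -, hzQ⟩ := CfsgLib.QDWNoTwo.qd_local S hS z fun w hw hw2 => by
    have := (CfsgLib.QDWNoTwo.center_facts (Or.inl hS)).1 w hw _ (z_central d) hw2 (orderOf_z d)
    rw [this, hzG]
  obtain ⟨-, hQ6⟩ := CfsgLib.QDWNoTwo.qd_six S hS hidx hTk hTS hQS eQ
  have hU6 := (CfsgLib.QDWNoTwo.qd_six S hS hidx hU hUS hQS eQ).1
  have hfour : IsConj (ι (d.x ^ (1 : ℤ) * d.y)) (ι c) := by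
    obtain ⟨g, hg, hgC, hodd⟩ := exists_odd_q8 hQ6
    obtain ⟨hcQ, i, hiQ⟩ := q8_reps S d eQ hQS
    obtain ⟨h, hh, hfix⟩ := CfsgLib.LocalFusion.q8_conj_fix eQ hg hgC hodd hiQ
      (coe_sq_ne_one S (orderOf_xy_odd d i)) hcQ (coe_sq_ne_one S (orderOf_zpow_quarter d))
    have hgz : g * z * g⁻¹ = z := by
      have hy : g * z * g⁻¹ ∈ Q₈ := (Subgroup.mem_normalizer_iff.mp hg z).mp hzQ
      have h1 : orderOf (eQ ⟨z, hzQ⟩) = 2 := by
        rw [eQ.orderOf_eq]; exact (Subgroup.orderOf_mk z hzQ).trans hz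
      have h2 : orderOf (eQ ⟨_, hy⟩) = 2 := by
        rw [eQ.orderOf_eq, Subgroup.orderOf_mk, CfsgLib.Involutions.orderOf_conj, hz]
      exact congrArg Subtype.val (eQ.injective ((CfsgLib.QuaternionSylow.quaternion_involution h2).trans
        (CfsgLib.QuaternionSylow.quaternion_involution h1).symm))
    have hhz : h * z * h⁻¹ = z := hfix z hgz fun q hq => by rw [hzc q (hQS hq), mul_inv_cancel_right]
    have h1 := isConj_shift d 1 i
    rw [add_comm] at h1
    refine (ι.map_isConj h1).trans (isConj_iff.mpr ⟨⟨h, Subgroup.mem_centralizer_singleton_iff.mpr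
      (mul_inv_eq_iff_eq_mul.mp hhz)⟩, Subtype.ext hh⟩)
  have hL : L.Spec :=
    { zle := fun i => by cases i <;> exact Subgroup.map_mono (by assumption)
      zne := fun i => by
        cases i
        · exact ⟨ι d.x, ⟨d.x, Subgroup.mem_zpowers _, rfl⟩, fun h => by
            have h1 := (hz0 1).mp (by simpa using (mem_map_inclusion hSC).mp h)
            have := Int.le_of_dvd one_pos h1
            omega⟩
        · exact ⟨ι d.y, ⟨d.y, hyU, rfl⟩, fun h => hyz ((mem_map_inclusion hSC).mp h)⟩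
      tle := fun i => by cases i <;> rintro _ ⟨s, -, rfl⟩ <;> exact sMem s
      tcomm := fun i => by
        cases i <;> rintro _ ⟨p, hp, rfl⟩ _ ⟨q, hq, rfl⟩ <;> rw [← map_mul, ← map_mul] <;> congr 1
        · obtain ⟨k, rfl⟩ := hXel p hp
          obtain ⟨l, rfl⟩ := hXel q hq
          exact ((Commute.refl d.x).zpow_zpow k l).eq
        · exact klein_comm (klein_subgroupOf S hU hUS) hp hq
      zS := by
        rintro _ ⟨u, hu, rfl⟩ w hw
        obtain ⟨s, rfl⟩ := memS hw
        rw [← map_mul, ← map_mul]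
        congr 1
        rcases hZel u hu with rfl | rfl
        · rw [mul_one, one_mul]
        · exact hzx s
      zcent := by
        rintro _ ⟨u, hu, rfl⟩ w
        exact center_central S (Or.inl hS) hidx hz rfl hSC u (center_eq_zpowers d ▸ hu) w
      zuniq := by
        rintro _ ⟨u, hu, rfl⟩ _ ⟨v, hv, rfl⟩ - - hu1 hv1
        rcases hZel u hu with rfl | rfl
        · exact absurd (map_one ι) hu1
        rcases hZel v hv with rfl | rfl
        · exact absurd (map_one ι) hv1
        rfl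
      nmem := fun i => by cases i <;> exact sMem _
      nnorm := fun i => by
        cases i <;> rintro _ ⟨t, ht, rfl⟩
        · refine ⟨d.y * t * d.y⁻¹, (normal_X d).conj_mem t ht d.y, ?_⟩
          show ι _ = ι d.y * ι t * (ι d.y)⁻¹
          rw [← map_inv, ← map_mul, ← map_mul]
        · refine ⟨c * t * c⁻¹, ?_, ?_⟩
          · show c * t * c⁻¹ ∈ U'
            rcases hUel t ht with rfl | rfl | rfl | rfl
            · simp
            · rw [hzx c, mul_inv_cancel_right]; exact hzU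
            · rw [hcy]; exact mul_mem hzU hyU
            · rw [← conj_mul, hcy, hzx c, mul_inv_cancel_right]; exact mul_mem hzU (mul_mem hzU hyU)
          show ι _ = ι c * ι t * (ι c)⁻¹
          rw [← map_inv, ← map_mul, ← map_mul]
      nsq := fun i => by
        cases i
        · exact ⟨1, one_mem _, by show ι 1 = ι d.y * ι d.y; rw [← map_mul, hyy]⟩
        · exact ⟨d.z, hzU, by show ι d.z = ι c * ι c; rw [← map_mul, hcc]⟩
      nfix := fun i => by
        cases i <;> rintro _ ⟨t, ht, rfl⟩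
        · obtain ⟨k, rfl⟩ := hXel t ht
          show ι d.y * ι _ * (ι d.y)⁻¹ = _ ↔ _
          rw [← map_inv, ← map_mul, ← map_mul, hι'.eq_iff, mem_map_inclusion hSC, hz0, ← hy0,
            mul_inv_eq_iff_eq_mul]
          exact ⟨fun h => h.symm, fun h => h.eq.symm⟩
        · show ι c * ι t * (ι c)⁻¹ = _ ↔ _
          rw [← map_inv, ← map_mul, ← map_mul, hι'.eq_iff, mem_map_inclusion hSC]
          rcases hUel t ht with rfl | rfl | rfl | rfl
          · simp
          · simp [hzx c]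
          · rw [hcy]
            exact ⟨fun h => absurd (mul_eq_right.mp h) (z_ne_one d), fun h => absurd h hyz⟩
          · refine ⟨fun h => absurd ?_ (z_ne_one d), fun h => absurd ((Subgroup.mul_mem_cancel_left _
              (Subgroup.mem_zpowers _)).mp h) hyz⟩
            rw [← conj_mul, hcy, hzx c, mul_inv_cancel_right] at h
            exact mul_eq_right.mp (mul_left_cancel h)
      hpow := ⟨a, by show 2 * d.M = _; rw [hM, pow_succ, mul_comm]⟩
      xmem := ⟨d.x, Subgroup.mem_zpowers _, rfl⟩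
      xpow := by
        show (ι d.x) ^ (2 * (2 * d.M)) ∈ (Subgroup.zpowers d.z).map ι
        rw [← map_pow, mem_map_inclusion, ← zpow_natCast, hz0]
        exact ⟨1, by push_cast; ring⟩
      xlow := fun i hi hlt h => by
        rw [show L.x ^ i = ι (d.x ^ i) from (map_pow ι _ _).symm, mem_map_inclusion, ← zpow_natCast, hz0] at h
        have := Int.le_of_dvd (by exact_mod_cast hi) h
        change i < 2 * (2 * d.M) at hlt
        omega
      card := by rw [cardS, cardZ]; show _ = 4 * (2 * d.M) * 2; ring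
      cardb := by
        rw [cardZ, show L.T L.b = d.X.map ι from rfl, card_map_inclusion, card_X]
        show _ = 2 * (2 * d.M) * 2
        ring
      cardnb := by rw [cardZ, show L.T (!L.b) = U'.map ι from rfl, card_map_inclusion, hUc]
      gen := by
        rintro _ ⟨t, ht, rfl⟩
        obtain ⟨i, hi⟩ := mem_powers_iff_mem_zpowers.mpr ht
        refine ⟨i, ?_⟩
        rw [show L.x ^ i = ι t from by rw [← hi]; exact (map_pow ι _ _).symm, inv_mul_cancel]
        exact one_mem _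
      inv := by
        intro w hw hwT
        obtain ⟨s, rfl⟩ := memS hw
        obtain ⟨i, rfl⟩ := outX s fun h => hwT ⟨s, h, rfl⟩
        refine ⟨⟨d.z, Subgroup.mem_zpowers _, ?_⟩, ⟨_, hs2 i, map_mul ι _ _⟩⟩
        show ι d.z = ι _ * ι d.x * (ι _)⁻¹ * ι d.x
        rw [← map_inv, ← map_mul, ← map_mul, ← map_mul]
        congr 1
        calc d.z = d.x ^ i * (d.x ^ (4 * (d.M : ℤ) - 1) * (d.x ^ i)⁻¹ * d.x) := by
              rw [Data.z]; group
          _ = _ := by rw [← d.hxy]; simp [mul_assoc]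
      move := by
        intro w hw hwT t ht hc
        obtain ⟨s, rfl⟩ := memS hw
        obtain ⟨i, rfl⟩ := outX s fun h => hwT ⟨s, h, rfl⟩
        obtain ⟨t, ht, rfl⟩ := ht
        obtain ⟨k, rfl⟩ := hXel t ht
        rw [← map_mul, ← map_mul, hι'.eq_iff] at hc
        exact (mem_map_inclusion hSC).mpr ((hz0 k).mpr ((commute_xy_iff d).mp hc.symm))
      sqne := by
        rintro _ ⟨t, ht, rfl⟩ htZ _ ⟨t', ht', rfl⟩ ht'Z h
        obtain ⟨k, rfl⟩ := hXel t ht
        rw [← map_mul, ← map_mul, hι'.eq_iff, klein_mul_self (klein_subgroupOf S hU hUS) ht', ← zpow_add,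
          zpow_eq_one_iff] at h
        refine htZ ((mem_map_inclusion hSC).mpr ((hz0 k).mpr ?_))
        obtain ⟨m, hm⟩ := h
        exact ⟨m, by linarith⟩
      exh := exh_of S hSC _ fun s => by
        obtain ⟨i, rfl | rfl⟩ := cases_elem d s
        · exact ⟨_, IsConj.refl _, Or.inr (Or.inl ⟨_, zpow_mem_X d i, rfl⟩)⟩
        · obtain ⟨j, rfl | rfl⟩ := Int.even_or_odd' i
          · refine ⟨ι d.y, ι.map_isConj ?_, Or.inr (Or.inr ⟨_, hyU, rfl⟩)⟩
            have := (isConj_shift d 0 j).symm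
            simpa using this
          · refine ⟨ι c, (ι.map_isConj ?_).trans hfour, Or.inr (Or.inl ⟨_, zpow_mem_X d _, rfl⟩)⟩
            have := (isConj_shift d 1 j).symm
            rwa [add_comm] at this }
  have hzQ' : d.z ∈ d.Q := by
    rw [Data.z, show 4 * (d.M : ℤ) = 2 * (2 * (d.M : ℤ)) by ring]
    exact zpow_even_mem_Q d _
  have hxQ : d.x ∉ d.Q := fun h => y_not_mem_Q d (by
    have h2 := mul_mem (inv_mem h) (xy_odd_mem_Q d 0)
    simpa using h2)
  have hyne : d.y ≠ 1 := fun h => hyz (h ▸ one_mem _)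
  have hyd : d.y ≠ d.z := fun h => hyz (h ▸ Subgroup.mem_zpowers _)
  -- the characters
  let H0 : Subgroup ↥(L.T true) := (Subgroup.zpowers (ι d.y)).subgroupOf (L.T true)
  have hH0 : H0.index = 2 := by
    have h := H0.card_mul_index
    rw [show Nat.card (L.T true) = 4 from (card_map_inclusion hSC U').trans hUc,
      Nat.card_congr (Subgroup.subgroupOfEquivOfLe (Subgroup.zpowers_le.mpr
        (show ι d.y ∈ L.T true from ⟨d.y, hyU, rfl⟩))).toEquiv, Nat.card_zpowers,
      orderOf_injective ι hι', d.hy] at h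
    omega
  let τ := signOf H0 hH0
  have hyel : ∀ t : ↥(L.T true), t ∈ H0 ↔ (t : ↥(Subgroup.centralizer ({z} : Set G))) = ι 1 ∨
      (t : ↥(Subgroup.centralizer ({z} : Set G))) = ι d.y := by
    intro t
    rw [Subgroup.mem_subgroupOf]
    constructor
    · rintro ⟨k, hk⟩
      rw [← hk]
      have h2 : d.y ^ (2 : ℤ) = 1 := by rw [zpow_two]; exact hyy d
      obtain ⟨j, rfl | rfl⟩ := Int.even_or_odd' k
      · left; show (ι d.y) ^ _ = _; rw [← map_zpow, zpow_mul, h2, one_zpow]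
      · right; show (ι d.y) ^ _ = _; rw [← map_zpow, zpow_add, zpow_mul, h2, one_zpow, one_mul, zpow_one]
    · rintro (h | h) <;> rw [h]
      · rw [map_one]; exact one_mem _
      · exact Subgroup.mem_zpowers _
  have hτ1 : ∀ t : ↥(L.T true), (t : ↥(Subgroup.centralizer ({z} : Set G))) = ι 1 ∨
      (t : ↥(Subgroup.centralizer ({z} : Set G))) = ι d.y → τ t = 1 :=
    fun t h => signOf_mem hH0 ((hyel t).mpr h)
  have hτ2 : ∀ t : ↥(L.T true), (t : ↥(Subgroup.centralizer ({z} : Set G))) = ι d.z ∨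
      (t : ↥(Subgroup.centralizer ({z} : Set G))) = ι (d.z * d.y) → τ t = -1 := by
    intro t h
    refine signOf_not_mem hH0 fun h' => ?_
    rcases h with h | h <;> rcases (hyel t).mp h' with e | e <;> rw [h, hι'.eq_iff] at e
    · exact z_ne_one d e
    · exact hyd e.symm
    · exact hyd (by
        calc d.y = d.z * d.z * d.y := by rw [hzz, one_mul]
          _ = d.z := by rw [mul_assoc, e, mul_one])
    · exact z_ne_one d (mul_eq_right.mp e)
  have memF : ι d.x ∈ L.T false := ⟨d.x, Subgroup.mem_zpowers _, rfl⟩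
  let g : ↥(L.T false) := ⟨ι d.x, memF⟩
  have hgen : ∀ t : ↥(L.T false), t ∈ Subgroup.zpowers g := by
    rintro ⟨_, t, ht, rfl⟩
    obtain ⟨k, rfl⟩ := hXel t ht
    exact ⟨k, Subtype.ext (map_zpow ι d.x k).symm⟩
  obtain ⟨θ, hθ⟩ := exists_faithful_char g hgen
  have hgo : orderOf g = 8 * d.M := by rw [Subgroup.orderOf_mk, orderOf_injective ι hι', d.hx]
  have hθg : ∀ k l : ℤ, θ g ^ k = θ g ^ l ↔ 8 * (d.M : ℤ) ∣ l - k := fun k l => by
    rw [← map_zpow, ← map_zpow, hθ.eq_iff, zpow_eq_zpow_iff_modEq, hgo, Int.modEq_iff_dvd]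
    push_cast
    rfl
  have hconjg : ∀ φ : ↥(L.T false) →* ℂˣ,
      L.conj (hL.nnorm false) φ g = φ g ^ (4 * (d.M : ℤ) - 1) := fun φ => by
    rw [← map_zpow]
    show φ _ = _
    refine congrArg φ (Subtype.ext ?_)
    rw [SubgroupClass.coe_zpow]
    show ι d.y * ι d.x * (ι d.y)⁻¹ = (ι d.x) ^ _
    rw [← map_inv, ← map_mul, ← map_mul, ← map_zpow, d.hxy]
  have hext : ∀ φ ψ : ↥(L.T false) →* ℂˣ, φ g = ψ g → φ = ψ := fun φ ψ h =>
    (MonoidHom.eq_iff_eq_on_generator hgen φ ψ).mpr h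
  have hinvol : ∀ φ : ↥(L.T false) →* ℂˣ,
      L.conj (hL.nnorm false) (L.conj (hL.nnorm false) φ) = φ := fun φ => hext _ _ (by
    rw [hconjg, hconjg, ← zpow_mul, ← map_zpow]
    congr 1
    rw [← mul_inv_eq_one, ← zpow_neg_one, ← zpow_add, ← orderOf_dvd_iff_zpow_eq_one, hgo]
    exact ⟨2 * d.M - 1, by push_cast; ring⟩)
  have hzc' : d.z = d.x ^ (4 * (d.M : ℤ)) := rfl
  refine ⟨{ L := L, K2 := d.Q.map ι, zc := ι d.z, w := ι d.y, τ0 := τ, θ := θ }, ?_⟩
  refine
    { loc := hL
      sS := Subgroup.map_subgroupOf_eq_of_le hSC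
      shape := Or.inl ⟨hS, cardZ⟩
      zcv := hzG
      zcZ := ⟨d.z, Subgroup.mem_zpowers _, rfl⟩
      zonly := by
        rintro _ ⟨u, hu, rfl⟩ -
        rcases hZel u hu with rfl | rfl
        · exact Or.inl (map_one ι)
        · exact Or.inr rfl
      wT := ⟨d.y, hyU, rfl⟩
      wZ := fun h => hyz ((mem_map_inclusion hSC).mp h)
      wsq := by show ι d.y * ι d.y = 1; rw [← map_mul, hyy, map_one]
      nw := by
        show ι c * ι d.y * (ι c)⁻¹ = ι d.z * ι d.y
        rw [← map_inv, ← map_mul, ← map_mul, ← map_mul, hcy]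
      invU := by
        rintro _ ⟨t, ht, rfl⟩ -
        rcases hUel t ht with rfl | rfl | rfl | rfl
        · exact Or.inl (map_one ι)
        · exact Or.inr (Or.inl rfl)
        · exact Or.inr (Or.inr (Or.inl rfl))
        · exact Or.inr (Or.inr (Or.inr (map_mul ι _ _)))
      powN := by
        rintro _ ⟨t, ht, rfl⟩ ht1
        obtain ⟨m, hm⟩ := IsPGroup.iff_orderOf.mp S.2 t
        have h1 : t ≠ 1 := fun e => ht1 (e ▸ map_one ι)
        have hm0 : m ≠ 0 := fun e => h1 (orderOf_eq_one_iff.mp (by rw [hm, e, pow_zero]))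
        refine ⟨2 ^ (m - 1), ?_⟩
        show (ι t) ^ _ = ι d.z
        rw [← map_pow]
        refine congrArg ι ?_
        have ho : orderOf (t ^ 2 ^ (m - 1)) = 2 := by
          rw [orderOf_pow_of_dvd (by positivity) (hm ▸ Nat.pow_dvd_pow 2 (by omega)), hm,
            Nat.pow_div (by omega) two_pos, show m - (m - 1) = 1 by omega, pow_one]
        rcases involution_cases d ho with e | ⟨j, e⟩
        · exact e
        · exact absurd (e ▸ pow_mem ht _) (xy_not_mem d _)
      cardU := by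
        rw [cardZ]
        exact (card_map_inclusion hSC U').trans hUc
      cardC := by
        refine le_antisymm (fun v hv => Subgroup.mem_centralizer_iff.mpr ?_) fun v hv => Subgroup.mem_centralizer_iff.mpr ?_
        · rintro _ (rfl | rfl)
          · exact Subgroup.mem_centralizer_iff.mp hv _ hyU
          · exact Subgroup.mem_centralizer_iff.mp hv _ (hzG ▸ hzU)
        · intro t ht
          have h1 : ((d.y : (S : Subgroup G)) : G) * v = v * ((d.y : (S : Subgroup G)) : G) :=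
            Subgroup.mem_centralizer_iff.mp hv _ (Or.inl rfl)
          have h2 : ((d.z : (S : Subgroup G)) : G) * v = v * ((d.z : (S : Subgroup G)) : G) :=
            hzG ▸ Subgroup.mem_centralizer_iff.mp hv _ (Or.inr rfl)
          rcases hUel ⟨t, hUS ht⟩ ht with e | e | e | e <;> rw [show t = _ from congrArg Subtype.val e]
          · simp
          · exact h2
          · exact h1
          · rw [Subgroup.coe_mul, mul_assoc, h1, ← mul_assoc, h2, mul_assoc]
      aut := by
        show (Subgroup.centralizer (((U'.map ι).map (Subgroup.subtype _) : Subgroup G) : Set G)).relIndex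
          (Subgroup.normalizer (((U'.map ι).map (Subgroup.subtype _) : Subgroup G) : Set G)) = 6
        rw [show ((U'.map ι).map (Subgroup.subtype _) : Subgroup G) = U by
          rw [Subgroup.map_map, show (Subgroup.subtype _).comp ι = (S : Subgroup G).subtype from rfl,
            Subgroup.map_subgroupOf_eq_of_le hUS]]
        exact hU6
      quat := by
        intro Q hQS' hn hnc huniq
        set Q₀ := Q.comap ι with hQ₀
        have hQ : Q₀.map ι = Q := by
          rw [hQ₀, Subgroup.map_comap_eq_self]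
          intro q hq
          obtain ⟨s, rfl⟩ := memS (hQS' hq)
          exact ⟨s, rfl⟩
        haveI : Q₀.Normal := ⟨fun q hq s => by
          show ι (s * q * s⁻¹) ∈ Q
          rw [map_mul, map_mul, map_inv]
          exact hn _ (sMem s) _ hq⟩
        have hnotD : ¬ (d.y ∈ Q₀ ∧ d.z ∈ Q₀) := fun ⟨h1, h2⟩ => hyd (hι' (huniq _ h1 _ h2
          (by rw [← map_mul, hyy, map_one]) (by rw [← map_mul, hzz, map_one])
          (fun e => hyne (hι' (e.trans (map_one ι).symm))) fun e => z_ne_one d (hι' (e.trans (map_one ι).symm))))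
        have hQQ : Q₀ = d.Q := by
          obtain ⟨q, hq, hqX⟩ : ∃ q ∈ Q₀, q ∉ d.X := by
            by_contra hcon
            push Not at hcon
            obtain ⟨p, hp, q, hq, hpq⟩ := hnc
            rw [← hQ] at hp hq
            obtain ⟨p, hp, rfl⟩ := hp
            obtain ⟨q, hq, rfl⟩ := hq
            obtain ⟨k, rfl⟩ := hXel p (hcon p hp)
            obtain ⟨l, rfl⟩ := hXel q (hcon q hq)
            exact hpq (by rw [← map_mul, ← map_mul, ((Commute.refl d.x).zpow_zpow k l).eq])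
          obtain ⟨i, rfl⟩ := outX q hqX
          obtain ⟨j, rfl | rfl⟩ := Int.even_or_odd' i
          · exfalso
            have hD := D_le_of_normal d hq
            refine hnotD ⟨hD (by simpa using xy_even_mem_D d 0), hD ?_⟩
            rw [Data.z, show 4 * (d.M : ℤ) = 2 * (2 * (d.M : ℤ)) by ring]
            exact zpow_even_mem_D d _
          · have hle := Q_le_of_normal d hq
            refine le_antisymm (fun p hp => ?_) hle
            by_contra hpQ
            refine hnotD ⟨?_, hle hzQ'⟩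
            have h2 : p * d.y ∈ d.Q := (Subgroup.mul_mem_iff_of_index_two (index_of_card d (card_Q d))).mpr
              ⟨fun h => absurd h hpQ, fun h => absurd h (y_not_mem_Q d)⟩
            simpa using mul_mem (inv_mem hp) (hle h2)
        rw [← hQ, hQQ]
        refine ⟨sup_eq_left.mpr (Subgroup.map_mono (Subgroup.zpowers_le.mpr hzQ')), ?_⟩
        rw [card_map_inclusion, card_Q, cardZ, cardS]
        ring
      k2S := by
        rintro _ ⟨s, -, rfl⟩
        exact sMem s
      k2 := by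
        have h := ((d.Q.map ι).subgroupOf (L.S : Subgroup ↥(Subgroup.centralizer ({z} : Set G)))).card_mul_index
        rw [Nat.card_congr (Subgroup.subgroupOfEquivOfLe (show d.Q.map ι ≤ (L.S : Subgroup ↥(Subgroup.centralizer ({z} : Set G))) by
          rintro _ ⟨s, -, rfl⟩; exact sMem s)).toEquiv,
          card_map_inclusion, card_Q, cardS, show 16 * d.M = 8 * d.M * 2 by ring] at h
        exact Nat.eq_of_mul_eq_mul_left (by omega) h
      xK2 := fun h => hxQ ((mem_map_inclusion hSC).mp h)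
      uK2 := ⟨ι d.y, ⟨d.y, hyU, rfl⟩, fun h => y_not_mem_Q d ((mem_map_inclusion hSC).mp h)⟩
      nK2 := ⟨ι d.x, memF, fun h => hxQ ((mem_map_inclusion hSC).mp h)⟩
      tau0ne := ?_
      tau0sq := signOf_sq hH0
      tau0mul := ?_
      tau0line := ?_
      thne := ?_
      thfix := ?_
      extra := Or.inl ?_ }
  all_goals
    have hcz : ι c * ι d.z * (ι c)⁻¹ = ι d.z := by
      rw [← map_inv, ← map_mul, ← map_mul, hzx c, mul_inv_cancel_right]
    have hcy' : ι c * ι d.y * (ι c)⁻¹ = ι (d.z * d.y) := by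
      rw [← map_inv, ← map_mul, ← map_mul, hcy]
    have hczy : ι c * ι (d.z * d.y) * (ι c)⁻¹ = ι d.y := by
      rw [map_mul, ← conj_mul, hcz, hcy', ← map_mul, ← mul_assoc, hzz, one_mul]
  · intro h
    have h1 : L.conj (hL.nnorm true) τ ⟨ι d.y, ⟨d.y, hyU, rfl⟩⟩ = -1 := hτ2 _ (Or.inr hcy')
    rw [show L.conj (hL.nnorm true) τ = τ from h, hτ1 _ (Or.inr rfl)] at h1
    exact neg_one_ne_one h1.symm
  · rintro ⟨_, t, ht, rfl⟩
    show τ _ * τ _ = _
    rcases hUel t ht with rfl | rfl | rfl | rfl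
    · rw [hτ1 _ (Or.inl rfl), hτ1 _ (Or.inl (show ι c * ι 1 * (ι c)⁻¹ = ι 1 by simp)), mul_one,
        if_pos ((mem_map_inclusion hSC).mpr d.Q.one_mem)]
    · rw [hτ2 _ (Or.inl rfl), hτ2 _ (Or.inl hcz), if_pos ((mem_map_inclusion hSC).mpr hzQ')]
      simp
    · rw [hτ1 _ (Or.inr rfl), hτ2 _ (Or.inr hcy'), one_mul,
        if_neg fun h => y_not_mem_Q d ((mem_map_inclusion hSC).mp h)]
    · rw [hτ2 _ (Or.inr rfl), hτ1 _ (Or.inr hczy), mul_one,
        if_neg fun h => y_not_mem_Q d ((Subgroup.mul_mem_cancel_left _ hzQ').mp ((mem_map_inclusion hSC).mp h))]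
  · rintro ⟨_, t, ht, rfl⟩ hp
    rcases hUel t ht with rfl | rfl | rfl | rfl
    · exact Or.inl (hτ1 _ (Or.inl rfl))
    · exact absurd (pow_one _) (hp 1)
    · exact Or.inl (hτ1 _ (Or.inr rfl))
    · exact Or.inr (hτ1 _ (Or.inr hczy))
  · intro h
    have h1 := hconjg θ
    rw [show L.conj (hL.nnorm false) θ = θ from h] at h1
    obtain ⟨k, hk⟩ := (hθg 1 (4 * (d.M : ℤ) - 1)).mp (by rwa [zpow_one])
    have h3 := Int.le_of_dvd (by omega) (⟨k, hk⟩ : 8 * (d.M : ℤ) ∣ 4 * (d.M : ℤ) - 1 - 1)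
    omega
  · intro μ hμ
    have h1 := hconjg μ
    rw [show L.conj (hL.nnorm false) μ = μ from hμ] at h1
    have h2 : μ g ^ (4 * (d.M : ℤ) - 2) = 1 := by
      rw [show 4 * (d.M : ℤ) - 2 = (4 * (d.M : ℤ) - 1) + -1 by ring, zpow_add, ← h1, zpow_neg_one, mul_inv_cancel]
    have h3 : μ g ^ (8 * (d.M : ℤ)) = 1 := by
      rw [← map_zpow, show (8 * (d.M : ℤ)) = ((8 * d.M : ℕ) : ℤ) by push_cast; rfl, zpow_natCast, ← hgo,
        pow_orderOf_eq_one, map_one]
    rw [show (⟨ι d.z, hL.zle false ⟨d.z, Subgroup.mem_zpowers _, rfl⟩⟩ : ↥(L.T false)) = g ^ (4 * (d.M : ℤ)) from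
      Subtype.ext (by rw [SubgroupClass.coe_zpow]; exact map_zpow ι d.x _), map_zpow,
      show 4 * (d.M : ℤ) = (4 * (d.M : ℤ) - 2) * (2 * d.M) + 8 * (d.M : ℤ) * (1 - d.M) by ring, zpow_add,
      zpow_mul, h2, one_zpow, zpow_mul, h3, one_zpow, mul_one]
  · intro φ hφ
    have hsq : (θ * θ) g = θ g ^ (2 : ℤ) := by rw [MonoidHom.mul_apply, zpow_two]
    have hin : θ⁻¹ g = θ g ^ (-1 : ℤ) := by rw [MonoidHom.inv_apply, zpow_neg_one]
    have key : ∀ k l : ℤ, ¬ 8 * (d.M : ℤ) ∣ l - k → ∀ ψ χ : ↥(L.T false) →* ℂˣ,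
        ψ g = θ g ^ k → χ g = θ g ^ l → ψ ≠ χ := fun k l h ψ χ hk hl e =>
      h ((hθg k l).mp (by rw [← hk, ← hl, e]))
    have hc1 := hconjg θ
    have hc2 : L.conj (hL.nnorm false) (θ * θ) g = θ g ^ (2 * (4 * (d.M : ℤ) - 1)) := by
      rw [hconjg, hsq, ← zpow_mul]
    have hc3 : L.conj (hL.nnorm false) θ⁻¹ g = θ g ^ (-(4 * (d.M : ℤ) - 1)) := by
      rw [hconjg, hin, ← zpow_mul, neg_one_mul]
    have nd : ∀ m r : ℤ, 0 < r → r < 8 * (d.M : ℤ) → m = r → ¬ 8 * (d.M : ℤ) ∣ m := fun m r h0 h1 e h => by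
      subst e
      have := Int.le_of_dvd h0 h
      omega
    have ndn : ∀ m r : ℤ, 0 < r → r < 8 * (d.M : ℤ) → m = -r → ¬ 8 * (d.M : ℤ) ∣ m := fun m r h0 h1 e h => by
      subst e
      exact nd r r h0 h1 rfl (dvd_neg.mp h)
    have hθ1 : θ g = θ g ^ (1 : ℤ) := (zpow_one _).symm
    have hM0 : (0 : ℤ) < d.M := by exact_mod_cast hMpos
    by_cases hA : θ * θ ≠ φ ∧ θ * θ ≠ L.conj (hL.nnorm false) φ
    · refine ⟨θ * θ, ?_, ?_, ?_, hA.1, hA.2⟩
      · exact key _ 2 (ndn _ (8 * (d.M : ℤ) - 4) (by omega) (by omega) (by ring)) _ _ hc2 hsq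
      · exact key 2 1 (ndn _ 1 (by omega) (by omega) (by ring)) _ _ hsq hθ1
      · exact key 2 _ (nd _ (4 * (d.M : ℤ) - 3) (by omega) (by omega) (by ring)) _ _ hsq hc1
    · have n1 : θ⁻¹ ≠ θ * θ := key (-1) 2 (nd _ 3 (by omega) (by omega) (by ring)) _ _ hin hsq
      have n2 : θ⁻¹ ≠ L.conj (hL.nnorm false) (θ * θ) :=
        key (-1) _ (nd _ (8 * (d.M : ℤ) - 1) (by omega) (by omega) (by ring)) _ _ hin hc2
      refine ⟨θ⁻¹, ?_, ?_, ?_, ?_, ?_⟩
      · exact key _ (-1) (nd _ (4 * (d.M : ℤ) - 2) (by omega) (by omega) (by ring)) _ _ hc3 hin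
      · exact key (-1) 1 (nd _ 2 (by omega) (by omega) (by ring)) _ _ hin hθ1
      · exact key (-1) _ (nd _ (4 * (d.M : ℤ)) (by omega) (by omega) (by ring)) _ _ hin hc1
      all_goals
        rcases not_and_or.mp hA with h | h <;> rw [not_not] at h
      · exact h ▸ n1
      · intro e
        exact n2 (by rw [h, hinvol]; exact e)
      · exact h ▸ n2
      · exact h ▸ n1

end QD

end CfsgLib.BrauerOrder
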