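import Cfsg.Agent.Lib.BrauerOrder.TwoQD

/-!
# The two-group data, wreathed case
-/

set_option autoImplicit false
set_option linter.unusedSectionVars false

namespace CfsgLib.BrauerOrder

open Cfsg CfsgLib.Wr

universe u

section Group

variable {S : Type*} [Group S] [Finite S] (d : Data S)

/-- An element of even coordinate sum. -/
def parSub : Subgroup S where
  carrier := {g | ∃ i j : ℤ, 2 ∣ i + j ∧ (g = d.u i j ∨ g = d.v i j)}
  one_mem' := ⟨0, 0, by simp, Or.inl (u_zero d).symm⟩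
  mul_mem' := by
    rintro _ _ ⟨i, j, h1, rfl | rfl⟩ ⟨k, l, h2, rfl | rfl⟩
    · exact ⟨_, _, by omega, Or.inl (u_mul_u d i j k l)⟩
    · exact ⟨_, _, by omega, Or.inr (u_mul_v d i j k l)⟩
    · exact ⟨_, _, by omega, Or.inr (v_mul_u d i j k l)⟩
    · exact ⟨_, _, by omega, Or.inl (v_mul_v d i j k l)⟩
  inv_mem' := by
    rintro _ ⟨i, j, h1, rfl | rfl⟩
    · exact ⟨_, _, by omega, Or.inl (u_inv d i j)⟩
    · refine ⟨-j, -i, by omega, Or.inr (inv_eq_of_mul_eq_one_right ?_)⟩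
      rw [v_mul_v, add_neg_cancel, add_neg_cancel, u_zero]

theorem u_mem_parSub {i j : ℤ} : d.u i j ∈ parSub d ↔ 2 ∣ i + j := by
  refine ⟨fun h => ?_, fun h => ⟨i, j, h, Or.inl rfl⟩⟩
  obtain ⟨k, l, h1, h2 | h2⟩ := h
  · obtain ⟨⟨p, hp⟩, q, hq⟩ := (u_eq_iff d).mp h2
    obtain ⟨r, hr⟩ := h1
    exact ⟨r - (d.h : ℤ) * p - (d.h : ℤ) * q, by linear_combination hr - hp - hq⟩
  · exact absurd h2 (u_ne_v d _ _ _ _)

theorem v_mem_parSub {i j : ℤ} : d.v i j ∈ parSub d ↔ 2 ∣ i + j := by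
  refine ⟨fun h => ?_, fun h => ⟨i, j, h, Or.inr rfl⟩⟩
  obtain ⟨k, l, h1, h2 | h2⟩ := h
  · exact absurd h2.symm (u_ne_v d _ _ _ _)
  · obtain ⟨⟨p, hp⟩, q, hq⟩ := (v_eq_iff d).mp h2
    obtain ⟨r, hr⟩ := h1
    exact ⟨r - (d.h : ℤ) * p - (d.h : ℤ) * q, by linear_combination hr - hp - hq⟩

theorem index_parSub : (parSub d).index = 2 := by
  rw [Subgroup.index_eq_two_iff]
  refine ⟨d.u 1 0, fun b => ?_⟩
  obtain ⟨i, j, rfl | rfl⟩ := cases_elem d b
  · rw [u_mul_u, u_mem_parSub, u_mem_parSub]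
    rcases Int.even_or_odd' (i + j) with ⟨r, hr | hr⟩
    · exact Or.inr ⟨⟨r, hr⟩, by omega⟩
    · exact Or.inl ⟨⟨r + 1, by omega⟩, by omega⟩
  · rw [v_mul_u, v_mem_parSub, v_mem_parSub]
    rcases Int.even_or_odd' (i + j) with ⟨r, hr | hr⟩
    · exact Or.inr ⟨⟨r, hr⟩, by omega⟩
    · exact Or.inl ⟨⟨r + 1, by omega⟩, by omega⟩

theorem R_sup_center (hev : 2 ∣ (d.h : ℤ)) : d.R ⊔ Subgroup.center S = parSub d := by
  refine le_antisymm (sup_le ((Subgroup.closure_le _).mpr ?_) ?_) ?_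
  · rintro _ (rfl | rfl)
    · exact (u_mem_parSub d).mpr (by norm_num)
    · exact (v_mem_parSub d).mpr (by simpa using hev)
  · rw [center_eq d, Subgroup.zpowers_le]
    exact (u_mem_parSub d).mpr (by norm_num)
  · have hu : ∀ i j : ℤ, 2 ∣ i + j → d.u i j ∈ d.R ⊔ Subgroup.center S := by
      rintro i j ⟨r, hr⟩
      rw [show d.u i j = d.u (i - r) (j - r) * d.u r r by rw [u_mul_u]; congr 1 <;> ring]
      refine Subgroup.mul_mem_sup (u_mem_R d ⟨0, by linarith⟩) ?_
      rw [u_central_iff, sub_self]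
      exact dvd_zero _
    rintro _ ⟨i, j, h, rfl | rfl⟩
    · exact hu i j h
    · rw [show d.v i j = d.u (i - d.h) j * d.v d.h 0 by rw [u_mul_v]; congr 1 <;> ring]
      refine mul_mem (hu _ _ ?_) (Subgroup.mem_sup_left (v_mem_R d ⟨0, by ring⟩))
      rw [show i - (d.h : ℤ) + j = i + j - d.h by ring]
      exact dvd_sub h hev

theorem exists_pow_involution (hS : IsPGroup 2 S) {t : S} (ht : t ≠ 1) : ∃ r : ℕ, orderOf (t ^ r) = 2 := by
  haveI : Fact (Nat.Prime 2) := ⟨Nat.prime_two⟩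
  obtain ⟨m, hm⟩ := IsPGroup.iff_orderOf.mp hS t
  have hm0 : m ≠ 0 := fun e => ht (orderOf_eq_one_iff.mp (by rw [hm, e, pow_zero]))
  refine ⟨2 ^ (m - 1), ?_⟩
  rw [orderOf_pow_of_dvd (by positivity) (hm ▸ Nat.pow_dvd_pow 2 (by omega)), hm,
    Nat.pow_div (by omega) two_pos, show m - (m - 1) = 1 by omega, pow_one]

/-- A normal nonabelian subgroup with only one involution is the quaternion subgroup. -/
theorem eq_R_of_unique (hS : IsPGroup 2 S) {Q : Subgroup S} [Q.Normal] (hnc : ∃ a ∈ Q, ∃ b ∈ Q, a * b ≠ b * a)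
    (hu : ∀ a ∈ Q, ∀ b ∈ Q, a * a = 1 → b * b = 1 → a ≠ 1 → b ≠ 1 → a = b) : Q = d.R := by
  have hh := d.h2
  obtain ⟨a, b, hv⟩ : ∃ a b : ℤ, d.v a b ∈ Q := by
    refine v_mem_of_not_le d fun hle => ?_
    obtain ⟨p, hp, q, hq, hpq⟩ := hnc
    exact hpq (U_comm d (hle hp) (hle hq))
  have hg : d.u 1 (-1) ∈ Q := by
    have h1 := mul_mem ((inferInstance : Q.Normal).conj_mem _ hv (d.u 1 0)) (inv_mem hv)
    rwa [conj_v_by_u, show (d.v (a + (1 - 0)) (b - (1 - 0))) * (d.v a b)⁻¹ = d.u 1 (-1) by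
      rw [mul_inv_eq_iff_eq_mul, u_mul_v]; congr 1 <;> ring] at h1
  have hwQ : d.w ∈ Q := by
    have e : d.w = d.u 1 (-1) ^ (d.h : ℤ) := by
      rw [u_zpow, Data.w, u_eq_iff]
      exact ⟨⟨0, by ring⟩, ⟨-1, by ring⟩⟩
    rw [e]
    exact zpow_mem hg _
  have hww : d.w * d.w = 1 := CfsgLib.Involutions.mul_self_eq_one_of_orderOf (orderOf_half_u d).2
  have hw1 : d.w ≠ 1 := fun e => by
    have := (orderOf_half_u d).2
    rw [e, orderOf_one] at this
    omega
  have hinv : ∀ t ∈ Q, t * t = 1 → t ≠ 1 → t = d.w := fun t ht h1 h2 => hu t ht _ hwQ h1 hww h2 hw1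
  have hsum : ∀ i j : ℤ, d.u i j ∈ Q → 2 * (d.h : ℤ) ∣ i + j := by
    intro i j h
    by_contra hnd
    have hs : d.u (i + j) 0 ∈ Q := by
      have h1 := mul_mem h (zpow_mem hg j)
      rwa [u_zpow, u_mul_u, show i + 1 * j = i + j by ring, show j + -1 * j = 0 by ring] at h1
    obtain ⟨r, hr⟩ := exists_pow_involution hS (t := d.u (i + j) 0) fun e =>
      hnd ((u_eq_one_iff d).mp e).1
    obtain ⟨h1, h2⟩ := CfsgLib.Involutions.orderOf_eq_two_iff'.mp hr
    have h3 := hinv _ (pow_mem hs r) h1 h2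
    rw [← zpow_natCast, u_zpow, Data.w, u_eq_iff] at h3
    have := Int.le_of_dvd (by omega) (by simpa using h3.2 : 2 * (d.h : ℤ) ∣ (d.h : ℤ))
    omega
  have hvsum : ∀ i j : ℤ, d.v i j ∈ Q → 2 * (d.h : ℤ) ∣ i + j - d.h := by
    intro i j h
    have h2 := mul_mem h h
    rw [v_mul_v] at h2
    have h3 := hsum _ _ h2
    rw [show i + j + (j + i) = 2 * (i + j) by ring, mul_dvd_mul_iff_left two_ne_zero] at h3
    refine (dvd_half_cases d h3).resolve_left fun h4 => ?_
    exact u_ne_v d _ _ i j (hinv _ h ((v_mul_self_eq_one_iff d).mpr h4) fun e =>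
      u_ne_v d 0 0 i j (by rw [e, u_zero])).symm
  refine le_antisymm (fun t ht => ?_) ((Subgroup.closure_le _).mpr ?_)
  · obtain ⟨i, j, rfl | rfl⟩ := cases_elem d t
    · exact u_mem_R d (hsum i j ht)
    · exact v_mem_R d (hvsum i j ht)
  · rintro _ (rfl | rfl)
    · exact hg
    · have h1 := mul_mem (zpow_mem hg ((d.h : ℤ) - a)) hv
      obtain ⟨p, hp⟩ := hvsum a b hv
      rwa [u_zpow, u_mul_v, show d.v (1 * ((d.h : ℤ) - a) + a) (-1 * ((d.h : ℤ) - a) + b) = d.v d.h 0 by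
        rw [v_eq_iff]
        exact ⟨⟨0, by ring⟩, ⟨-p, by linear_combination -hp⟩⟩] at h1

theorem v10_cases {t : S} (ht : t ∈ Subgroup.zpowers (d.v 1 0)) :
    ∃ c : ℤ, t = d.u c c ∨ t = d.v (c + 1) c := by
  obtain ⟨k, rfl⟩ := ht
  have h2 : d.v 1 0 ^ (2 : ℤ) = d.u 1 1 := by rw [zpow_two, v_mul_v]; congr 1
  obtain ⟨c, rfl | rfl⟩ := Int.even_or_odd' k
  · refine ⟨c, Or.inl ?_⟩
    show d.v 1 0 ^ _ = _
    rw [zpow_mul, h2, u_zpow, one_mul]
  · refine ⟨c, Or.inr ?_⟩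
    show d.v 1 0 ^ _ = _
    rw [zpow_add, zpow_mul, h2, u_zpow, one_mul, zpow_one, u_mul_v, add_zero]

theorem orderOf_v10 : orderOf (d.v 1 0) = 4 * d.h := by
  have h2 : d.v 1 0 ^ (2 : ℤ) = d.u 1 1 := by rw [zpow_two, v_mul_v]; congr 1
  have key : ∀ k : ℤ, d.v 1 0 ^ k = 1 ↔ 4 * (d.h : ℤ) ∣ k := by
    intro k
    obtain ⟨c, rfl | rfl⟩ := Int.even_or_odd' k
    · rw [zpow_mul, h2, u_zpow, u_eq_one_iff, one_mul, and_self_iff, show 4 * (d.h : ℤ) = 2 * (2 * d.h) by ring,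
        mul_dvd_mul_iff_left two_ne_zero]
    · rw [zpow_add, zpow_mul, h2, u_zpow, zpow_one, u_mul_v]
      refine iff_of_false (fun e => u_ne_v d 0 0 _ _ ((u_zero d).trans e.symm)) ?_
      rintro ⟨p, hp⟩
      have : (2 : ℤ) ∣ 2 * c + 1 := ⟨2 * (d.h : ℤ) * p, by rw [hp]; ring⟩
      omega
  refine Nat.dvd_antisymm (orderOf_dvd_iff_pow_eq_one.mpr ?_) ?_
  · rw [← zpow_natCast, key]
    exact ⟨1, by push_cast; ring⟩
  · have := (key (orderOf (d.v 1 0) : ℤ)).mp (by rw [zpow_natCast, pow_orderOf_eq_one])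
    exact_mod_cast this

end Group

/-- The data in the wreathed case. -/
theorem exists_twoData_wreathed {G : Type u} [Group G] [Finite G] [IsSimpleGroup G] (hG : ¬ IsMulCommutative G)
    (S : Sylow 2 G) (hS : IsWreathed (S : Subgroup G)) (z : G) (hz : orderOf z = 2) (hzS : z ∈ S)
    (hzc : ∀ s ∈ (S : Subgroup G), s * z = z * s) (U : Subgroup G) (hUS : U ≤ S) (hU : IsKleinFour U)
    (hUn : ∀ s ∈ (S : Subgroup G), ∀ t ∈ U, s * t * s⁻¹ ∈ U) :
    ∃ D : TwoData z, D.Spec U S := by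
  classical
  haveI : Fact (Nat.Prime 2) := ⟨Nat.prime_two⟩
  have hidx := index_ne_two (G := G) hG
  obtain ⟨n, hn2, hn, A, Q₈, hAS, hAab, hAc, hQS, ⟨eQ⟩⟩ := CfsgLib.QDWNoTwo.wreathed_local S hS
  obtain ⟨h6, -⟩ := CfsgLib.QDWNoTwo.wreathed_six S hS hidx n hn (by omega) A hAS hAab hAc Q₈ hQS eQ
  obtain ⟨-, d, m, a₀, b₀, hm, -, hhn, rfl, hab, hX⟩ := setup S hS hn hAS hAab hAc hQS eQ
  have hA6 : (Subgroup.centralizer (up S d.U : Set G)).relIndex (Subgroup.normalizer (up S d.U : Set G)) = 6 := by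
    obtain ⟨h1 | h1, -⟩ := Cfsg.Agent.S1208.result S hS n hn _ hAS hAab hAc Q₈ hQS eQ
    · obtain ⟨⟨K, hK, hKi, -⟩, -⟩ := Cfsg.Agent.S1210.result S hS n hn _ hAS hAab hAc Q₈ hQS eQ h1 h6
      exact (CfsgLib.QDWNoTwo.no_two_power_index hidx hK (n := n) (by omega) hKi).elim
    · exact h1
  have hh := d.h2
  have hev : 2 ∣ (d.h : ℤ) := ⟨m, by rw [hm]; push_cast; ring⟩
  have hS2 : IsPGroup 2 (S : Subgroup G) := S.2
  have hzd : d.w = ⟨z, hzS⟩ :=
    (CfsgLib.QDWNoTwo.center_facts (Or.inr hS)).1 _ (w_central d) _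
      (Subgroup.mem_center_iff.mpr fun s => Subtype.ext (hzc s s.2)) (orderOf_half_u d).2
      ((Subgroup.orderOf_mk z hzS).trans hz)
  have hzG : ((d.w : (S : Subgroup G)) : G) = z := congrArg Subtype.val hzd
  have hSC : (S : Subgroup G) ≤ Subgroup.centralizer ({z} : Set G) := fun s hs =>
    Subgroup.mem_centralizer_singleton_iff.mpr (hzc s hs)
  set ι : (S : Subgroup G) →* ↥(Subgroup.centralizer ({z} : Set G)) := Subgroup.inclusion hSC with hι
  have hι' : Function.Injective ι := Subgroup.inclusion_injective hSC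
  set Zd := Subgroup.zpowers (d.u 1 1) with hZd
  have hZel : ∀ i j : ℤ, d.u i j ∈ Zd ↔ 2 * (d.h : ℤ) ∣ j - i := fun i j => by
    rw [hZd, ← center_eq, u_central_iff]
  have hdiag : ∀ c : ℤ, d.u c c ∈ Zd := fun c => (hZel c c).mpr (by rw [sub_self]; exact dvd_zero _)
  have hvZ : ∀ i j : ℤ, d.v i j ∉ Zd := fun i j h => v_not_central d i j (center_eq d ▸ h)
  have hw1 : d.w ≠ 1 := fun e => by
    have := (orderOf_half_u d).2
    rw [e, orderOf_one] at this
    omega
  have hhne : ¬ 2 * (d.h : ℤ) ∣ (d.h : ℤ) := fun h => by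
    have := Int.le_of_dvd (by omega) h
    omega
  have hvc : ∀ s : (S : Subgroup G), s ∉ d.U → ∃ i j : ℤ, s = d.v i j := fun s hs => by
    obtain ⟨i, j, rfl | rfl⟩ := cases_elem d s
    · exact absurd (u_mem d i j) hs
    · exact ⟨i, j, rfl⟩
  have hzswap : ∀ i j : ℤ, d.z * d.u i j * d.z⁻¹ = d.u j i := fun i j => by
    rw [z_u, mul_inv_cancel_right]
  have hncj : d.u d.h 0 * d.v 1 0 * (d.u d.h 0)⁻¹ = d.u d.h d.h * d.v 1 0 := by
    rw [conj_v_by_u, u_mul_v, v_eq_iff]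
    exact ⟨⟨0, by ring⟩, ⟨(1 : ℤ), by ring⟩⟩
  -- the loci
  let L : Local ↥(Subgroup.centralizer ({z} : Set G)) :=
    { S := S.subtype hSC
      Z := Zd.map ι
      T := fun i => bif i then d.U.map ι else (Subgroup.zpowers (d.v 1 0)).map ι
      n := fun i => bif i then ι d.z else ι (d.u d.h 0)
      b := true
      x := ι (d.u 1 0)
      h := d.h }
  have memS : ∀ {w : ↥(Subgroup.centralizer ({z} : Set G))}, w ∈ (L.S : Subgroup _) → ∃ s, ι s = w :=
    fun {w} hw => ⟨⟨(w : G), hw⟩, Subtype.ext rfl⟩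
  have sMem : ∀ s, ι s ∈ (L.S : Subgroup ↥(Subgroup.centralizer ({z} : Set G))) := fun s => s.2
  have cardS : Nat.card (L.S : Subgroup ↥(Subgroup.centralizer ({z} : Set G))) = 2 * (2 * d.h) * (2 * d.h) := by
    rw [show (L.S : Subgroup ↥(Subgroup.centralizer ({z} : Set G))) =
      (S : Subgroup G).subgroupOf _ from rfl, Nat.card_congr (Subgroup.subgroupOfEquivOfLe hSC).toEquiv]
    exact d.hcard
  have cardZ : Nat.card L.Z = 2 * d.h := by
    rw [show L.Z = Zd.map ι from rfl, card_map_inclusion, hZd, Nat.card_zpowers, orderOf_u_one]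
  have hZU : Zd ≤ d.U := Subgroup.zpowers_le.mpr (u_mem d 1 1)
  have hZC : Zd ≤ Subgroup.zpowers (d.v 1 0) := Subgroup.zpowers_le.mpr ⟨2, by
    show d.v 1 0 ^ (2 : ℤ) = _
    rw [zpow_two, v_mul_v]; congr 1⟩
  -- fusion of the elements with even coordinate sum
  have hswap : ∀ c : ℤ, IsConj (ι (d.z * d.u c c)) (ι (d.u c (c + d.h))) := by
    intro c
    have hab' : (m : ℤ) + m = d.h := by rw [hm]; push_cast; ring
    rw [hX] at h6
    obtain ⟨g, hg, hgC, hodd, hfix⟩ := exists_rot S d hm hab h6 hab'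
    obtain ⟨e⟩ := Qs_equiv d hm hab'
    have hdiv : ¬ 2 * (d.h : ℤ) ∣ 2 * (m : ℤ) := fun h => hhne (by rwa [← hmZ d hm] at h)
    obtain ⟨h, hh', hfix'⟩ := CfsgLib.LocalFusion.q8_conj_fix ((upEquiv S _).trans e) hg hgC hodd
      ((coe_mem_up S).mpr (v_mem_Qs d m m m))
      (fun h => hdiv (by
        have h' : d.v (m : ℤ) m * d.v (m : ℤ) m = 1 := Subtype.ext h
        rw [v_mul_v, u_eq_one_iff, ← two_mul] at h'
        exact h'.1))
      ((coe_mem_up S).mpr (u_mem_Qs d m m m))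
      (fun h => hdiv (by
        have h' : d.u (m : ℤ) (-m) * d.u (m : ℤ) (-m) = 1 := Subtype.ext h
        rw [u_mul_u, u_eq_one_iff, ← two_mul] at h'
        exact h'.1))
    have hfc : ∀ t : ℤ, h * ((d.u t t : (S : Subgroup G)) : G) * h⁻¹ = ((d.u t t : (S : Subgroup G)) : G) :=
      fun t => hfix' _ (hfix _ ((coe_mem_up S).mpr (diag_central d t))) fun q hq =>
        center_fix S ((coe_mem_up S).mpr (diag_central d t)) (up_le S _ hq)
    have hhz : h * z * h⁻¹ = z := hzG ▸ hfc d.h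
    refine isConj_iff.mpr ⟨⟨h, Subgroup.mem_centralizer_singleton_iff.mpr (mul_inv_eq_iff_eq_mul.mp hhz)⟩,
      Subtype.ext ?_⟩
    show h * ((d.z * d.u c c : (S : Subgroup G)) : G) * h⁻¹ = ((d.u c (c + d.h) : (S : Subgroup G)) : G)
    have e1 : d.z * d.u c c = d.v (m : ℤ) m * d.u (c - m) (c - m) := by
      rw [z_u, v_mul_u, ← v_eq]
      congr 1 <;> ring
    have e2 : d.u c (c + d.h) = d.u (m : ℤ) (-m) * d.u (c - m) (c - m) := by
      rw [u_mul_u, u_eq_iff]
      exact ⟨⟨0, by ring⟩, ⟨-1, by linear_combination hmZ d hm⟩⟩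
    rw [e1, e2, Subgroup.coe_mul, Subgroup.coe_mul, ← conj_mul, hh', hfc]
  have hL : L.Spec :=
    { zle := fun i => by cases i <;> exact Subgroup.map_mono (by assumption)
      zne := fun i => by
        cases i
        · exact ⟨ι (d.v 1 0), ⟨_, Subgroup.mem_zpowers _, rfl⟩, fun h => hvZ 1 0 ((mem_map_inclusion hSC).mp h)⟩
        · refine ⟨ι (d.u 1 0), ⟨_, u_mem d 1 0, rfl⟩, fun h => ?_⟩
          have h1 := (hZel 1 0).mp ((mem_map_inclusion hSC).mp h)
          rw [zero_sub, dvd_neg] at h1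
          have := Int.le_of_dvd one_pos h1
          omega
      tle := fun i => by cases i <;> rintro _ ⟨s, -, rfl⟩ <;> exact sMem s
      tcomm := fun i => by
        cases i <;> rintro _ ⟨p, hp, rfl⟩ _ ⟨q, hq, rfl⟩ <;> rw [← map_mul, ← map_mul] <;> congr 1
        · obtain ⟨k, rfl⟩ := hp
          obtain ⟨l, rfl⟩ := hq
          exact ((Commute.refl (d.v 1 0)).zpow_zpow k l).eq
        · exact U_comm d hp hq
      zS := by
        rintro _ ⟨u, hu, rfl⟩ w hw
        obtain ⟨s, rfl⟩ := memS hw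
        rw [← map_mul, ← map_mul]
        exact congrArg ι (Subgroup.mem_center_iff.mp (center_eq d ▸ hu) s)
      zcent := by
        rintro _ ⟨u, hu, rfl⟩ w
        exact center_central S (Or.inr hS) hidx hz rfl hSC u (center_eq d ▸ hu) w
      zuniq := by
        rintro _ ⟨u, hu, rfl⟩ _ ⟨v, hv, rfl⟩ hu2 hv2 hu1 hv1
        refine congrArg ι ((CfsgLib.QDWNoTwo.center_facts (Or.inr hS)).1 u (center_eq d ▸ hu) v (center_eq d ▸ hv)
          (CfsgLib.Involutions.orderOf_eq_two_iff'.mpr ⟨?_, fun e => hu1 (e ▸ map_one ι)⟩)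
          (CfsgLib.Involutions.orderOf_eq_two_iff'.mpr ⟨?_, fun e => hv1 (e ▸ map_one ι)⟩))
        · exact hι' (by rw [map_mul, map_one]; exact hu2)
        · exact hι' (by rw [map_mul, map_one]; exact hv2)
      nmem := fun i => by cases i <;> exact sMem _
      nnorm := fun i => by
        cases i <;> rintro _ ⟨t, ht, rfl⟩
        · obtain ⟨k, rfl⟩ := ht
          refine ⟨(d.u d.h d.h * d.v 1 0) ^ k, zpow_mem (mul_mem (hZC (hdiag _)) (Subgroup.mem_zpowers _)) k, ?_⟩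
          show ι _ = ι (d.u d.h 0) * ι (d.v 1 0 ^ k) * (ι (d.u d.h 0))⁻¹
          rw [← map_inv, ← map_mul, ← map_mul, ← conj_zpow, hncj]
        · obtain ⟨i, j, rfl⟩ := ht
          refine ⟨d.u j i, u_mem d j i, ?_⟩
          show ι _ = ι d.z * ι (d.u i j) * (ι d.z)⁻¹
          rw [← map_inv, ← map_mul, ← map_mul, hzswap]
      nsq := fun i => by
        cases i
        · exact ⟨1, one_mem _, by
            show ι 1 = ι (d.u d.h 0) * ι (d.u d.h 0)
            rw [← map_mul, CfsgLib.Involutions.mul_self_eq_one_of_orderOf (orderOf_half_u d).1]⟩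
        · exact ⟨1, one_mem _, by show ι 1 = ι d.z * ι d.z; rw [← map_mul, hzz]⟩
      nfix := fun i => by
        cases i <;> rintro _ ⟨t, ht, rfl⟩
        · show ι (d.u d.h 0) * ι t * (ι (d.u d.h 0))⁻¹ = _ ↔ _
          rw [← map_inv, ← map_mul, ← map_mul, hι'.eq_iff, mem_map_inclusion hSC]
          obtain ⟨c, rfl | rfl⟩ := v10_cases d ht
          · exact iff_of_true (by rw [U_comm d (u_mem d _ _) (u_mem d c c), mul_inv_cancel_right]) (hdiag c)
          · refine iff_of_false (fun e => hhne ?_) (hvZ _ _)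
            rw [conj_v_by_u, v_eq_iff] at e
            have := e.2
            simpa using this
        · show ι d.z * ι t * (ι d.z)⁻¹ = _ ↔ _
          obtain ⟨i, j, rfl⟩ := ht
          rw [← map_inv, ← map_mul, ← map_mul, hι'.eq_iff, mem_map_inclusion hSC, hzswap, u_eq_iff, hZel]
          exact ⟨fun h => h.2, fun h => ⟨by rw [← neg_sub]; exact dvd_neg.mpr h, h⟩⟩
      hpow := ⟨n - 2, by show d.h = _; rw [hhn]; congr 1; omega⟩
      xmem := ⟨_, u_mem d 1 0, rfl⟩
      xpow := by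
        show (ι (d.u 1 0)) ^ (2 * d.h) ∈ Zd.map ι
        rw [← map_pow, mem_map_inclusion, ← zpow_natCast, u_zpow, hZel]
        exact ⟨-1, by push_cast; ring⟩
      xlow := fun i hi hlt h => by
        rw [show L.x ^ i = ι (d.u 1 0 ^ i) from (map_pow ι _ _).symm, mem_map_inclusion, ← zpow_natCast,
          u_zpow, hZel, zero_mul, one_mul, zero_sub, dvd_neg] at h
        have := Int.le_of_dvd (by exact_mod_cast hi) h
        change i < 2 * d.h at hlt
        omega
      card := by rw [cardS, cardZ]; show _ = 4 * d.h * (2 * d.h); ring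
      cardb := by rw [cardZ, show L.T L.b = d.U.map ι from rfl, card_map_inclusion, card_U]
      cardnb := by
        rw [cardZ, show L.T (!L.b) = (Subgroup.zpowers (d.v 1 0)).map ι from rfl, card_map_inclusion,
          Nat.card_zpowers, orderOf_v10]
        ring
      gen := by
        rintro _ ⟨t, ht, rfl⟩
        obtain ⟨i, j, rfl⟩ := ht
        obtain ⟨k, hk⟩ := mem_powers_iff_mem_zpowers.mpr (⟨i - j, rfl⟩ : d.u 1 0 ^ (i - j) ∈ Subgroup.zpowers (d.u 1 0))
        refine ⟨k, ⟨d.u j j, hdiag j, ?_⟩⟩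
        replace hk : d.u 1 0 ^ k = d.u 1 0 ^ (i - j) := hk
        show ι _ = (ι (d.u 1 0) ^ k)⁻¹ * ι (d.u i j)
        rw [← map_pow, ← map_inv, ← map_mul, hk, u_zpow, u_inv, u_mul_u]
        congr 2 <;> ring
      inv := by
        intro w hw hwT
        obtain ⟨s, rfl⟩ := memS hw
        obtain ⟨i, j, rfl⟩ := hvc s fun h => hwT ⟨s, h, rfl⟩
        refine ⟨⟨d.u 1 1, hdiag 1, ?_⟩, ⟨d.u (i + j) (i + j), hdiag _, ?_⟩⟩
        · show ι _ = ι _ * ι (d.u 1 0) * (ι _)⁻¹ * ι (d.u 1 0)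
          rw [← map_inv, ← map_mul, ← map_mul, ← map_mul, conj_u_by_v, u_mul_u]
          norm_num
        · rw [← map_mul, v_mul_v, add_comm j i]
      move := by
        intro w hw hwT t ht hc
        obtain ⟨s, rfl⟩ := memS hw
        obtain ⟨i, j, rfl⟩ := hvc s fun h => hwT ⟨s, h, rfl⟩
        obtain ⟨_, ⟨p, q, rfl⟩, rfl⟩ := ht
        rw [← map_mul, ← map_mul, hι'.eq_iff] at hc
        exact (mem_map_inclusion hSC).mpr ((hZel p q).mpr ((commute_u_v_iff d).mp hc.symm))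
      sqne := by
        rintro _ ⟨_, ⟨i, j, rfl⟩, rfl⟩ - _ ⟨t', ht', rfl⟩ ht'Z h
        obtain ⟨c, rfl | rfl⟩ := v10_cases d ht'
        · exact ht'Z ((mem_map_inclusion hSC).mpr (hdiag c))
        rw [← map_mul, ← map_mul, hι'.eq_iff, u_mul_u, v_mul_v, u_eq_iff] at h
        obtain ⟨p, hp⟩ := h.1
        have : (2 : ℤ) ∣ c + 1 + c := ⟨(d.h : ℤ) * p + i, by linear_combination hp⟩
        omega
      exh := exh_of S hSC _ fun s => by
        obtain ⟨i, j, rfl | rfl⟩ := cases_elem d s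
        · exact ⟨_, IsConj.refl _, Or.inr (Or.inr ⟨_, u_mem d i j, rfl⟩)⟩
        · obtain ⟨c, hc | hc⟩ := Int.even_or_odd' (i + j)
          · refine ⟨_, (ι.map_isConj ?_).trans (hswap c), Or.inr (Or.inr ⟨_, u_mem d _ _, rfl⟩)⟩
            have h1 := isConj_v d i j (c - i)
            rwa [show d.v (i + (c - i)) (j - (c - i)) = d.z * d.u c c by
              rw [z_u, ← v_eq]; congr 1 <;> linarith] at h1
          · refine ⟨ι (d.v (c + 1) c), ι.map_isConj ?_, Or.inr (Or.inl ⟨_, ?_, rfl⟩)⟩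
            · have h1 := isConj_v d i j (c + 1 - i)
              rwa [show d.v (i + (c + 1 - i)) (j - (c + 1 - i)) = d.v (c + 1) c by congr 1 <;> linarith] at h1
            · rw [show d.v (c + 1) c = d.u c c * d.v 1 0 by rw [u_mul_v, add_zero]]
              exact mul_mem (hZC (hdiag c)) (Subgroup.mem_zpowers _) }
  -- the four group
  set U' := U.subgroupOf (S : Subgroup G) with hU'
  have hUc : Nat.card U' = 4 := by
    rw [Nat.card_congr (Subgroup.subgroupOfEquivOfLe hUS).toEquiv]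
    exact hU.card_four
  have hUsq : ∀ t ∈ U', t * t = 1 := fun t ht => Subtype.ext
    (congrArg (fun u : U => (u : G)) (IsKleinFour.mul_self (⟨(t : G), ht⟩ : U)))
  have hUU : U' ≤ d.T0 := by
    intro t ht
    refine ⟨?_, hUsq t ht⟩
    by_contra htU
    obtain ⟨i, j, rfl⟩ := hvc t htU
    have hk : ∀ k : ℤ, d.u k (-k) * d.u k (-k) = 1 := fun k => by
      have h1 : d.v (i + k) (j - k) ∈ U' := by
        have := hUn _ (d.u k 0).2 _ ht
        have h2 : d.u k 0 * d.v i j * (d.u k 0)⁻¹ ∈ U' := this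
        rwa [conj_v_by_u, sub_zero] at h2
      refine hUsq _ ?_
      have h3 := mul_mem h1 (inv_mem ht)
      rwa [show d.v (i + k) (j - k) * (d.v i j)⁻¹ = d.u k (-k) by
        rw [mul_inv_eq_iff_eq_mul, u_mul_v]; congr 1 <;> ring] at h3
    have h1 := (u_mul_self_eq_one d (hk 1)).1
    have := Int.le_of_dvd one_pos h1
    omega
  have hUT : U' = d.T0 := by
    refine Subgroup.eq_of_le_of_card_ge hUU ?_
    rw [hUc, ← Nat.card_congr (upEquiv S d.T0).toEquiv]
    exact (T0_klein S d).card_four.le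
  have hUel : ∀ t ∈ U', t = 1 ∨ t = d.u d.h 0 ∨ t = d.u 0 d.h ∨ t = d.w := by
    intro t ht
    rw [hUT] at ht
    obtain ⟨⟨i, j, rfl⟩, h2⟩ := ht
    exact u_involution_cases d h2
  have hzw : d.w * d.u d.h 0 = d.u 0 d.h := by
    rw [Data.w, u_mul_u, u_eq_iff]
    exact ⟨⟨-1, by ring⟩, ⟨0, by ring⟩⟩
  -- the characters
  have hmU : ∀ i j : ℤ, ι (d.u i j) ∈ L.T true := fun i j => ⟨_, u_mem d i j, rfl⟩
  let E0 : Subgroup ↥(L.T true) :=
    { carrier := {t | ∃ i j : ℤ, 2 ∣ i ∧ (t : ↥(Subgroup.centralizer ({z} : Set G))) = ι (d.u i j)}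
      one_mem' := ⟨0, 0, dvd_zero _, by rw [u_zero, map_one]; rfl⟩
      mul_mem' := by
        rintro p q ⟨i, j, hi, hp⟩ ⟨k, l, hk, hq⟩
        exact ⟨i + k, j + l, dvd_add hi hk, by rw [Subgroup.coe_mul, hp, hq, ← map_mul, u_mul_u]⟩
      inv_mem' := by
        rintro p ⟨i, j, hi, hp⟩
        exact ⟨-i, -j, dvd_neg.mpr hi, by rw [Subgroup.coe_inv, hp, ← map_inv, u_inv]⟩ }
  have hE0 : ∀ (i j : ℤ) (h : ι (d.u i j) ∈ L.T true), (⟨ι (d.u i j), h⟩ : ↥(L.T true)) ∈ E0 ↔ 2 ∣ i := by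
    intro i j h
    refine ⟨fun ⟨k, l, hk, e⟩ => ?_, fun hi => ⟨i, j, hi, rfl⟩⟩
    obtain ⟨p, hp⟩ := ((u_eq_iff d).mp (hι' e)).1
    obtain ⟨r, hr⟩ := hk
    exact ⟨r - (d.h : ℤ) * p, by linear_combination hr - hp⟩
  have hTU : ∀ t : ↥(L.T true), ∃ (i j : ℤ) (h : ι (d.u i j) ∈ L.T true), t = ⟨ι (d.u i j), h⟩ := by
    rintro ⟨_, _, ⟨i, j, rfl⟩, rfl⟩
    exact ⟨i, j, ⟨_, u_mem d i j, rfl⟩, rfl⟩
  have hE2 : E0.index = 2 := by
    rw [Subgroup.index_eq_two_iff]
    refine ⟨⟨ι (d.u 1 0), hmU 1 0⟩, fun t => ?_⟩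
    obtain ⟨i, j, h, rfl⟩ := hTU t
    have e : (⟨ι (d.u i j), h⟩ : ↥(L.T true)) * ⟨ι (d.u 1 0), hmU 1 0⟩ =
        ⟨ι (d.u (i + 1) j), hmU _ _⟩ :=
      Subtype.ext (by rw [Subgroup.coe_mul]; show ι _ * ι _ = _; rw [← map_mul, u_mul_u, add_zero])
    rw [e, hE0, hE0]
    rcases Int.even_or_odd' i with ⟨r, hr | hr⟩
    · exact Or.inr ⟨⟨r, hr⟩, by omega⟩
    · exact Or.inl ⟨⟨r + 1, by omega⟩, by omega⟩
  let τ := signOf E0 hE2
  have hconjτ : ∀ (i j : ℤ) (h : ι (d.u i j) ∈ L.T true),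
      L.conj (hL.nnorm true) τ ⟨ι (d.u i j), h⟩ = τ ⟨ι (d.u j i), hmU j i⟩ := fun i j h => by
    refine congrArg τ (Subtype.ext ?_)
    show ι d.z * ι (d.u i j) * (ι d.z)⁻¹ = _
    rw [← map_inv, ← map_mul, ← map_mul, hzswap]
  have memF : ι (d.v 1 0) ∈ L.T false := ⟨_, Subgroup.mem_zpowers _, rfl⟩
  let g : ↥(L.T false) := ⟨ι (d.v 1 0), memF⟩
  have hgen : ∀ t : ↥(L.T false), t ∈ Subgroup.zpowers g := by
    rintro ⟨_, t, ⟨k, rfl⟩, rfl⟩
    exact ⟨k, Subtype.ext (map_zpow ι (d.v 1 0) k).symm⟩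
  obtain ⟨θ, hθ⟩ := exists_faithful_char g hgen
  have hgo : orderOf g = 4 * d.h := by rw [Subgroup.orderOf_mk, orderOf_injective ι hι', orderOf_v10]
  have hconjg : ∀ φ : ↥(L.T false) →* ℂˣ,
      L.conj (hL.nnorm false) φ g = φ g ^ (2 * (d.h : ℤ) + 1) := fun φ => by
    rw [← map_zpow]
    show φ _ = _
    refine congrArg φ (Subtype.ext ?_)
    rw [SubgroupClass.coe_zpow]
    show ι (d.u d.h 0) * ι (d.v 1 0) * (ι (d.u d.h 0))⁻¹ = (ι (d.v 1 0)) ^ _
    rw [← map_inv, ← map_mul, ← map_mul, ← map_zpow, hncj, zpow_add, zpow_mul, zpow_one,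
      show d.v 1 0 ^ (2 : ℤ) = d.u 1 1 by rw [zpow_two, v_mul_v]; congr 1, u_zpow, one_mul]
  have hext : ∀ φ ψ : ↥(L.T false) →* ℂˣ, φ g = ψ g → φ = ψ := fun φ ψ h =>
    (MonoidHom.eq_iff_eq_on_generator hgen φ ψ).mpr h
  have hθ2 : θ g ^ (2 * (d.h : ℤ)) ≠ 1 := by
    rw [← map_zpow]
    intro e
    have e1 := hθ (e.trans (map_one θ).symm)
    rw [← orderOf_dvd_iff_zpow_eq_one, hgo] at e1
    push_cast at e1
    have := Int.le_of_dvd (by omega) e1
    omega
  have hθ4 : θ g ^ (4 * (d.h : ℤ)) = 1 := by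
    rw [← map_zpow, show (4 * (d.h : ℤ)) = ((4 * d.h : ℕ) : ℤ) by push_cast; rfl, zpow_natCast, ← hgo,
      pow_orderOf_eq_one, map_one]
  refine ⟨{ L := L, K2 := (parSub d).map ι, zc := ι d.w, w := ι (d.u d.h 0), τ0 := τ, θ := θ }, ?_⟩
  refine
    { loc := hL
      sS := Subgroup.map_subgroupOf_eq_of_le hSC
      shape := Or.inr ⟨hS, by show 4 ≤ Nat.card L.Z; rw [cardZ]; omega⟩
      zcv := hzG
      zcZ := ⟨d.w, hdiag _, rfl⟩
      zonly := by
        intro t ht htt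
        by_cases h1 : t = 1
        · exact Or.inl h1
        · refine Or.inr (hL.zuniq t ht _ ⟨d.w, hdiag _, rfl⟩ htt ?_ h1 fun e => hw1 (hι' (e.trans (map_one ι).symm)))
          rw [← map_mul, CfsgLib.Involutions.mul_self_eq_one_of_orderOf (orderOf_half_u d).2, map_one]
      wT := ⟨_, u_mem d _ _, rfl⟩
      wZ := fun h => hhne (by
        have := (hZel _ _).mp ((mem_map_inclusion hSC).mp h)
        rwa [zero_sub, dvd_neg] at this)
      wsq := by
        show ι (d.u d.h 0) * ι (d.u d.h 0) = 1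
        rw [← map_mul, CfsgLib.Involutions.mul_self_eq_one_of_orderOf (orderOf_half_u d).1, map_one]
      nw := by
        show ι d.z * ι (d.u d.h 0) * (ι d.z)⁻¹ = ι d.w * ι (d.u d.h 0)
        rw [← map_inv, ← map_mul, ← map_mul, ← map_mul, hzswap, hzw]
      invU := by
        rintro _ ⟨_, ⟨i, j, rfl⟩, rfl⟩ htt
        rw [← map_mul, ← map_one ι, hι'.eq_iff] at htt
        rcases u_involution_cases d htt with e | e | e | e <;> rw [e]
        · exact Or.inl (map_one ι)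
        · exact Or.inr (Or.inr (Or.inl rfl))
        · exact Or.inr (Or.inr (Or.inr (by show ι _ = ι _ * ι _; rw [← map_mul, hzw])))
        · exact Or.inr (Or.inl rfl)
      powN := by
        rintro _ ⟨t, ht, rfl⟩ ht1
        obtain ⟨r, hr⟩ := exists_pow_involution hS2 (t := t) fun e => ht1 (e ▸ map_one ι)
        refine ⟨r, ?_⟩
        show (ι t) ^ r = ι d.w
        rw [← map_pow]
        refine congrArg ι ?_
        obtain ⟨h1, h2⟩ := CfsgLib.Involutions.orderOf_eq_two_iff'.mp hr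
        obtain ⟨c, e | e⟩ := v10_cases d (pow_mem ht r) <;> rw [e] at h1 h2 ⊢
        · rcases u_involution_cases d h1 with h | h | h | h
          · exact absurd h h2
          · exact absurd ((hZel _ _).mp (h ▸ hdiag c)) (by simpa using hhne)
          · exact absurd ((hZel _ _).mp (h ▸ hdiag c)) (by simpa using hhne)
          · exact h
        · exfalso
          have h3 := (v_mul_self_eq_one_iff d).mp h1
          obtain ⟨p, hp⟩ := h3
          have : (2 : ℤ) ∣ c + 1 + c := ⟨(d.h : ℤ) * p, by linear_combination hp⟩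
          omega
      cardU := by
        show Nat.card (d.U.map ι) = Nat.card L.Z ^ 2
        rw [cardZ, card_map_inclusion, card_U, sq]
      cardC := by
        refine le_antisymm (fun v hv => Subgroup.mem_centralizer_iff.mpr ?_) fun v hv => Subgroup.mem_centralizer_iff.mpr ?_
        · have hm' := half_mem_T0 S d
          rw [← hUT] at hm'
          rintro _ (rfl | rfl)
          · exact Subgroup.mem_centralizer_iff.mp hv _ hm'.1
          · exact Subgroup.mem_centralizer_iff.mp hv _ (hzG ▸ hm'.2.2)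
        · intro t ht
          have h1 : ((d.u d.h 0 : (S : Subgroup G)) : G) * v = v * ((d.u d.h 0 : (S : Subgroup G)) : G) :=
            Subgroup.mem_centralizer_iff.mp hv _ (Or.inl rfl)
          have h2 : ((d.w : (S : Subgroup G)) : G) * v = v * ((d.w : (S : Subgroup G)) : G) :=
            hzG ▸ Subgroup.mem_centralizer_iff.mp hv _ (Or.inr rfl)
          rcases hUel ⟨t, hUS ht⟩ ht with e | e | e | e <;> rw [show t = _ from congrArg Subtype.val e]
          · simp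
          · exact h1
          · rw [← hzw, Subgroup.coe_mul, mul_assoc, h1, ← mul_assoc, h2, mul_assoc]
          · exact h2
      aut := by
        show (Subgroup.centralizer (((d.U.map ι).map (Subgroup.subtype _) : Subgroup G) : Set G)).relIndex
          (Subgroup.normalizer (((d.U.map ι).map (Subgroup.subtype _) : Subgroup G) : Set G)) = 6
        rw [Subgroup.map_map, show (Subgroup.subtype _).comp ι = (S : Subgroup G).subtype from rfl]
        exact hA6
      quat := by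
        intro Q hQS' hn' hnc huniq
        set Q₀ := Q.comap ι with hQ₀
        have hQ : Q₀.map ι = Q := by
          rw [hQ₀, Subgroup.map_comap_eq_self]
          intro q hq
          obtain ⟨s, rfl⟩ := memS (hQS' hq)
          exact ⟨s, rfl⟩
        haveI : Q₀.Normal := ⟨fun q hq s => by
          show ι (s * q * s⁻¹) ∈ Q
          rw [map_mul, map_mul, map_inv]
          exact hn' _ (sMem s) _ hq⟩
        have hQQ : Q₀ = d.R := by
          refine eq_R_of_unique d hS2 ?_ fun p hp q hq h1 h2 h3 h4 => hι' (huniq _ hp _ hq ?_ ?_ ?_ ?_)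
          · obtain ⟨p, hp, q, hq, hpq⟩ := hnc
            rw [← hQ] at hp hq
            obtain ⟨p, hp, rfl⟩ := hp
            obtain ⟨q, hq, rfl⟩ := hq
            exact ⟨p, hp, q, hq, fun e => hpq (by rw [← map_mul, ← map_mul, e])⟩
          · rw [← map_mul, h1, map_one]
          · rw [← map_mul, h2, map_one]
          · exact fun e => h3 (hι' (e.trans (map_one ι).symm))
          · exact fun e => h4 (hι' (e.trans (map_one ι).symm))
        rw [← hQ, hQQ]
        refine ⟨?_, ?_⟩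
        · show d.R.map ι ⊔ Zd.map ι = _
          rw [← Subgroup.map_sup, hZd, ← center_eq, R_sup_center d hev]
        · rw [card_map_inclusion, card_R, cardZ, cardS]
          ring
      k2S := by
        rintro _ ⟨s, -, rfl⟩
        exact sMem s
      k2 := by
        have h := (((parSub d).map ι).subgroupOf (L.S : Subgroup ↥(Subgroup.centralizer ({z} : Set G)))).card_mul_index
        have h' := (parSub d).card_mul_index
        rw [Nat.card_congr (Subgroup.subgroupOfEquivOfLe (show (parSub d).map ι ≤ (L.S : Subgroup ↥(Subgroup.centralizer ({z} : Set G))) by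
          rintro _ ⟨s, -, rfl⟩; exact sMem s)).toEquiv,
          card_map_inclusion, cardS, ← d.hcard, ← h', index_parSub] at h
        exact Nat.eq_of_mul_eq_mul_left Nat.card_pos h
      xK2 := fun h => by
        have := (u_mem_parSub d).mp ((mem_map_inclusion hSC).mp h)
        omega
      uK2 := ⟨ι (d.u 1 0), ⟨_, u_mem d 1 0, rfl⟩, fun h => by
        have := (u_mem_parSub d).mp ((mem_map_inclusion hSC).mp h)
        omega⟩
      nK2 := ⟨ι (d.v 1 0), memF, fun h => by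
        have := (v_mem_parSub d).mp ((mem_map_inclusion hSC).mp h)
        omega⟩
      tau0ne := ?_
      tau0sq := signOf_sq hE2
      tau0mul := ?_
      tau0line := ?_
      thne := ?_
      thfix := ?_
      extra := Or.inr ?_ }
  · intro h
    have h1 := hconjτ 1 0 (hmU 1 0)
    rw [show L.conj (hL.nnorm true) τ = τ from h, signOf_not_mem hE2 (by rw [hE0]; norm_num),
      signOf_mem hE2 (by rw [hE0]; norm_num)] at h1
    exact neg_one_ne_one h1
  · intro t
    obtain ⟨i, j, h, rfl⟩ := hTU t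
    show τ _ * L.conj (hL.nnorm true) τ _ = _
    rw [hconjτ]
    have hK : ι (d.u i j) ∈ (parSub d).map ι ↔ 2 ∣ i + j :=
      (mem_map_inclusion hSC).trans (u_mem_parSub d)
    by_cases hi : (2 : ℤ) ∣ i <;> by_cases hj : (2 : ℤ) ∣ j
    · rw [signOf_mem hE2 ((hE0 _ _ _).mpr hi), signOf_mem hE2 ((hE0 _ _ _).mpr hj), if_pos (hK.mpr (by omega)),
        mul_one]
    · rw [signOf_mem hE2 ((hE0 _ _ _).mpr hi), signOf_not_mem hE2 (mt (hE0 _ _ _).mp hj),
        if_neg (fun e => by have := hK.mp e; omega), one_mul]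
    · rw [signOf_not_mem hE2 (mt (hE0 _ _ _).mp hi), signOf_mem hE2 ((hE0 _ _ _).mpr hj),
        if_neg (fun e => by have := hK.mp e; omega), mul_one]
    · rw [signOf_not_mem hE2 (mt (hE0 _ _ _).mp hi), signOf_not_mem hE2 (mt (hE0 _ _ _).mp hj),
        if_pos (hK.mpr (by omega))]
      simp
  · intro t hp
    obtain ⟨i, j, h, rfl⟩ := hTU t
    by_cases hi : (2 : ℤ) ∣ i
    · exact Or.inl (signOf_mem hE2 ((hE0 _ _ _).mpr hi))
    by_cases hj : (2 : ℤ) ∣ j
    · exact Or.inr (by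
        show L.conj (hL.nnorm true) τ _ = 1
        rw [hconjτ]; exact signOf_mem hE2 ((hE0 _ _ _).mpr hj))
    exfalso
    refine hp d.h ?_
    show (ι (d.u i j)) ^ d.h = ι d.w
    rw [← map_pow, ← zpow_natCast, u_zpow, Data.w]
    refine congrArg ι ((u_eq_iff d).mpr ?_)
    obtain ⟨r, hr⟩ : ∃ r, i = 2 * r + 1 := (Int.even_or_odd' i).elim fun r h => ⟨r, h.resolve_left (by omega)⟩
    obtain ⟨r', hr'⟩ : ∃ r, j = 2 * r + 1 := (Int.even_or_odd' j).elim fun r h => ⟨r, h.resolve_left (by omega)⟩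
    exact ⟨⟨-r, by rw [hr]; ring⟩, ⟨-r', by rw [hr']; ring⟩⟩
  · intro h
    have h1 := hconjg θ
    rw [show L.conj (hL.nnorm false) θ = θ from h, zpow_add, zpow_one] at h1
    exact hθ2 (mul_eq_right.mp h1.symm)
  · intro μ hμ
    have h1 := hconjg μ
    rw [show L.conj (hL.nnorm false) μ = μ from hμ, zpow_add, zpow_one] at h1
    rw [show (⟨ι d.w, hL.zle false ⟨d.w, hdiag _, rfl⟩⟩ : ↥(L.T false)) = g ^ (2 * (d.h : ℤ)) from
      Subtype.ext (by
        rw [SubgroupClass.coe_zpow]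
        show ι d.w = ι (d.v 1 0) ^ _
        rw [← map_zpow, zpow_mul, show d.v 1 0 ^ (2 : ℤ) = d.u 1 1 by rw [zpow_two, v_mul_v]; congr 1, u_zpow,
          one_mul, Data.w]), map_zpow]
    exact mul_eq_right.mp h1.symm
  · have hpow : (θ ^ d.h) g = θ g ^ (d.h : ℤ) := by rw [MonoidHom.pow_apply, zpow_natCast]
    have hfix : L.conj (hL.nnorm false) (θ ^ d.h) = θ ^ d.h := by
      refine hext _ _ ?_
      rw [hconjg, hpow, ← zpow_mul, show (d.h : ℤ) * (2 * (d.h : ℤ) + 1) = 4 * (d.h : ℤ) * m + d.h by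
        rw [hm]; push_cast; ring, zpow_add, zpow_mul, hθ4, one_zpow, one_mul]
    have hsq : θ ^ d.h * θ ^ d.h ≠ 1 := fun e => hθ2 (by
      have e1 := congrArg (fun f : ↥(L.T false) →* ℂˣ => f g) e
      simp only [MonoidHom.mul_apply, MonoidHom.one_apply, hpow] at e1
      rwa [← zpow_add, ← two_mul] at e1)
    refine ⟨θ ^ d.h, (θ ^ d.h)⁻¹, fun e => hsq ((congrArg (fun f => θ ^ d.h * f) e).trans (mul_inv_cancel (θ ^ d.h))), hfix, ?_, hsq, fun e => hsq ?_⟩
    · refine hext _ _ ?_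
      rw [hconjg, MonoidHom.inv_apply, inv_zpow, ← hconjg, hfix]
    · refine hext _ _ ?_
      have e1 := congrArg (fun f : ↥(L.T false) →* ℂˣ => (f g)⁻¹) e
      simp only [MonoidHom.mul_apply, MonoidHom.one_apply, MonoidHom.inv_apply, mul_inv_rev, inv_inv, inv_one] at e1
      exact e1

end CfsgLib.BrauerOrder
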