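import Cfsg.Agent.Lib.BrauerOrder.Isom
import Cfsg.Agent.Lib.BrauerOrder.Block
import Cfsg.Agent.Lib.Blocks.SecondMain
import Cfsg.Agent.Lib.CharTheory.CyclicTI2

/-!
# The section of the involution

A character of the principal block is, on the section of the involution, a combination of `1 + Sh` and `1 - Sh`; the
coefficients are recovered from sums over the central section.
-/

set_option autoImplicit false
set_option linter.unusedSectionVars false
set_option linter.style.haveILetI false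

namespace CfsgLib.BrauerOrder

open Cfsg CfsgLib.CharTheory CfsgLib.Blocks CfsgLib.Blocks.AbelianFree
open scoped ComplexConjugate

universe u v

variable {G : Type u} [Group G] [Fintype G] {z : G} [Fintype (Cz z)] {Ω : Type v} [MulAction (Cz z) Ω]
  [Finite Ω] {D : Sys G z} (hD : D.Spec Ω) {M : Ideal AlgInt}

include hD

/-- The elements of the central section of the involution. -/
theorem secZ_zc {g : Cz z} (hg : g ∈ secZ D.core D.zc) :
    ∃ v : Cz z, ¬ 2 ∣ orderOf v ∧ g = D.zc * v ∧ D.Sh Ω v = D.Sh Ω g := by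
  rw [mem_secZ] at hg
  obtain ⟨w, hw, -, ⟨k, hk⟩, hwo⟩ := p2_spec g
  obtain ⟨hz1, hz2⟩ := zc_ne hD
  have hc : Commute (p2 g) D.zc⁻¹ := (show Commute (p2 g) D.zc from zc_comm hD _).inv_right
  have hp : p2 g = D.zc := by
    refine mul_inv_eq_one.1 (odd_S_trivial hD.core hg ?_)
    have hdvd : orderOf (p2 g * D.zc⁻¹) ∣ 2 ^ (k + 1) := by
      refine orderOf_dvd_of_pow_eq_one ?_
      rw [hc.mul_pow, inv_pow, pow_succ, pow_mul, ← hk, pow_orderOf_eq_one, one_pow, one_mul, hk,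
        mul_comm (2 ^ k), pow_mul, sq, hz2, one_pow, inv_one]
    obtain ⟨j, -, hj⟩ := (Nat.dvd_prime_pow Nat.prime_two).1 hdvd
    exact ⟨j, hj⟩
  rw [hp] at hw
  refine ⟨w, hwo, hw.symm, ?_⟩
  have hfix : MulAction.fixedBy Ω g = MulAction.fixedBy Ω w := by
    ext a
    rw [MulAction.mem_fixedBy, MulAction.mem_fixedBy, ← hw, mul_smul, hD.core.ztriv _ hD.zcZ]
  simp only [Sys.Sh, St, hfix]

theorem Sh_one : D.Sh Ω 1 = (D.Q : ℂ) := by
  have h1 : MulAction.fixedBy Ω (1 : Cz z) = Set.univ := by ext; simp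
  rw [Sys.Sh, St, h1, Nat.card_congr (Equiv.Set.univ Ω), hD.core.card, Sys.Q]
  push_cast
  ring

/-- The sums over the central section against the two functions. -/
theorem sum_secZ_combination (p r : ℂ) {f : Cz z → ℂ}
    (hf : ∀ g ∈ secZ D.core D.zc, f g = p * (1 + D.Sh Ω g) + r * (1 - D.Sh Ω g)) :
    (∑ g ∈ secZ D.core D.zc, f g * (1 + D.Sh Ω g)) =
        2 * p * (Nat.card (Cz z) : ℂ) / (Nat.card (D.core.T true) : ℂ) ∧
      (∑ g ∈ secZ D.core D.zc, f g * (1 - D.Sh Ω g)) =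
        2 * r * (Nat.card (Cz z) : ℂ) / (Nat.card (D.core.T false) : ℂ) := by
  have e1 : ∀ g : Cz z, 1 + (D.core.σ true : ℂ) * St Ω g = 1 + D.Sh Ω g := fun g => rfl
  have e2 : ∀ g : Cz z, 1 + (D.core.σ false : ℂ) * St Ω g = 1 - D.Sh Ω g := fun g => by
    rw [sigma_false hD, Sys.Sh]; ring
  have n11 := sum_secZ_norm (Ω := Ω) hD.core hD.zcZ true true
  have n12 := sum_secZ_norm (Ω := Ω) hD.core hD.zcZ false true
  have n22 := sum_secZ_norm (Ω := Ω) hD.core hD.zcZ false false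
  simp only [e1, e2, Bool.false_eq_true, if_true, if_false] at n11 n12 n22
  constructor
  · rw [Finset.sum_congr rfl fun g hg => show f g * (1 + D.Sh Ω g) =
        p * ((1 + D.Sh Ω g) * (1 + D.Sh Ω g)) + r * ((1 - D.Sh Ω g) * (1 + D.Sh Ω g)) by rw [hf g hg]; ring,
      Finset.sum_add_distrib, ← Finset.mul_sum, ← Finset.mul_sum, n11, n12]
    ring
  · rw [Finset.sum_congr rfl fun g hg => show f g * (1 - D.Sh Ω g) =
        p * ((1 - D.Sh Ω g) * (1 + D.Sh Ω g)) + r * ((1 - D.Sh Ω g) * (1 - D.Sh Ω g)) by rw [hf g hg]; ring,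
      Finset.sum_add_distrib, ← Finset.mul_sum, ← Finset.mul_sum, n22, n12]
    ring

/-- The weighted sum over the linear characters of the cyclic torus picks out the central section. -/
theorem sum_phi [Fintype (↥(D.core.T false) →* ℂˣ)] {f : Cz z → ℂ} (hf : IsClassFunction (Cz z) f) :
    ∑ φ : ↥(D.core.T false) →* ℂˣ, (φ ⟨D.zc, hD.core.zle false hD.zcZ⟩ : ℂ) *
        classInner f (D.core.R Ω false φ) =
      (Nat.card (D.core.T false) : ℂ) * ((Nat.card (Cz z) : ℂ)⁻¹ *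
        ∑ g ∈ secZ D.core D.zc, f g * (1 - D.Sh Ω g)) := by
  classical
  have hzT : D.zc ∈ D.core.T false := hD.core.zle false hD.zcZ
  have horth : ∀ t : Cz z, t ∈ D.core.T false →
      ∑ φ : ↥(D.core.T false) →* ℂˣ, (φ ⟨D.zc, hzT⟩ : ℂ) * conj (D.core.tv φ t) =
        if t = D.zc then (Nat.card (D.core.T false) : ℂ) else 0 := by
    intro t ht
    have hterm : ∀ φ : ↥(D.core.T false) →* ℂˣ, (φ ⟨D.zc, hzT⟩ : ℂ) * conj (D.core.tv φ t) =
        ((φ (⟨D.zc, hzT⟩ * (⟨t, ht⟩ : ↥(D.core.T false))⁻¹) : ℂˣ) : ℂ) := by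
      intro φ
      have h1 : conj ((φ ⟨t, ht⟩ : ℂˣ) : ℂ) = (((φ ⟨t, ht⟩)⁻¹ : ℂˣ) : ℂ) := by
        have hpow : ((φ ⟨t, ht⟩ : ℂˣ) : ℂ) ^ orderOf (⟨t, ht⟩ : ↥(D.core.T false)) = 1 := by
          rw [← Units.val_pow_eq_pow_val, ← map_pow, pow_orderOf_eq_one, map_one, Units.val_one]
        rw [Units.val_inv_eq_inv_val]
        exact (Complex.inv_eq_conj (Complex.norm_eq_one_of_pow_eq_one hpow (orderOf_pos _).ne')).symm
      rw [tv_mem φ ht, h1, ← Units.val_mul, ← map_inv, ← map_mul]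
    rw [Finset.sum_congr rfl fun φ _ => hterm φ,
      sum_hom_abelian (K := ↥(D.core.T false)) (fun a b => Subtype.ext (hD.core.tcomm false a a.2 b b.2))]
    by_cases e : t = D.zc
    · rw [if_pos e, if_pos]; subst e; exact mul_inv_cancel _
    · rw [if_neg e, if_neg]; exact fun e' => e (congrArg Subtype.val (mul_inv_eq_one.1 e')).symm
  set K := (Nat.card (Cz z) : ℂ)
  set T := (Nat.card (D.core.T false) : ℂ)
  set S := fun u : Cz z => ∑ g ∈ secZ D.core u, f g * (1 + (D.core.σ false : ℂ) * St Ω g) with hS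
  have hstep : ∀ φ : ↥(D.core.T false) →* ℂˣ, (φ ⟨D.zc, hzT⟩ : ℂ) * classInner f (D.core.R Ω false φ) =
      (∑ u ∈ Finset.univ.filter (fun u => u ∈ D.core.Z),
        ((φ ⟨D.zc, hzT⟩ : ℂ) * conj (D.core.tv φ u)) * (K⁻¹ * S u)) +
      ∑ t ∈ outT D.core false, ((φ ⟨D.zc, hzT⟩ : ℂ) * conj (D.core.tv φ t)) * (T⁻¹ * Av f t) := by
    intro φ
    rw [classInner_R hD.core hf, mul_add, Finset.mul_sum, Finset.mul_sum, Finset.mul_sum, Finset.mul_sum]
    refine congrArg₂ (· + ·) (Finset.sum_congr rfl fun u _ => ?_) (Finset.sum_congr rfl fun t _ => ?_)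
    · simp only [hS]; ring
    · ring
  rw [Finset.sum_congr rfl fun φ _ => hstep φ, Finset.sum_add_distrib, Finset.sum_comm,
    Finset.sum_comm (t := outT D.core false), Finset.sum_eq_zero (s := outT D.core false) fun t ht => ?_,
    add_zero, Finset.sum_eq_single D.zc (fun u hu hne => ?_) (fun h => absurd (by simpa using hD.zcZ) h)]
  · rw [← Finset.sum_mul, horth D.zc hzT, if_pos rfl]
    simp only [hS]
    refine congrArg _ (congrArg _ (Finset.sum_congr rfl fun g _ => ?_))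
    rw [sigma_false hD, Sys.Sh]
    ring
  · rw [← Finset.sum_mul, horth u (hD.core.zle false (by simpa using hu)), if_neg hne, zero_mul]
  · obtain ⟨ht', hz⟩ := mem_outT.1 ht
    rw [← Finset.sum_mul, horth t ht', if_neg fun e => hz (by rw [e]; exact hD.zcZ), zero_mul]

/-- The section of the involution on the principal block. -/
theorem zsection [Fintype (↥(D.core.T false) →* ℂˣ)] (hM : IsPModular 2 M) {χ : IrrCharacter G}
    (h : χ ∈ principalBlock M G) :
    ∃ p r : ℂ,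
      (∀ v : Cz z, ¬ 2 ∣ orderOf v →
        (χ : G → ℂ) (z * (v : G)) = p * (1 + D.Sh Ω v) + r * (1 - D.Sh Ω v)) ∧
      (χ : G → ℂ) z = p * (1 + (D.Q : ℂ)) + r * (1 - (D.Q : ℂ)) ∧
      (∑ φ : ↥(D.core.T false) →* ℂˣ, (φ ⟨D.zc, hD.core.zle false hD.zcZ⟩ : ℂ) *
          classInner (fun g : Cz z => (χ : G → ℂ) (g : G)) (D.core.R Ω false φ)) = 2 * r ∧
      (∑ g ∈ secZ D.core D.zc, (χ : G → ℂ) (g : G) * (1 + D.Sh Ω g)) =
        2 * p * (Nat.card (Cz z) : ℂ) / (Nat.card (D.core.T true) : ℂ) := by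
  classical
  set H := Subgroup.centralizer ({z} : Set G)
  have hH : IsCentr z H := isCentr_singleton z
  have hz : ∃ k : ℕ, orderOf z = 2 ^ k := ⟨1, by rw [hD.zord, pow_one]⟩
  obtain ⟨b, x, n, hr⟩ := hD.rot
  have hreg : ∀ ψ : IrrCharacter (Cz z), ∃ α β : ℂ, ψ ∈ principalBlock M (Cz z) →
      ∀ v : Cz z, ¬ 2 ∣ orderOf v → (ψ : Cz z → ℂ) v = α + β * St Ω v := by
    intro ψ
    by_cases hψ : ψ ∈ principalBlock M (Cz z)
    · obtain ⟨α, β, hab⟩ := principal_reg hM hD.core hr hψ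
      exact ⟨α, β, fun _ => hab⟩
    · exact ⟨0, 0, fun e => absurd e hψ⟩
  choose α β hab using hreg
  set c : IrrCharacter (Cz z) → ℂ := fun ψ => classInner (sec z H (χ : G → ℂ)) (ψ : Cz z → ℂ)
  set a := ∑ ψ ∈ bset (principalBlock M (Cz z)), c ψ * α ψ
  set bb := ∑ ψ ∈ bset (principalBlock M (Cz z)), c ψ * β ψ
  set s := (D.core.σ true : ℂ)
  have hs : s * s = 1 := sigma_sq hD
  refine ⟨(a + s * bb) / 2, (a - s * bb) / 2, ?_⟩
  have hval : ∀ v : Cz z, ¬ 2 ∣ orderOf v → (χ : G → ℂ) (z * (v : G)) =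
      (a + s * bb) / 2 * (1 + D.Sh Ω v) + (a - s * bb) / 2 * (1 - D.Sh Ω v) := by
    intro v hv
    have h1 := sec_eq_overBlocks hM hH hz (principalBlock_isPBlock (M := M) (G := G)) χ (y := v) hv
    rw [ind_of_mem h, one_mul, overBlocks_principal hM hH hz, blockPart_apply] at h1
    rw [← h1, Finset.sum_congr rfl fun (ψ : IrrCharacter (Cz z)) hψ => show
      classInner (sec z H (χ : G → ℂ)) (ψ : Cz z → ℂ) * (ψ : Cz z → ℂ) v =
        c ψ * α ψ + c ψ * β ψ * St Ω v by rw [hab ψ (mem_bset.1 hψ) v hv]; ring,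
      Finset.sum_add_distrib, ← Finset.sum_mul]
    show a + bb * St Ω v = (a + s * bb) / 2 * (1 + s * St Ω v) + (a - s * bb) / 2 * (1 - s * St Ω v)
    linear_combination (-(bb * St Ω v)) * hs
  have hsec : ∀ g ∈ secZ D.core D.zc, (χ : G → ℂ) (g : G) =
      (a + s * bb) / 2 * (1 + D.Sh Ω g) + (a - s * bb) / 2 * (1 - D.Sh Ω g) := by
    intro g hg
    obtain ⟨v, hv, rfl, e⟩ := secZ_zc hD hg
    rw [Subgroup.coe_mul, hD.zcv, hval v hv, e]
  obtain ⟨h4, h3⟩ := sum_secZ_combination hD _ _ hsec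
  refine ⟨hval, ?_, ?_, h4⟩
  · have := hval 1 (by simp)
    rwa [OneMemClass.coe_one, mul_one, Sh_one hD] at this
  · rw [sum_phi hD fun g k => by simp only [Subgroup.coe_mul, Subgroup.coe_inv, isClassFunction_irr χ.2 (g : G) (k : G)],
      h3]
    have h1 : (Nat.card (Cz z) : ℂ) ≠ 0 := Nat.cast_ne_zero.2 Nat.card_pos.ne'
    have h2 : (Nat.card (D.core.T false) : ℂ) ≠ 0 := Nat.cast_ne_zero.2 Nat.card_pos.ne'
    field_simp

end CfsgLib.BrauerOrder
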