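import Cfsg.Agent.Lib.BrauerOrder.TorusCoord
import Cfsg.Agent.Lib.BrauerOrder.ZSection

/-!
# The values of the five characters at the involution
-/

set_option autoImplicit false
set_option linter.unusedSectionVars false
set_option linter.style.haveILetI false

namespace CfsgLib.BrauerOrder

open Cfsg CfsgLib.CharTheory CfsgLib.Blocks CfsgLib.Blocks.AbelianFree
open scoped ComplexConjugate

universe u v

variable {G : Type u} [Group G] [Fintype G] {z : G} [Fintype (Cz z)] {Ω : Type v} [MulAction (Cz z) Ω]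
  [Finite Ω] {D : Sys G z} (hD : D.Spec Ω) {M : Ideal AlgInt} {e : Fin 6 → G → ℂ}

include hD

open Classical in
/-- A weighted sum of the products with the functions of the torus picks out one section. -/
theorem sum_tau [Fintype (↥(D.core.T true) →* ℂˣ)] {φ : Cz z → ℂ} (hφ : IsClassFunction (Cz z) φ)
    (a : ↥(D.core.T true)) :
    ∑ τ : ↥(D.core.T true) →* ℂˣ, (τ a : ℂ) * classInner φ (D.core.R Ω true τ) =
      if (a : Cz z) ∈ D.core.Z then (Nat.card (D.core.T true) : ℂ) * ((Nat.card (Cz z) : ℂ)⁻¹ *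
        ∑ g ∈ secZ D.core (a : Cz z), φ g * (1 + D.Sh Ω g))
      else Av φ (a : Cz z) := by
  have horth : ∀ t : Cz z, t ∈ D.core.T true →
      ∑ τ : ↥(D.core.T true) →* ℂˣ, (τ a : ℂ) * conj (D.core.tv τ t) =
        if t = (a : Cz z) then (Nat.card (D.core.T true) : ℂ) else 0 := by
    intro t ht
    have hterm : ∀ τ : ↥(D.core.T true) →* ℂˣ, (τ a : ℂ) * conj (D.core.tv τ t) =
        ((τ (a * (⟨t, ht⟩ : ↥(D.core.T true))⁻¹) : ℂˣ) : ℂ) := by
      intro τ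
      rw [tv_mem τ ht, conj_hom_apply τ ⟨t, ht⟩, ← Units.val_mul, ← map_mul]
    rw [Finset.sum_congr rfl fun τ _ => hterm τ, sum_hom_apply_T hD]
    refine if_congr ?_ rfl rfl
    rw [mul_inv_eq_one, Subtype.ext_iff]
    exact ⟨fun h => h.symm, fun h => h.symm⟩
  set K := (Nat.card (Cz z) : ℂ)
  set T := (Nat.card (D.core.T true) : ℂ)
  have hT : T ≠ 0 := Nat.cast_ne_zero.2 Nat.card_pos.ne'
  set S := fun u : Cz z => ∑ g ∈ secZ D.core u, φ g * (1 + D.Sh Ω g) with hS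
  have hstep : ∀ τ : ↥(D.core.T true) →* ℂˣ, (τ a : ℂ) * classInner φ (D.core.R Ω true τ) =
      (∑ u ∈ Finset.univ.filter (fun u => u ∈ D.core.Z), ((τ a : ℂ) * conj (D.core.tv τ u)) * (K⁻¹ * S u)) +
      ∑ t ∈ outT D.core true, ((τ a : ℂ) * conj (D.core.tv τ t)) * (T⁻¹ * Av φ t) := by
    intro τ
    rw [classInner_R hD.core hφ, mul_add, Finset.mul_sum, Finset.mul_sum, Finset.mul_sum, Finset.mul_sum]
    refine congrArg₂ (· + ·) (Finset.sum_congr rfl fun u _ => ?_) (Finset.sum_congr rfl fun t _ => ?_)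
    · simp only [hS, Sys.Sh]; ring
    · ring
  rw [Finset.sum_congr rfl fun τ _ => hstep τ, Finset.sum_add_distrib, Finset.sum_comm,
    Finset.sum_comm (t := outT D.core true)]
  simp only [← Finset.sum_mul]
  rw [Finset.sum_congr rfl fun u hu => by
      rw [horth u (hD.core.zle true (by simpa using hu)), ite_mul, zero_mul],
    Finset.sum_ite_eq', Finset.sum_congr rfl fun t ht => by
      rw [horth t (mem_outT.1 ht).1, ite_mul, zero_mul],
    Finset.sum_ite_eq']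
  by_cases hz : (a : Cz z) ∈ D.core.Z
  · rw [if_pos hz, if_pos (by simpa using hz), if_neg (fun h => (mem_outT.1 h).2 hz), add_zero]
  · rw [if_neg hz, if_neg (by simpa using hz), if_pos (mem_outT.2 ⟨a.2, hz⟩), zero_add, ← mul_assoc,
      mul_inv_cancel₀ hT, one_mul]

open Classical in
/-- The weighted sum of the products with the truncated sums. -/
theorem sum_fT [Fintype (↥(D.core.T true) →* ℂˣ)] {r : ↥(D.core.T true) ≃* ↥(D.core.T true)} {g : G}
    (hr : D.Auto r g) {χ : G → ℂ} (hχ : IsClassFunction G χ) :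
    ∑ τ : ↥(D.core.T true) →* ℂˣ, (τ ⟨D.zc, zcU hD⟩ : ℂ) * classInner (fun x : Cz z => χ x) (fT Ω r τ) =
      (Nat.card (D.core.T true) : ℂ) * ((Nat.card (Cz z) : ℂ)⁻¹ *
        ∑ x ∈ secZ D.core D.zc, χ x * (1 + D.Sh Ω x)) := by
  set φ : Cz z → ℂ := fun x => χ x with hφdef
  have hφ : IsClassFunction (Cz z) φ := fun x y => hχ (x : G) (y : G)
  have hwU : D.w ∈ D.core.T true := hD.wT
  have hzwU : D.zc * D.w ∈ D.core.T true := mul_mem (zcU hD) hwU
  have hzwZ : D.zc * D.w ∉ D.core.Z := fun h => hD.wZ (by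
    simpa [← mul_assoc, (zc_ne hD).2] using mul_mem hD.zcZ h)
  set zz : ↥(D.core.T true) := ⟨D.zc, zcU hD⟩
  have er : r zz = ⟨D.w, hwU⟩ := Subtype.ext (hr.onZ _)
  have err : r (r zz) = ⟨D.zc * D.w, hzwU⟩ := by rw [er]; exact Subtype.ext (hr.onW _)
  have s1 : ∑ τ : ↥(D.core.T true) →* ℂˣ, (τ zz : ℂ) * classInner φ (D.core.R Ω true (crC r τ)) =
      Av φ (D.zc * D.w) := by
    have h := sum_tau (Ω := Ω) hD hφ (r (r zz))
    rw [err, if_neg hzwZ] at h
    rw [← h]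
    refine Fintype.sum_bijective (crC r) ?_ _ _ fun τ => ?_
    · exact Finite.injective_iff_bijective.1 fun a b e => cr_inj hr e
    · rw [← err, show crC r τ (r (r zz)) = τ (r (r (r zz))) from rfl, hr.cube]
  have s2 : ∑ τ : ↥(D.core.T true) →* ℂˣ, (τ zz : ℂ) * classInner φ (D.core.R Ω true (crC r (crC r τ))) =
      Av φ D.w := by
    have h := sum_tau (Ω := Ω) hD hφ (r zz)
    rw [er, if_neg hD.wZ] at h
    rw [← h]
    refine Fintype.sum_bijective (fun τ => crC r (crC r τ)) ?_ _ _ fun τ => ?_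
    · exact Finite.injective_iff_bijective.1 fun a b e => cr_inj hr (cr_inj hr e)
    · rw [← er, show crC r (crC r τ) (r zz) = τ (r (r (r zz))) from rfl, hr.cube]
  have hzero : ∑ τ : ↥(D.core.T true) →* ℂˣ, (τ zz : ℂ) = 0 := by
    rw [sum_hom_apply_T hD, if_neg fun e => (zc_ne hD).1 (congrArg Subtype.val e)]
  have sI : ∑ τ : ↥(D.core.T true) →* ℂˣ, (τ zz : ℂ) * ((Nat.card (D.core.T true) : ℂ)⁻¹ *
      ∑ t : ↥(D.core.T true), Fav D φ t * (conj ((τ t : ℂˣ) : ℂ) - 1)) = Fav D φ zz := by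
    have e : ∀ (τ : ↥(D.core.T true) →* ℂˣ), (τ zz : ℂ) * ((Nat.card (D.core.T true) : ℂ)⁻¹ *
        ∑ t : ↥(D.core.T true), Fav D φ t * (conj ((τ t : ℂˣ) : ℂ) - 1)) =
        ∑ t : ↥(D.core.T true), ((Nat.card (D.core.T true) : ℂ)⁻¹ * Fav D φ t) *
          (((τ (zz * t⁻¹) : ℂˣ) : ℂ) - (τ zz : ℂ)) := by
      intro τ
      rw [Finset.mul_sum, Finset.mul_sum]
      refine Finset.sum_congr rfl fun t _ => ?_
      rw [map_mul, Units.val_mul, ← conj_hom_apply τ t]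
      ring
    simp only [e]
    rw [Finset.sum_comm]
    have hz1 : zz ≠ 1 := fun e => (zc_ne hD).1 (congrArg Subtype.val e)
    simp only [← Finset.mul_sum, Finset.sum_sub_distrib, sum_hom_apply_T hD, hz1, if_false, sub_zero]
    rw [Finset.sum_eq_single zz (fun t _ ht => by rw [if_neg (fun h => ht (mul_inv_eq_one.1 h).symm), mul_zero])
      (by simp), if_pos (mul_inv_cancel zz), mul_comm, ← mul_assoc,
      mul_inv_cancel₀ (Nat.cast_ne_zero.2 Nat.card_pos.ne'), one_mul]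
  have hav1 : Av φ D.w = Fav D φ zz := by
    have hd : ¬ OnD D D.w := fun ⟨i, hi⟩ => (w_ne hD).2.1
      (invol_pow_unique hD (pow_one D.w) hi hD.wsq (zc_ne hD).2 (w_ne hD).1 (zc_ne hD).1)
    have h := Av_eq_Fav hD hφ (t := ⟨D.w, hwU⟩) (fun e => (w_ne hD).1 (congrArg Subtype.val e)) hd
    rw [h, ← er, hφdef, Fav_cr hD hr hχ]
  have hav2 : Av φ (D.zc * D.w) = Fav D φ zz := by
    have hd : ¬ OnD D (D.zc * D.w) := fun ⟨i, hi⟩ => (w_ne hD).2.2.2.1
      (invol_pow_unique hD (pow_one _) hi (zw_sq hD) (zc_ne hD).2 (w_ne hD).2.2.1 (zc_ne hD).1)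
    have h := Av_eq_Fav hD hφ (t := ⟨D.zc * D.w, hzwU⟩) (fun e => (w_ne hD).2.2.1 (congrArg Subtype.val e)) hd
    rw [h, ← err, hφdef, Fav_cr hD hr hχ, Fav_cr hD hr hχ]
  have s0 := sum_tau (Ω := Ω) hD hφ zz
  rw [if_pos hD.zcZ] at s0
  have sI' : ∑ τ : ↥(D.core.T true) →* ℂˣ, (τ zz : ℂ) * (2 * ((Nat.card (D.core.T true) : ℂ)⁻¹ *
      ∑ t : ↥(D.core.T true), Fav D φ t * (conj ((τ t : ℂˣ) : ℂ) - 1))) = 2 * Fav D φ zz := by
    rw [← sI, Finset.mul_sum]
    exact Finset.sum_congr rfl fun τ _ => by ring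
  have e : ∀ τ : ↥(D.core.T true) →* ℂˣ, (τ zz : ℂ) * classInner φ (fT Ω r τ) =
      (τ zz : ℂ) * classInner φ (D.core.R Ω true τ) + (τ zz : ℂ) * classInner φ (D.core.R Ω true (crC r τ)) +
        (τ zz : ℂ) * classInner φ (D.core.R Ω true (crC r (crC r τ))) -
        (τ zz : ℂ) * (3 * classInner φ (D.core.R Ω true 1)) -
        (τ zz : ℂ) * (2 * ((Nat.card (D.core.T true) : ℂ)⁻¹ *
          ∑ t : ↥(D.core.T true), Fav D φ t * (conj ((τ t : ℂˣ) : ℂ) - 1))) := fun τ => by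
    rw [hφdef, inner_fT hD hr hχ, gT, classInner_sub_right, classInner_add_right, classInner_add_right,
      classInner_smul_right, map_ofNat]
    ring
  simp only [e, Finset.sum_sub_distrib, Finset.sum_add_distrib]
  rw [s0, s1, s2, hav1, hav2, sI', ← Finset.sum_mul, hzero, zero_mul]
  ring

open Classical in
/-- The two coefficients of a signed character of the principal block. -/
theorem value_data [Fintype (↥(D.core.T false) →* ℂˣ)] (hM : IsPModular 2 M) {a : G → ℂ} (ha : InB0 M a) :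
    ∃ p q : ℂ, a z = p * (1 + (D.Q : ℂ)) + q * (1 - (D.Q : ℂ)) ∧
      (∑ φ : ↥(D.core.T false) →* ℂˣ, (φ ⟨D.zc, hD.core.zle false hD.zcZ⟩ : ℂ) *
          classInner (fun x : Cz z => a x) (D.core.R Ω false φ)) = 2 * q ∧
      (∑ x ∈ secZ D.core D.zc, a x * (1 + D.Sh Ω x)) =
        2 * p * (Nat.card (Cz z) : ℂ) / (Nat.card (D.core.T true) : ℂ) := by
  obtain ⟨χ, hχ, e⟩ := ha
  obtain ⟨p, q, -, h1, h2, h3⟩ := zsection (Ω := Ω) hD hM hχ
  rcases e with rfl | rfl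
  · exact ⟨p, q, h1, h2, h3⟩
  · refine ⟨-p, -q, by rw [Pi.neg_apply, h1]; ring, ?_, ?_⟩
    · have e : (fun x : Cz z => (-(χ : G → ℂ)) x) = -(fun x : Cz z => (χ : G → ℂ) x) := rfl
      simp only [e, classInner_neg_left, mul_neg, Finset.sum_neg_distrib, h2]
    · simp only [Pi.neg_apply, neg_mul, Finset.sum_neg_distrib, h3]
      ring

variable (hgen : ∀ (b : Bool) (τ : ↥(D.core.T b) →* ℂˣ), IsGeneralizedCharacter (Cz z) (D.core.R Ω b τ))
  (he : D.Six Ω M e)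
include hgen he

open Classical in
/-- The coefficient on the cyclic torus. -/
theorem r_formula [Fintype (↥(D.core.T false) →* ℂˣ)] (i : Fin 6) :
    ∑ φ : ↥(D.core.T false) →* ℂˣ, (φ ⟨D.zc, hD.core.zle false hD.zcZ⟩ : ℂ) *
        classInner (fun x : Cz z => e i x) (D.core.R Ω false φ) =
      ((![-1, 0, 1, -1, 0, -1] : Fin 6 → ℤ) i : ℂ) +
        2 * (D.θ ⟨D.zc, hD.core.zle false hD.zcZ⟩ : ℂ) * ((![-1, 0, 0, -1, -1, 0] : Fin 6 → ℤ) i : ℂ) +
        (-2 - 2 * (D.θ ⟨D.zc, hD.core.zle false hD.zcZ⟩ : ℂ)) * ((![-1, 0, 0, -1, 0, 0] : Fin 6 → ℤ) i : ℂ) := by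
  set zz : ↥(D.core.T false) := ⟨D.zc, hD.core.zle false hD.zcZ⟩
  set L := D.lamT false
  set th := D.θ
  set th' := D.core.conjChar (hD.core.nnorm false) D.θ
  obtain ⟨t1, tl⟩ : th ≠ 1 ∧ th ≠ L := th_ne hD
  have hne : th' ≠ th := hD.thne
  have hfix : D.core.conjChar (hD.core.nnorm false) L = L := conjChar_lamT hD false
  have t1' : th' ≠ 1 := fun h => t1 (by
    have h2 := congrArg (D.core.conjChar (hD.core.nnorm false)) h
    rwa [conjChar_conjChar hD, conjChar_one hD] at h2)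
  have tl' : th' ≠ L := fun h => tl (by
    have h2 := congrArg (D.core.conjChar (hD.core.nnorm false)) h
    rwa [conjChar_conjChar hD, hfix] at h2)
  have hzero : ∑ φ : ↥(D.core.T false) →* ℂˣ, (φ zz : ℂ) = 0 := by
    rw [sum_hom_abelian (fun a b => Subtype.ext (hD.core.tcomm false _ a.2 _ b.2)),
      if_neg fun h => (zc_ne hD).1 (congrArg Subtype.val h)]
  have hth' : (th' zz : ℂ) = (th zz : ℂ) := by
    show ((th ⟨D.core.n false * D.zc * (D.core.n false)⁻¹, _⟩ : ℂˣ) : ℂ) = _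
    congr 2
    exact Subtype.ext ((hD.core.nfix false _ (hD.core.zle false hD.zcZ)).2 hD.zcZ)
  have hL : (L zz : ℂ) = 1 := by
    show ((D.lam D.zc : ℂˣ) : ℂ) = 1
    rw [hD.lamz, Units.val_one]
  let w : (↥(D.core.T false) →* ℂˣ) → ℂ := fun φ =>
    if φ = 1 then 0 else if φ = L then ((![-1, 0, 1, -1, 0, -1] : Fin 6 → ℤ) i : ℂ)
      else if φ = th ∨ φ = th' then ((![-1, 0, 0, -1, -1, 0] : Fin 6 → ℤ) i : ℂ)
      else ((![-1, 0, 0, -1, 0, 0] : Fin 6 → ℤ) i : ℂ)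
  have hw : ∀ φ, classInner (fun x : Cz z => e i x) (D.core.R Ω false φ) -
      classInner (fun x : Cz z => e i x) (D.core.R Ω false 1) = w φ := by
    intro φ
    by_cases h1 : φ = 1
    · simp [w, h1]
    obtain ⟨c, hc, c0, c1, cl, cn⟩ := coord_all hD hgen he h1
    have hei : IsClassFunction G (e i) := by
      obtain ⟨χ, -, h | h⟩ := he.inB0 i
      · rw [h]; exact isClassFunction_irr χ.2
      · rw [h]; intro x y; simp only [Pi.neg_apply, isClassFunction_irr χ.2 x y]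
    have hv := hc i
    rw [Sys.V, Sys.up, frobenius_reciprocity _ _ hei, ← classInner_comm, classInner_sub_right] at hv
    have hv' := congrArg conj hv
    rw [Complex.conj_conj, map_intCast] at hv'
    rw [hv']
    simp only [w, if_neg h1]
    by_cases hl : φ = L
    · obtain ⟨c2, c3, c4, c5⟩ := cl hl
      rw [if_pos hl]
      congr 1
      fin_cases i <;> simp [c0, c1, c2, c3, c4, c5]
    · obtain ⟨c2, c3, c5, c4o, c4n⟩ := cn hl
      rw [if_neg hl]
      by_cases ho : φ = th ∨ φ = th'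
      · rw [if_pos ho]
        congr 1
        fin_cases i <;> simp [c0, c1, c2, c3, c4o ho, c5]
      · rw [if_neg ho]
        congr 1
        fin_cases i <;> simp [c0, c1, c2, c3, c4n ho, c5]
  have e1 : ∑ φ : ↥(D.core.T false) →* ℂˣ, (φ zz : ℂ) * classInner (fun x : Cz z => e i x) (D.core.R Ω false φ) =
      ∑ φ : ↥(D.core.T false) →* ℂˣ, (φ zz : ℂ) * w φ := by
    simp only [← hw, mul_sub, Finset.sum_sub_distrib, ← Finset.sum_mul, hzero, zero_mul, sub_zero]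
  rw [e1]
  set A := ((![-1, 0, 1, -1, 0, -1] : Fin 6 → ℤ) i : ℂ)
  set B := ((![-1, 0, 0, -1, -1, 0] : Fin 6 → ℤ) i : ℂ)
  set Cg := ((![-1, 0, 0, -1, 0, 0] : Fin 6 → ℤ) i : ℂ)
  have hterm : ∀ φ : ↥(D.core.T false) →* ℂˣ, (φ zz : ℂ) * w φ = Cg * (φ zz : ℂ) -
      (if φ = 1 then Cg else 0) + (if φ = L then A - Cg else 0) +
      ((if φ = th then (th zz : ℂ) * (B - Cg) else 0) + (if φ = th' then (th zz : ℂ) * (B - Cg) else 0)) := by
    intro φ
    simp only [w]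
    by_cases h1 : φ = 1
    · subst h1
      simp [(lamT_ne_one hD false).symm, t1.symm, t1'.symm, L]
    by_cases hl : φ = L
    · subst hl
      simp only [if_neg h1, if_pos trivial, if_neg tl.symm, if_neg tl'.symm, hL]
      ring
    by_cases ha : φ = th
    · subst ha
      simp only [if_neg h1, if_neg hl, true_or, if_true, if_neg hne.symm]
      ring
    by_cases hb : φ = th'
    · subst hb
      simp only [if_neg h1, if_neg hl, if_neg ha, or_true, if_true, hth']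
      ring
    simp only [if_neg h1, if_neg hl, if_neg ha, if_neg hb, if_neg (not_or.2 ⟨ha, hb⟩), Cg]
    ring
  simp only [hterm, Finset.sum_add_distrib, Finset.sum_sub_distrib, ← Finset.mul_sum, hzero,
    Finset.sum_ite_eq', Finset.mem_univ, if_true]
  ring

open Classical in
/-- The coefficient on the torus with the four-group. -/
theorem p_formula [Fintype (↥(D.core.T true) →* ℂˣ)] :
    ∃ x : ℤ, (x = 0 ∨ x = -1) ∧ ∀ i : Fin 6,
      (Nat.card (D.core.T true) : ℂ) * ((Nat.card (Cz z) : ℂ)⁻¹ *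
          ∑ y ∈ secZ D.core D.zc, e i y * (1 + D.Sh Ω y)) =
        (2 * (D.τ0 ⟨D.zc, zcU hD⟩ : ℂ) + 1) * ((![-1, 2, 1, 1, 0, 1] : Fin 6 → ℤ) i : ℂ) +
          (-2 - 2 * (D.τ0 ⟨D.zc, zcU hD⟩ : ℂ)) * ((![-1, 2 + x, -x, 1, 0, -x] : Fin 6 → ℤ) i : ℂ) := by
  obtain ⟨r, g, hr⟩ := exists_auto hD
  obtain ⟨x, hx, hO, hN⟩ := coord_torus hD hr hgen he
  refine ⟨x, hx, fun i => ?_⟩
  have hei : IsClassFunction G (e i) := by
    obtain ⟨χ, -, h | h⟩ := he.inB0 i
    · rw [h]; exact isClassFunction_irr χ.2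
    · rw [h]; intro a b; simp only [Pi.neg_apply, isClassFunction_irr χ.2 a b]
  rw [← sum_fT hD hr hei]
  set zz : ↥(D.core.T true) := ⟨D.zc, zcU hD⟩
  set t0 := D.τ0
  set t0' := cnC hD D.τ0
  set L := D.lamT true
  obtain ⟨d1, d2, d3⟩ := tau0_distinct hD
  obtain ⟨o1, o2, o3⟩ := tau0_isO hD
  set A := ((![-1, 2, 1, 1, 0, 1] : Fin 6 → ℤ) i : ℂ)
  set B := ((![-1, 2 + x, -x, 1, 0, -x] : Fin 6 → ℤ) i : ℂ)
  have hfrob : ∀ τ, classInner (fun y : Cz z => e i y) (fT Ω r τ) = conj (classInner (D.up (fT Ω r τ)) (e i)) :=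
    fun τ => by rw [Sys.up, frobenius_reciprocity _ _ hei, classInner_comm]
  have hf1 : fT Ω r (1 : ↥(D.core.T true) →* ℂˣ) = 0 := by
    funext y
    simp only [fT, gT, cr_one hr, Pi.sub_apply, Pi.add_apply, Pi.smul_apply, smul_eq_mul, Pi.zero_apply]
    split_ifs <;> ring
  have hz0 : ∑ τ : ↥(D.core.T true) →* ℂˣ, (τ zz : ℂ) = 0 := by
    rw [sum_hom_apply_T hD, if_neg fun h => (zc_ne hD).1 (congrArg Subtype.val h)]
  have ht' : (t0' zz : ℂ) = (t0 zz : ℂ) := by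
    show ((t0 ⟨D.core.n true * D.zc * (D.core.n true)⁻¹, _⟩ : ℂˣ) : ℂ) = _
    congr 2
    exact Subtype.ext ((hD.core.nfix true _ (zcU hD)).2 hD.zcZ)
  have hL : (L zz : ℂ) = 1 := by
    show ((D.lam D.zc : ℂˣ) : ℂ) = 1
    rw [hD.lamz, Units.val_one]
  have hterm : ∀ τ : ↥(D.core.T true) →* ℂˣ, (τ zz : ℂ) * classInner (fun y : Cz z => e i y) (fT Ω r τ) =
      B * (τ zz : ℂ) - (if τ = 1 then B else 0) + (if τ = L then A - B else 0) +
      ((if τ = t0 then (t0 zz : ℂ) * (A - B) else 0) + (if τ = t0' then (t0 zz : ℂ) * (A - B) else 0)) := by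
    intro τ
    by_cases h1 : τ = 1
    · subst h1
      rw [hf1]
      simp [classInner, (lamT_ne_one hD true).symm, o1.1.symm, o2.1.symm, L, t0, t0']
    rw [hfrob]
    by_cases ho : IsO τ
    · rw [hO τ ho i, map_intCast]
      rcases (isO_iff hD τ).1 ho with rfl | rfl | rfl <;> simp only [t0, t0', L] at ht' hL ⊢
      · simp only [if_neg h1, if_neg d2, if_pos trivial, if_neg (Ne.symm d1)]; ring
      · simp only [if_neg h1, if_neg d3, if_neg d1, if_pos trivial, ht']; ring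
      · simp only [if_neg h1, if_pos trivial, if_neg (Ne.symm d2), if_neg (Ne.symm d3), hL]; ring
    · have q1 : τ ≠ L := fun h => ho (by rw [h]; exact o3)
      have q2 : τ ≠ t0 := fun h => ho (by rw [h]; exact o1)
      have q3 : τ ≠ t0' := fun h => ho (by rw [h]; exact o2)
      rw [hN τ h1 ho i, map_intCast, if_neg h1, if_neg q1, if_neg q2, if_neg q3]
      simp only [add_zero, sub_zero, B]
      rw [mul_comm]
      congr 1
  simp only [hterm, Finset.sum_add_distrib, Finset.sum_sub_distrib, ← Finset.mul_sum, hz0,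
    Finset.sum_ite_eq', Finset.mem_univ, if_true]
  ring

/-- The values at the involution. -/
theorem values (hM : IsPModular 2 M) :
    e 3 z = -(D.Q : ℂ) ∧ (e 4 z) ^ 2 = ((D.Q : ℂ) - 1) ^ 2 ∧
      ((Nat.card D.core.Z = 2 ∧ (D.τ0 ⟨D.zc, zcU hD⟩ : ℂ) = -1 ∧
          e 1 z = -((D.Q : ℂ) + 1) ∧ e 2 z = -(D.Q : ℂ) ∧ e 5 z = -1) ∨
       (4 ≤ Nat.card D.core.Z ∧ (D.τ0 ⟨D.zc, zcU hD⟩ : ℂ) = 1 ∧
          ((e 1 z = -((D.Q : ℂ) + 1) ∧ e 2 z = (D.Q : ℂ) + 2 ∧ e 5 z = 2 * (D.Q : ℂ) + 1) ∨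
           (e 1 z = (D.Q : ℂ) + 1 ∧ e 2 z = -(D.Q : ℂ) ∧ e 5 z = -1)))) := by
  classical
  letI := Fintype.ofFinite (↥(D.core.T true) →* ℂˣ)
  letI := Fintype.ofFinite (↥(D.core.T false) →* ℂˣ)
  obtain ⟨x, hx, hp⟩ := p_formula hD hgen he
  set th := (D.θ ⟨D.zc, hD.core.zle false hD.zcZ⟩ : ℂ)
  set δ := (D.τ0 ⟨D.zc, zcU hD⟩ : ℂ)
  have key : ∀ i, e i z =
      ((2 * δ + 1) * ((![-1, 2, 1, 1, 0, 1] : Fin 6 → ℤ) i : ℂ) +
        (-2 - 2 * δ) * ((![-1, 2 + x, -x, 1, 0, -x] : Fin 6 → ℤ) i : ℂ)) / 2 * (1 + (D.Q : ℂ)) +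
      (((![-1, 0, 1, -1, 0, -1] : Fin 6 → ℤ) i : ℂ) + 2 * th * ((![-1, 0, 0, -1, -1, 0] : Fin 6 → ℤ) i : ℂ) +
        (-2 - 2 * th) * ((![-1, 0, 0, -1, 0, 0] : Fin 6 → ℤ) i : ℂ)) / 2 * (1 - (D.Q : ℂ)) := by
    intro i
    obtain ⟨p, q, h1, h2, h3⟩ := value_data hD hM (he.inB0 i)
    rw [r_formula hD hgen he] at h2
    have h4 := hp i
    rw [h3] at h4
    have hC : (Nat.card (Cz z) : ℂ) ≠ 0 := Nat.cast_ne_zero.2 Nat.card_pos.ne'
    have hT : (Nat.card (D.core.T true) : ℂ) ≠ 0 := Nat.cast_ne_zero.2 Nat.card_pos.ne'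
    rw [show (Nat.card (D.core.T true) : ℂ) * ((Nat.card (Cz z) : ℂ)⁻¹ *
      (2 * p * (Nat.card (Cz z) : ℂ) / (Nat.card (D.core.T true) : ℂ))) = 2 * p by field_simp] at h4
    rw [h1, ← h4, h2]
    ring
  have hth : th * th = 1 := by
    have hz : (⟨D.zc, hD.core.zle false hD.zcZ⟩ : ↥(D.core.T false)) * ⟨D.zc, hD.core.zle false hD.zcZ⟩ = 1 :=
      Subtype.ext (zc_ne hD).2
    rw [← Units.val_mul, ← map_mul, hz, map_one, Units.val_one]
  have k1 := key 1
  have k2 := key 2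
  have k3 := key 3
  have k4 := key 4
  have k5 := key 5
  simp only [Matrix.cons_val_one, Matrix.cons_val_zero, Matrix.cons_val] at k1 k2 k3 k4 k5
  push_cast at k1 k2 k3 k4 k5
  refine ⟨by rw [k3]; ring, by rw [k4]; linear_combination ((D.Q : ℂ) - 1) ^ 2 * hth, ?_⟩
  rcases delta_cases hD with ⟨h2, hδ, -⟩ | ⟨h4, hδ⟩
  · left
    rw [show δ = -1 from hδ] at k1 k2 k5
    exact ⟨h2, hδ, by rw [k1]; ring, by rw [k2]; ring, by rw [k5]; ring⟩
  · right
    rw [show δ = 1 from hδ] at k1 k2 k5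
    refine ⟨h4, hδ, ?_⟩
    rcases hx with rfl | rfl
    · left; exact ⟨by rw [k1]; push_cast; ring, by rw [k2]; push_cast; ring, by rw [k5]; push_cast; ring⟩
    · right; exact ⟨by rw [k1]; push_cast; ring, by rw [k2]; push_cast; ring, by rw [k5]; push_cast; ring⟩

end CfsgLib.BrauerOrder
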